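import Cfsg.Agent.Lib.Classical.CliffordTwo.Quad
import Mathlib.GroupTheory.OrderOfElement

/-!
Projective labelled groups: an elementary abelian group labelled by a symplectic space together with square roots
inducing transvections, and the fusion theorem in dimensions four and six.
-/

set_option autoImplicit false
set_option linter.unusedSectionVars false

namespace Cfsg.Agent.Classical.CliffordTwo

open Module

local notation "Z2" => ZMod 2

/-- Two involutions are conjugate in the group they generate or there is a central involution. -/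
theorem dihedral_cases {G : Type*} [Group G] [Finite G] {u v : G} (hu : u * u = 1) (hv : v * v = 1) :
    (∃ l : ℕ, v = (u * v) ^ l * u * ((u * v) ^ l)⁻¹) ∨
    ∃ n : ℕ, (u * v) ^ n ≠ 1 ∧ (u * v) ^ n * (u * v) ^ n = 1 ∧ (u * v) ^ n * u = u * (u * v) ^ n ∧
      (u * v) ^ n * v = v * (u * v) ^ n ∧
      ((∃ l : ℕ, u * (u * v) ^ n = (u * v) ^ l * u * ((u * v) ^ l)⁻¹ ∧
          v * (u * v) ^ n = (u * v) ^ l * v * ((u * v) ^ l)⁻¹) ∨
        ∃ l : ℕ, u * (u * v) ^ n = (u * v) ^ l * v * ((u * v) ^ l)⁻¹) := by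
  obtain ⟨k, hk⟩ : ∃ k, k = u * v := ⟨_, rfl⟩
  have hu' : u⁻¹ = u := inv_eq_of_mul_eq_one_right hu
  have hv' : v⁻¹ = v := inv_eq_of_mul_eq_one_right hv
  have hku : ∀ l : ℕ, u * k ^ l = (k ^ l)⁻¹ * u := fun l => by
    induction l with
    | zero => simp
    | succ l ih =>
      rw [pow_succ', ← mul_assoc, _root_.mul_inv_rev]
      have e1 : u * k = k⁻¹ * u := by
        rw [hk, _root_.mul_inv_rev, hv', hu', ← mul_assoc, hu, one_mul, mul_assoc, hu, mul_one]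
      rw [e1, mul_assoc, ih, ← mul_assoc, ← _root_.mul_inv_rev, ← _root_.mul_inv_rev, ← pow_succ, ← pow_succ']
  have hcu : ∀ l : ℕ, k ^ l * u * (k ^ l)⁻¹ = k ^ (2 * l) * u := fun l => by
    rw [two_mul, pow_add, mul_assoc (k ^ l) (k ^ l), mul_assoc (k ^ l) u]
    congr 1
    rw [eq_comm, eq_mul_inv_iff_mul_eq, mul_assoc, hku, mul_inv_cancel_left]
  have hvk : v = k⁻¹ * u := by rw [hk, _root_.mul_inv_rev, hv', hu', mul_assoc, hu, mul_one]
  have ho : 0 < orderOf k := orderOf_pos k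
  rcases Nat.even_or_odd (orderOf k) with ⟨n, hn⟩ | ⟨n, hn⟩
  · right
    have h2 : k ^ n * k ^ n = 1 := by rw [← pow_add, ← hn, pow_orderOf_eq_one]
    have hinv : (k ^ n)⁻¹ = k ^ n := inv_eq_of_mul_eq_one_right h2
    have hzu : k ^ n * u = u * k ^ n := by rw [hku, hinv]
    rw [← hk]
    refine ⟨n, fun e => ?_, h2, hzu, ?_, ?_⟩
    · have h1 := orderOf_le_of_pow_eq_one (show 0 < n by omega) e
      omega
    · rw [hvk, ← mul_assoc, ← (Commute.refl k).inv_left.pow_right n |>.eq, mul_assoc, hzu, mul_assoc]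
    · rcases Nat.even_or_odd n with ⟨l, hl⟩ | ⟨l, hl⟩
      · refine Or.inl ⟨l, by rw [hcu, ← hzu, two_mul, ← hl], ?_⟩
        have hc := ((Commute.refl k).inv_left.pow_right l).eq
        rw [hvk, ← mul_assoc (k ^ l), ← hc, mul_assoc k⁻¹ u, mul_assoc k⁻¹ (k ^ l) u, mul_assoc k⁻¹, hcu, ← hzu,
          two_mul, ← hl]
      · refine Or.inr ⟨l + 1, ?_⟩
        have e : k ^ (l + 1) * v * (k ^ (l + 1))⁻¹ = k⁻¹ * (k ^ (l + 1) * u * (k ^ (l + 1))⁻¹) := by
          have hc := ((Commute.refl k).inv_left.pow_right (l + 1)).eq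
          rw [hvk, ← mul_assoc (k ^ (l + 1)), ← hc]
          simp only [mul_assoc]
        rw [e, hcu, ← mul_assoc, ← hzu, show 2 * (l + 1) = n + 1 by omega, pow_succ', inv_mul_cancel_left]
  · left
    rw [← hk]
    refine ⟨n, ?_⟩
    have e : k ^ (2 * n) = k⁻¹ := eq_inv_of_mul_eq_one_left (by rw [← pow_succ, ← hn, pow_orderOf_eq_one])
    rw [hcu, e, hvk]

/-- Projective labelled elements with square roots inducing transvections. -/
structure PSys (P : Type*) [Group P] (V : Type*) [AddCommGroup V] [Module (ZMod 2) V] extends Qd V where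
  t : V → P
  sig : V → P
  t_add : ∀ v w, t (v + w) = t v * t w
  t_inj : ∀ v, t v = 1 → v = 0
  full : ∀ g : P, (∀ v, g * t v = t v * g) → ∃ v, g = t v
  sig_sq : ∀ v, sig v * sig v = t v
  sig_conj : ∀ v u, sig v * t u * (sig v)⁻¹ = t (u + B v u • v)
  sig_cent : ∀ (g : P) (v : V), g * t v = t v * g → g * sig v * g⁻¹ = sig v ∨ g * sig v * g⁻¹ = (sig v)⁻¹
  B_conj : ∀ (g : P) (v v' u u' : V), g * t v * g⁻¹ = t v' → g * t u * g⁻¹ = t u' → B v u = B v' u'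

namespace PSys

variable {P : Type*} [Group P] {V : Type*} [AddCommGroup V] [Module (ZMod 2) V] (S : PSys P V)

theorem t_zero : S.t 0 = 1 := by
  have h := S.t_add 0 0
  rw [add_zero] at h
  exact left_eq_mul.1 h

theorem t_sq (v : V) : S.t v * S.t v = 1 := by rw [← S.t_add, vadd_self, S.t_zero]

theorem t_inv (v : V) : (S.t v)⁻¹ = S.t v := inv_eq_of_mul_eq_one_right (S.t_sq v)

theorem t_comm (v w : V) : S.t v * S.t w = S.t w * S.t v := by rw [← S.t_add, ← S.t_add, add_comm]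

theorem t_injective : Function.Injective S.t := fun v w e =>
  vadd_eq_zero (S.t_inj _ (by rw [S.t_add, e, S.t_sq]))

/-- The labelled elements. -/
def R : Subgroup P where
  carrier := {g | ∃ v, g = S.t v}
  one_mem' := ⟨0, S.t_zero.symm⟩
  mul_mem' := by
    rintro a b ⟨v, rfl⟩ ⟨w, rfl⟩
    exact ⟨v + w, (S.t_add v w).symm⟩
  inv_mem' := by
    rintro a ⟨v, rfl⟩
    exact ⟨v, S.t_inv v⟩

variable [Finite V]

/-- The normaliser. -/
def N : Subgroup P where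
  carrier := {g | ∀ v, ∃ w, g * S.t v * g⁻¹ = S.t w}
  one_mem' v := ⟨v, by simp⟩
  mul_mem' := by
    intro a b ha hb v
    obtain ⟨w, hw⟩ := hb v
    obtain ⟨x, hx⟩ := ha w
    exact ⟨x, by rw [← hx, ← hw]; simp [mul_assoc]⟩
  inv_mem' := by
    intro a ha v
    choose f hf using ha
    have hinj : Function.Injective f := fun x y e => S.t_injective (by
      have h := (hf x).trans ((congrArg S.t e).trans (hf y).symm)
      simpa using h)
    obtain ⟨w, hw⟩ := (Finite.injective_iff_surjective.1 hinj) v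
    exact ⟨w, by rw [← hw, ← hf]; simp [mul_assoc]⟩

theorem R_le_N : S.R ≤ S.N := by
  rintro g ⟨u, rfl⟩ v
  exact ⟨v, by rw [S.t_comm, mul_inv_cancel_right]⟩

theorem t_mem_N (v : V) : S.t v ∈ S.N := S.R_le_N ⟨v, rfl⟩

theorem sig_mem_N (v : V) : S.sig v ∈ S.N := fun u => ⟨_, S.sig_conj v u⟩

/-- The action of the normaliser. -/
noncomputable def phi (g : P) (v : V) : V :=
  @_root_.Classical.epsilon V ⟨0⟩ fun w => g * S.t v * g⁻¹ = S.t w

theorem phi_eq {g : P} {v w : V} (h : g * S.t v * g⁻¹ = S.t w) : S.phi g v = w :=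
  S.t_injective ((@_root_.Classical.epsilon_spec V (fun x => g * S.t v * g⁻¹ = S.t x) ⟨w, h⟩).symm.trans h)

theorem phi_spec {g : P} (hg : g ∈ S.N) (v : V) : g * S.t v * g⁻¹ = S.t (S.phi g v) := by
  obtain ⟨w, hw⟩ := hg v
  rwa [S.phi_eq hw]

theorem phi_add {g : P} (hg : g ∈ S.N) (v w : V) : S.phi g (v + w) = S.phi g v + S.phi g w := by
  refine S.phi_eq ?_
  rw [S.t_add, S.t_add, ← S.phi_spec hg, ← S.phi_spec hg]
  simp [mul_assoc]

theorem phi_zero {g : P} (hg : g ∈ S.N) : S.phi g 0 = 0 := by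
  have h := S.phi_add hg 0 0
  rwa [add_zero, vadd_self] at h

theorem phi_mul {g h : P} (hg : g ∈ S.N) (hh : h ∈ S.N) (v : V) : S.phi (g * h) v = S.phi g (S.phi h v) := by
  refine S.phi_eq ?_
  rw [← S.phi_spec hg, ← S.phi_spec hh]
  simp [mul_assoc]

theorem phi_one (v : V) : S.phi 1 v = v := S.phi_eq (by simp)

theorem phi_injective {g : P} (hg : g ∈ S.N) : Function.Injective (S.phi g) := fun a b h => by
  have h1 := congrArg (S.phi g⁻¹) h
  rwa [← S.phi_mul (inv_mem hg) hg, ← S.phi_mul (inv_mem hg) hg, inv_mul_cancel, S.phi_one, S.phi_one] at h1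

theorem B_phi {g : P} (hg : g ∈ S.N) (v w : V) : S.B (S.phi g v) (S.phi g w) = S.B v w :=
  (S.B_conj g v _ w _ (S.phi_spec hg v) (S.phi_spec hg w)).symm

theorem phi_sig (v u : V) : S.phi (S.sig v) u = u + S.B v u • v := S.phi_eq (S.sig_conj v u)

theorem phi_t (v u : V) : S.phi (S.t v) u = u := S.phi_eq (by rw [S.t_comm, mul_inv_cancel_right])

theorem comm_of_phi {g : P} (hg : g ∈ S.N) {v : V} (h : S.phi g v = v) : g * S.t v = S.t v * g := by
  have := S.phi_spec hg v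
  rw [h] at this
  exact mul_inv_eq_iff_eq_mul.1 this

theorem phi_of_comm {g : P} {v : V} (h : g * S.t v = S.t v * g) : S.phi g v = v :=
  S.phi_eq (mul_inv_eq_iff_eq_mul.2 h)

theorem mem_R_of_phi {g : P} (hg : g ∈ S.N) (h : ∀ v, S.phi g v = v) : g ∈ S.R :=
  S.full g fun v => S.comm_of_phi hg (h v)

/-- The action minus the identity. -/
noncomputable def disp {g : P} (hg : g ∈ S.N) : V →ₗ[ZMod 2] V where
  toFun v := S.phi g v + v
  map_add' a b := by rw [S.phi_add hg]; abel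
  map_smul' c v := by
    rcases z2_cases c with rfl | rfl
    · simp [S.phi_zero hg]
    · simp

theorem disp_apply {g : P} (hg : g ∈ S.N) (v : V) : S.disp hg v = S.phi g v + v := rfl

theorem disp_eq_zero {g : P} (hg : g ∈ S.N) {v : V} : S.disp hg v = 0 ↔ S.phi g v = v := by
  rw [disp_apply]
  exact ⟨vadd_eq_zero, fun e => by rw [e, vadd_self]⟩

theorem range_disp {g : P} (hg : g ∈ S.N) :
    LinearMap.range (S.disp hg) = S.toQd.perp (LinearMap.ker (S.disp hg)) := by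
  refine Submodule.eq_of_le_of_finrank_eq ?_ ?_
  · rintro _ ⟨a, rfl⟩ b hb
    rw [LinearMap.mem_ker, S.disp_eq_zero hg] at hb
    rw [disp_apply, map_add]
    nth_rewrite 1 [← hb]
    rw [S.B_phi hg, z2_add_self]
  · rw [S.toQd.finrank_perp]
    have := LinearMap.finrank_range_add_finrank_ker (S.disp hg)
    omega

theorem range_le_ker {g : P} (hg : g ∈ S.N) (h2 : g * g = 1) :
    LinearMap.range (S.disp hg) ≤ LinearMap.ker (S.disp hg) := by
  rintro _ ⟨a, rfl⟩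
  rw [LinearMap.mem_ker, disp_apply, disp_apply, S.phi_add hg, ← S.phi_mul hg hg, h2, S.phi_one]
  rw [add_comm (S.phi g a) a, vadd_self]

/-- The fusion hypotheses. -/
structure Fus (H : Subgroup P) (m : ℕ) : Prop where
  dim : finrank (ZMod 2) V = 2 * m
  two : 2 ≤ m
  three : m ≤ 3
  t_mem : ∀ v, S.t v ∈ H
  sig_mem : ∀ v, S.sig v ∈ H
  cent : ∀ g ∈ H, ∀ v, v ≠ 0 → g * S.t v = S.t v * g → g ∈ S.N

/-- The transvection elements move any vector to any other one. -/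
theorem exists_move {H : Subgroup P} (hsig : ∀ v, S.sig v ∈ H) (hd : 2 ≤ finrank (ZMod 2) V) {v w : V} (hv : v ≠ 0)
    (hw : w ≠ 0) : ∃ n ∈ H, n ∈ S.N ∧ S.phi n v = w := by
  have step : ∀ a b : V, S.B a b = 1 → S.phi (S.sig (a + b)) a = b := fun a b hab => by
    rw [S.phi_sig, map_add, LinearMap.add_apply, S.toQd.self_perp, S.toQd.symm b a, hab, zero_add, one_smul,
      ← add_assoc, vadd_self, zero_add]
  rcases z2_cases (S.B v w) with h | h
  · obtain ⟨u, hu1, hu2⟩ : ∃ u, S.B v u = 1 ∧ S.B u w = 1 := by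
      obtain ⟨a, -, ha⟩ := S.toQd.exists_perp_one (S := ⊥) (v := v) (by simpa using hv)
      obtain ⟨b, -, hb⟩ := S.toQd.exists_perp_one (S := ⊥) (v := w) (by simpa using hw)
      rw [S.toQd.symm] at hb
      rcases z2_cases (S.B a w) with h1 | h1
      · rcases z2_cases (S.B v b) with h2 | h2
        · exact ⟨a + b, by rw [map_add, ha, h2]; rfl, by rw [map_add, LinearMap.add_apply, h1, hb]; rfl⟩
        · exact ⟨b, h2, hb⟩
      · exact ⟨a, ha, h1⟩
    exact ⟨S.sig (u + w) * S.sig (v + u), mul_mem (hsig _) (hsig _), mul_mem (S.sig_mem_N _) (S.sig_mem_N _), by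
      rw [S.phi_mul (S.sig_mem_N _) (S.sig_mem_N _), step v u hu1, step u w hu2]⟩
  · exact ⟨_, hsig _, S.sig_mem_N _, step v w h⟩

/-- The vectors whose conjugates normalise. -/
def nb (g : P) : Submodule (ZMod 2) V where
  carrier := {w | g * S.t w * g⁻¹ ∈ S.N}
  zero_mem' := by simp [S.t_zero]
  add_mem' := fun {a b} ha hb => by
    show g * S.t (a + b) * g⁻¹ ∈ S.N
    rw [S.t_add, show g * (S.t a * S.t b) * g⁻¹ = g * S.t a * g⁻¹ * (g * S.t b * g⁻¹) by simp [mul_assoc]]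
    exact mul_mem ha hb
  smul_mem' := fun c x hx => by
    rcases z2_smul c x with e | e <;> rw [e]
    · simp [S.t_zero]
    · exact hx

theorem mem_nb {g : P} {w : V} : w ∈ S.nb g ↔ g * S.t w * g⁻¹ ∈ S.N := Iff.rfl

namespace Fus

variable {S} {H : Subgroup P} {m : ℕ} (Q : S.Fus H m)
include Q

theorem conj_mem {g : P} (hg : g ∈ H) (v : V) : g * S.t v * g⁻¹ ∈ H :=
  mul_mem (mul_mem hg (Q.t_mem v)) (inv_mem hg)

theorem mem_N_of_R {g : P} (hg : g ∈ H) {v w : V} (hv : v ≠ 0) (h : g * S.t v * g⁻¹ = S.t w) : g ∈ S.N := by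
  have hw : w ≠ 0 := fun e => hv (S.t_inj v (by
    rw [e, S.t_zero] at h
    exact conj_eq_one_iff.1 h))
  obtain ⟨n, hnH, hnN, hn⟩ := S.exists_move Q.sig_mem (by have := Q.dim; have := Q.two; omega) hw hv
  have hc : n * g ∈ S.N := Q.cent _ (mul_mem hnH hg) v hv (by
    rw [← mul_inv_eq_iff_eq_mul, show n * g * S.t v * (n * g)⁻¹ = n * (g * S.t v * g⁻¹) * n⁻¹ by simp [mul_assoc], h,
      S.phi_spec hnN, hn])
  simpa using mul_mem (inv_mem hnN) hc

theorem conj_ne {g : P} (hg : g ∈ H) (hgN : g ∉ S.N) {w : V} (hw0 : w ≠ 0) (hw : g * S.t w * g⁻¹ ∈ S.N) :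
    S.disp hw ≠ 0 := fun e => hgN (by
  obtain ⟨u, hu⟩ := S.mem_R_of_phi hw fun v => (S.disp_eq_zero hw).1 (LinearMap.congr_fun e v)
  exact Q.mem_N_of_R hg hw0 hu)

theorem ker_eq {g : P} (hg : g ∈ H) (hgN : g ∉ S.N) {w : V} (hw0 : w ≠ 0) (hw : g * S.t w * g⁻¹ ∈ S.N) :
    LinearMap.ker (S.disp hw) = S.nb g⁻¹ := by
  obtain ⟨e, he⟩ : ∃ e, e = g * S.t w * g⁻¹ := ⟨_, rfl⟩
  ext b
  rw [LinearMap.mem_ker, S.disp_eq_zero hw]
  constructor
  · intro hb
    show g⁻¹ * S.t b * (g⁻¹)⁻¹ ∈ S.N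
    refine Q.cent _ (Q.conj_mem (inv_mem hg) b) w hw0 ?_
    have h1 := S.comm_of_phi hw hb
    have h2 := congrArg (fun x => g⁻¹ * x * g) h1
    simpa [mul_assoc] using h2.symm
  · intro hb
    by_contra hne
    obtain ⟨u, hu⟩ : ∃ u, u = S.phi (g * S.t w * g⁻¹) b + b := ⟨_, rfl⟩
    have hu0 : u ≠ 0 := fun e => hne (vadd_eq_zero (hu ▸ e))
    refine hgN (inv_mem_iff.1 (Q.mem_N_of_R (inv_mem hg) hu0 (w := w + S.phi (g⁻¹ * S.t b * (g⁻¹)⁻¹) w) ?_))
    have hb' : g⁻¹ * S.t b * (g⁻¹)⁻¹ ∈ S.N := hb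
    rw [hu, S.t_add, S.t_add, ← S.phi_spec hw, ← S.phi_spec hb']
    have hbb : g⁻¹ * S.t b * g * (g⁻¹ * S.t b * g) = 1 := by
      have := congrArg (fun x => g⁻¹ * x * g) (S.t_sq b)
      simpa [mul_assoc] using this
    have hbb' : (g⁻¹ * S.t b * g)⁻¹ = g⁻¹ * S.t b * g := inv_eq_of_mul_eq_one_right hbb
    have hww : (g * S.t w * g⁻¹)⁻¹ = g * S.t w * g⁻¹ := by simp [mul_assoc, S.t_inv]
    rw [inv_inv, hbb', hww]
    simp [mul_assoc, S.t_inv]

theorem mem_N_of_nb {g : P} (hg : g ∈ H) {v : V} (hv : v ≠ 0) (hn : g * S.t v * g⁻¹ ∈ S.N) : g ∈ S.N := by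
  classical
  by_contra hgN
  have hg' : g⁻¹ ∈ H := inv_mem hg
  have hgN' : g⁻¹ ∉ S.N := fun h => hgN (inv_mem_iff.1 h)
  have hd := Q.dim
  obtain ⟨W, hW⟩ : ∃ W, W = S.nb g := ⟨_, rfl⟩
  obtain ⟨W', hW'⟩ : ∃ W', W' = S.nb g⁻¹ := ⟨_, rfl⟩
  have hinv : ∀ w, g * S.t w * g⁻¹ ∈ S.N → (g * S.t w * g⁻¹) * (g * S.t w * g⁻¹) = 1 := fun w _ => by
    rw [show g * S.t w * g⁻¹ * (g * S.t w * g⁻¹) = g * (S.t w * S.t w) * g⁻¹ by simp [mul_assoc], S.t_sq]
    simp
  have hvW : g * S.t v * g⁻¹ ∈ S.N := hn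
  have hperp : S.toQd.perp W' ≤ W' := by
    have h1 := S.range_le_ker hvW (hinv v hvW)
    rwa [S.range_disp, Q.ker_eq hg hgN hv hvW, ← hW'] at h1
  have hW'm : m ≤ finrank Z2 W' := by
    have h1 := Submodule.finrank_mono hperp
    rw [S.toQd.finrank_perp] at h1
    omega
  obtain ⟨b₀, hb₀, hb₀0⟩ : ∃ b₀ ∈ W', b₀ ≠ 0 := by
    refine Submodule.exists_mem_ne_zero_of_ne_bot fun e => ?_
    rw [e, finrank_bot] at hW'm
    have := Q.two
    omega
  have hkW : ∀ b, b ≠ 0 → ∀ hb : g⁻¹ * S.t b * (g⁻¹)⁻¹ ∈ S.N, LinearMap.ker (S.disp hb) = W := fun b hb0 hb => by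
    rw [Q.ker_eq hg' hgN' hb0 hb, inv_inv, hW]
  have hperpW : S.toQd.perp W ≤ W := by
    have hb : g⁻¹ * S.t b₀ * (g⁻¹)⁻¹ ∈ S.N := by rw [hW'] at hb₀; exact hb₀
    have hinv' : (g⁻¹ * S.t b₀ * (g⁻¹)⁻¹) * (g⁻¹ * S.t b₀ * (g⁻¹)⁻¹) = 1 := by
      rw [show g⁻¹ * S.t b₀ * (g⁻¹)⁻¹ * (g⁻¹ * S.t b₀ * (g⁻¹)⁻¹) = g⁻¹ * (S.t b₀ * S.t b₀) * g by simp [mul_assoc],
        S.t_sq]
      simp
    have h1 := S.range_le_ker hb hinv'
    rwa [S.range_disp, hkW b₀ hb₀0 hb] at h1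
  have hWm : m ≤ finrank Z2 W := by
    have h1 := Submodule.finrank_mono hperpW
    rw [S.toQd.finrank_perp] at h1
    omega
  have hmemW : ∀ w : W, g * S.t (w : V) * g⁻¹ ∈ S.N := fun w => by have h1 := w.2; simp only [hW] at h1; exact h1
  -- the displacement is additive in the conjugated vector
  have hfix : ∀ (w : W) (y : V), y ∈ W' → S.phi (g * S.t w * g⁻¹) y = y := fun w y hy => by
    rcases eq_or_ne (w : V) 0 with e | e
    · rw [e, S.t_zero, mul_one, mul_inv_cancel, S.phi_one]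
    · rw [← S.disp_eq_zero (hmemW w), ← LinearMap.mem_ker, Q.ker_eq hg hgN e (hmemW w), ← hW']
      exact hy
  have hrange : ∀ (w : W) (a : V), S.disp (hmemW w) a ∈ S.toQd.perp W' := fun w a => by
    rcases eq_or_ne (w : V) 0 with e | e
    · rw [S.disp_apply, e, S.t_zero, mul_one, mul_inv_cancel, S.phi_one, vadd_self]
      exact zero_mem _
    · rw [hW', ← Q.ker_eq hg hgN e (hmemW w), ← S.range_disp]
      exact ⟨a, rfl⟩
  have hadd : ∀ (w₁ w₂ : W) (a : V),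
      S.disp (hmemW (w₁ + w₂)) a = S.disp (hmemW w₁) a + S.disp (hmemW w₂) a := fun w₁ w₂ a => by
    have e : g * S.t ((w₁ + w₂ : W) : V) * g⁻¹ = g * S.t w₁ * g⁻¹ * (g * S.t w₂ * g⁻¹) := by
      rw [Submodule.coe_add, S.t_add]; simp [mul_assoc]
    simp only [S.disp_apply, e, S.phi_mul (hmemW w₁) (hmemW w₂)]
    obtain ⟨n₂, hn₂⟩ : ∃ n₂, n₂ = S.phi (g * S.t w₂ * g⁻¹) a + a := ⟨_, rfl⟩
    have h2 : S.phi (g * S.t w₂ * g⁻¹) a = n₂ + a := by rw [hn₂, add_assoc, vadd_self, add_zero]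
    have hn₂' : n₂ ∈ W' := hperp (hn₂ ▸ hrange w₂ a)
    rw [h2, S.phi_add (hmemW w₁), hfix w₁ n₂ hn₂', add_assoc n₂ a a, vadd_self, add_zero, add_assoc, add_comm n₂]
  obtain ⟨a, ha⟩ : ∃ a, a ∉ W' := by
    by_contra hall
    push Not at hall
    exact Q.conj_ne hg hgN hv hvW (LinearMap.ext fun x => by
      rw [LinearMap.zero_apply, S.disp_eq_zero]
      exact hfix ⟨v, hW ▸ hvW⟩ x (hall x))
  obtain ⟨ev, hev⟩ : ∃ ev : W →ₗ[Z2] S.toQd.perp W', ∀ w, (ev w : V) = S.disp (hmemW w) a :=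
    ⟨{ toFun := fun w => ⟨_, hrange w a⟩
       map_add' := fun x y => Subtype.ext (hadd x y a)
       map_smul' := fun c w => Subtype.ext (by
         rcases z2_cases c with rfl | rfl
         · show S.disp (hmemW _) a = ((0 : Z2) • (_ : S.toQd.perp W') : V)
           simp [S.disp_apply, S.t_zero, S.phi_one, vadd_self]
         · simp) }, fun _ => rfl⟩
  have hle : finrank Z2 W ≤ finrank Z2 (S.toQd.perp W') := by
    refine LinearMap.finrank_le_finrank_of_injective (f := ev) ((injective_iff_map_eq_zero ev).2 fun w hw => ?_)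
    by_contra hw0
    have h1 := congrArg Subtype.val hw
    rw [hev, ZeroMemClass.coe_zero] at h1
    refine ha ?_
    rw [hW', ← Q.ker_eq hg hgN (fun e => hw0 (Subtype.ext e)) (hmemW w), LinearMap.mem_ker]
    exact h1
  rw [S.toQd.finrank_perp] at hle
  have := Q.two
  have hW'eq : finrank Z2 W' = m := by omega
  have hWeq : finrank Z2 W = m := by omega
  have hW'self : S.toQd.perp W' = W' := Submodule.eq_of_le_of_finrank_eq hperp (by rw [S.toQd.finrank_perp]; omega)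
  have hWself : S.toQd.perp W = W := Submodule.eq_of_le_of_finrank_eq hperpW (by rw [S.toQd.finrank_perp]; omega)
  -- two independent vectors
  obtain ⟨w₂, hw₂, hw₂v⟩ : ∃ w₂ ∈ W, w₂ ∉ Submodule.span Z2 ({v} : Set V) := by
    by_contra hcon
    push Not at hcon
    have := Submodule.finrank_mono hcon
    have := Qd.finrank_span_one_le v
    have := Q.two
    omega
  have hw₂0 : w₂ ≠ 0 := fun e => hw₂v (e ▸ zero_mem _)
  have hBvw : S.B v w₂ = 0 := by
    have h1 : v ∈ W := hW ▸ hvW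
    have h2 : w₂ ∈ S.toQd.perp W := hWself.symm ▸ hw₂
    exact h2 v h1
  obtain ⟨σe, hσe⟩ : ∃ σe, σe = g * S.sig v * g⁻¹ := ⟨_, rfl⟩
  have hσH : σe ∈ H := hσe ▸ mul_mem (mul_mem hg (Q.sig_mem v)) (inv_mem hg)
  obtain ⟨b, hb, hb0, hbσ⟩ : ∃ b ∈ W', b ≠ 0 ∧ σe * S.t b = S.t b * σe := by
    have hcases : ∀ b ∈ W', g⁻¹ * S.t b * g * S.sig v * (g⁻¹ * S.t b * g)⁻¹ = S.sig v ∨
        g⁻¹ * S.t b * g * S.sig v * (g⁻¹ * S.t b * g)⁻¹ = (S.sig v)⁻¹ := fun b hb => by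
      refine S.sig_cent _ v ?_
      have h1 := S.comm_of_phi hvW (hfix ⟨v, hW ▸ hvW⟩ b hb)
      have h2 := congrArg (fun x => g⁻¹ * x * g) h1
      simpa [mul_assoc] using h2.symm
    have hfin : ∀ b, g⁻¹ * S.t b * g * S.sig v * (g⁻¹ * S.t b * g)⁻¹ = S.sig v → σe * S.t b = S.t b * σe := by
      intro b h1
      have h2 := congrArg (fun x => g * x * g⁻¹) (mul_inv_eq_iff_eq_mul.1 h1)
      rw [hσe]
      simpa [mul_assoc] using h2.symm
    obtain ⟨b', hb', hbb⟩ : ∃ b' ∈ W', b' ∉ Submodule.span Z2 ({b₀} : Set V) := by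
      by_contra hcon
      push Not at hcon
      have := Submodule.finrank_mono hcon
      have := Qd.finrank_span_one_le b₀
      have := Q.two
      omega
    rcases hcases b₀ hb₀ with h1 | h1
    · exact ⟨b₀, hb₀, hb₀0, hfin _ h1⟩
    rcases hcases b' hb' with h2 | h2
    · exact ⟨b', hb', fun e => hbb (e ▸ zero_mem _), hfin _ h2⟩
    refine ⟨b' + b₀, add_mem hb' hb₀, fun e => hbb ?_, hfin _ ?_⟩
    · rw [vadd_eq_zero e]; exact Submodule.subset_span rfl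
    · rw [S.t_add, show g⁻¹ * (S.t b' * S.t b₀) * g = g⁻¹ * S.t b' * g * (g⁻¹ * S.t b₀ * g) by simp [mul_assoc],
        show g⁻¹ * S.t b' * g * (g⁻¹ * S.t b₀ * g) * S.sig v * (g⁻¹ * S.t b' * g * (g⁻¹ * S.t b₀ * g))⁻¹ =
          g⁻¹ * S.t b' * g * (g⁻¹ * S.t b₀ * g * S.sig v * (g⁻¹ * S.t b₀ * g)⁻¹) * (g⁻¹ * S.t b' * g)⁻¹ by
          simp [mul_assoc], h1]
      have h3 := congrArg (fun x => x⁻¹) h2
      simpa [mul_assoc] using h3
  have hσN : σe ∈ S.N := Q.cent _ hσH b hb0 hbσ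
  have hσsq : σe * σe = g * S.t v * g⁻¹ := by rw [hσe, ← S.sig_sq]; simp [mul_assoc]
  have hw₂N : g * S.t w₂ * g⁻¹ ∈ S.N := by
    have := hw₂; rw [hW] at this; exact this
  have hσw : σe * (g * S.t w₂ * g⁻¹) = g * S.t w₂ * g⁻¹ * σe := by
    have h1 := S.sig_conj v w₂
    rw [hBvw, zero_smul, add_zero, mul_inv_eq_iff_eq_mul] at h1
    have h2 := congrArg (fun x => g * x * g⁻¹) h1
    rw [hσe]
    simpa [mul_assoc] using h2
  obtain ⟨A₁, hA₁⟩ : ∃ A₁, A₁ = S.disp hvW := ⟨_, rfl⟩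
  obtain ⟨A₂, hA₂⟩ : ∃ A₂, A₂ = S.disp hw₂N := ⟨_, rfl⟩
  obtain ⟨D, hD⟩ : ∃ D, D = S.disp hσN := ⟨_, rfl⟩
  have hDD : ∀ x, S.phi σe (S.phi σe x) = x + A₁ x := fun x => by
    rw [← S.phi_mul hσN hσN, hσsq, hA₁, S.disp_apply, add_comm _ x, ← add_assoc, vadd_self, zero_add]
  have hcomm : ∀ x, D (A₂ x) = A₂ (D x) := fun x => by
    have h1 : S.phi σe (S.phi (g * S.t w₂ * g⁻¹) x) = S.phi (g * S.t w₂ * g⁻¹) (S.phi σe x) := by
      rw [← S.phi_mul hσN hw₂N, hσw, S.phi_mul hw₂N hσN]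
    simp only [hD, hA₂, S.disp_apply, S.phi_add hσN, S.phi_add hw₂N, h1]
    abel
  have hcomm₁ : ∀ x, D (A₁ x) = A₁ (D x) := fun x => by
    have h1 : S.phi σe (S.phi (g * S.t v * g⁻¹) x) = S.phi (g * S.t v * g⁻¹) (S.phi σe x) := by
      rw [← S.phi_mul hσN hvW, ← hσsq, ← mul_assoc, S.phi_mul (hσsq ▸ hvW) hσN]
    simp only [hD, hA₁, S.disp_apply, S.phi_add hσN, S.phi_add hvW, h1]
    abel
  have hkA₁ : LinearMap.ker A₁ = W' := by rw [hA₁, Q.ker_eq hg hgN hv hvW, hW']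
  have hkA₂ : LinearMap.ker A₂ = W' := by rw [hA₂, Q.ker_eq hg hgN hw₂0 hw₂N, hW']
  have hrA₁ : LinearMap.range A₁ = W' := by rw [hA₁, S.range_disp, ← hA₁, hkA₁, hW'self]
  have hrA₂ : LinearMap.range A₂ = W' := by rw [hA₂, S.range_disp, ← hA₂, hkA₂, hW'self]
  have hDW : ∀ y ∈ W', D y ∈ W' := fun y hy => by
    rw [← hkA₁, LinearMap.mem_ker] at hy ⊢
    rw [← hcomm₁, hy, map_zero]
  have hD2 : ∀ y ∈ W', D (D y) = 0 := fun y hy => by
    have h1 := hDD y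
    rw [← hkA₁, LinearMap.mem_ker] at hy
    rw [hy, add_zero] at h1
    simp only [hD, S.disp_apply, S.phi_add hσN, h1]
    rw [add_comm (S.phi σe y) y, vadd_self]
  have hD0 : ∀ y ∈ W', D y = 0 := by
    obtain ⟨D', hD'⟩ : ∃ D' : W' →ₗ[Z2] W', ∀ y : W', (D' y : V) = D y :=
      ⟨(D.comp W'.subtype).codRestrict W' fun y => hDW y y.2, fun y => rfl⟩
    have hr : LinearMap.range D' ≤ LinearMap.ker D' := by
      rintro _ ⟨y, rfl⟩
      exact Subtype.ext (by rw [hD', hD', ZeroMemClass.coe_zero]; exact hD2 y y.2)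
    have h1 := LinearMap.finrank_range_add_finrank_ker D'
    have h2 := Submodule.finrank_mono hr
    have h3 : finrank Z2 (LinearMap.range D') ≤ 1 := by have := Q.three; omega
    intro y hy
    by_contra hne
    obtain ⟨a₀, rfl⟩ : y ∈ LinearMap.range A₁ := by rw [hrA₁]; exact hy
    obtain ⟨c, hc⟩ := finrank_le_one_iff.1 h3
    have hmem : ∀ z ∈ W', D z = 0 ∨ D z = (c : V) := fun z hz => by
      obtain ⟨k, hk⟩ := hc ⟨D' ⟨z, hz⟩, LinearMap.mem_range_self _ _⟩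
      have h4 : k • ((c : W') : V) = D z := by
        have := congrArg (fun u : LinearMap.range D' => ((u : W') : V)) hk
        simpa [hD'] using this
      rcases z2_cases k with rfl | rfl
      · exact Or.inl (by rw [← h4, zero_smul])
      · exact Or.inr (by rw [← h4, one_smul])
    have e1 := (hmem _ hy).resolve_left hne
    have hA2mem : A₂ a₀ ∈ W' := hrA₂ ▸ LinearMap.mem_range_self _ _
    rw [hcomm₁] at e1 hne
    have hk1 : D a₀ ∉ W' := fun h => hne (by rw [← hkA₁, LinearMap.mem_ker] at h; exact h)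
    rcases hmem _ hA2mem with e2 | e2 <;> rw [hcomm] at e2
    · exact hk1 (hkA₂ ▸ LinearMap.mem_ker.2 e2)
    · refine hk1 ?_
      have hsum : S.disp (hmemW (⟨v, hW ▸ hvW⟩ + ⟨w₂, hw₂⟩)) (D a₀) = 0 := by
        rw [hadd]
        show S.disp hvW (D a₀) + S.disp hw₂N (D a₀) = 0
        rw [← hA₁, ← hA₂, e1, e2, vadd_self]
      have hne' : ((⟨v, hW ▸ hvW⟩ + ⟨w₂, hw₂⟩ : W) : V) ≠ 0 := fun e => hw₂v (by
        have h5 : v = w₂ := vadd_eq_zero e
        rw [← h5]; exact Submodule.subset_span rfl)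
      rw [← LinearMap.mem_ker, Q.ker_eq hg hgN hne' (hmemW _), ← hW'] at hsum
      exact hsum
  have hmap : ∀ x, D x ∈ W' := fun x => by
    rw [← hW'self, S.toQd.mem_perp]
    intro y hy
    have h1 : S.phi σe y = y := (S.disp_eq_zero hσN).1 (hD ▸ hD0 y hy)
    rw [hD, S.disp_apply, map_add]
    nth_rewrite 1 [← h1]
    rw [S.B_phi hσN, z2_add_self]
  refine Q.conj_ne hg hgN hv hvW (LinearMap.ext fun x => ?_)
  have h1 : D (D x) = 0 := hD0 _ (hmap x)
  simp only [hD, S.disp_apply, S.phi_add hσN, hDD, hA₁] at h1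
  rw [add_assoc (x + (S.phi (g * S.t v * g⁻¹) x + x)), ← add_assoc (S.phi σe x) (S.phi σe x), vadd_self, zero_add,
    add_comm (S.phi (g * S.t v * g⁻¹) x) x, ← add_assoc x x, vadd_self, zero_add] at h1
  rw [LinearMap.zero_apply, S.disp_apply, h1]

/-- Fusion. -/
theorem le_N [Finite P] : H ≤ S.N := by
  intro g hg
  by_contra hgN
  have hd := Q.dim
  have hm := Q.two
  haveI : Nontrivial V := Module.nontrivial_of_finrank_pos (R := Z2) (by omega)
  obtain ⟨a, ha⟩ := exists_ne (0 : V)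
  obtain ⟨e, -, hae⟩ := S.toQd.exists_perp_one (S := ⊥) (v := a) (by simpa using ha)
  obtain ⟨s, hs⟩ : ∃ s, s = S.sig a * S.t e := ⟨_, rfl⟩
  have hsH : s ∈ H := hs ▸ mul_mem (Q.sig_mem a) (Q.t_mem e)
  have hsN : s ∈ S.N := hs ▸ mul_mem (S.sig_mem_N a) (S.t_mem_N e)
  have hsφ : ∀ u, S.phi s u = u + S.B a u • a := fun u => by
    rw [hs, S.phi_mul (S.sig_mem_N a) (S.t_mem_N e), S.phi_t, S.phi_sig]
  have hs2 : s * s = 1 := by
    have h1 : S.sig a * S.t e * (S.sig a)⁻¹ = S.t (e + a) := by rw [S.sig_conj, hae, one_smul]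
    rw [mul_inv_eq_iff_eq_mul] at h1
    rw [hs]
    nth_rewrite 1 [h1]
    rw [S.t_add, S.t_comm e a, mul_assoc (S.t a * S.t e), ← mul_assoc (S.sig a), S.sig_sq, mul_assoc (S.t a),
      ← mul_assoc (S.t e), S.t_comm e a, mul_assoc (S.t a) (S.t e), S.t_sq, mul_one, S.t_sq]
  have hsR : ∀ v, s ≠ S.t v := fun v e' => by
    have h1 := hsφ e
    rw [e', S.phi_t, hae, one_smul] at h1
    exact ha (left_eq_add.1 h1)
  obtain ⟨x, hx⟩ : ∃ x, x = g * S.t a * g⁻¹ := ⟨_, rfl⟩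
  have hxH : x ∈ H := hx ▸ Q.conj_mem hg a
  have hx2 : x * x = 1 := by
    rw [hx, show g * S.t a * g⁻¹ * (g * S.t a * g⁻¹) = g * (S.t a * S.t a) * g⁻¹ by simp [mul_assoc], S.t_sq]
    simp
  have hpow : ∀ l : ℕ, (s * x) ^ l ∈ H := fun l => pow_mem (mul_mem hsH hxH) l
  have hxN : x ∉ S.N := fun h => hgN (Q.mem_N_of_nb hg ha (hx ▸ h))
  -- an involution with hyperplane fixed space normalising at two places
  obtain ⟨y, h, hyH, hyN, hhH, hhN, hy2, hyφ, hyh⟩ : ∃ y h, y ∈ H ∧ y ∈ S.N ∧ h ∈ H ∧ h ∉ S.N ∧ y * y = 1 ∧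
      (∀ u, S.phi y u = u + S.B a u • a) ∧ h⁻¹ * y * h ∈ S.N := by
    rcases dihedral_cases hs2 hx2 with ⟨l, hl⟩ | ⟨n, hz1, hz2, hzs, hzx, hcase⟩
    · exfalso
      -- the involution would be conjugate to a labelled element
      obtain ⟨f, hf⟩ : ∃ f, f = ((s * x) ^ l)⁻¹ * g := ⟨_, rfl⟩
      have hfs : f * S.t a * f⁻¹ = s := by
        have h1 : g * S.t a * g⁻¹ = (s * x) ^ l * s * ((s * x) ^ l)⁻¹ := hx ▸ hl
        rw [hf, show ((s * x) ^ l)⁻¹ * g * S.t a * (((s * x) ^ l)⁻¹ * g)⁻¹ =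
          ((s * x) ^ l)⁻¹ * (g * S.t a * g⁻¹) * (s * x) ^ l by simp [mul_assoc], h1]
        simp [mul_assoc]
      have hfH : f ∈ H := hf ▸ mul_mem (inv_mem (hpow l)) hg
      have hfN := Q.mem_N_of_nb hfH ha (hfs ▸ hsN)
      exact hsR _ (hfs.symm.trans (S.phi_spec hfN a))
    obtain ⟨z, hz⟩ : ∃ z, z = (s * x) ^ n := ⟨_, rfl⟩
    rw [← hz] at hz1 hz2 hzs hzx hcase
    have hzH : z ∈ H := hz ▸ hpow n
    have hgz : g⁻¹ * z * g ∈ S.N := Q.cent _ (mul_mem (mul_mem (inv_mem hg) hzH) hg) a ha (by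
      have h1 := congrArg (fun w => g⁻¹ * w * g) hzx
      simpa [hx, mul_assoc] using h1)
    -- the conjugate of the labelled element carried by the central involution
    have key : ∀ k ∈ H, ∀ w : P, w = k * S.t a * k⁻¹ → w * s = s * w → k⁻¹ * s * k ∈ S.N := fun k hk w hw hc =>
      Q.cent _ (mul_mem (mul_mem (inv_mem hk) hsH) hk) a ha (by
        have h1 := congrArg (fun u => k⁻¹ * u * k) hc.symm
        simpa [hw, mul_assoc] using h1)
    rcases hcase with ⟨l, -, hl⟩ | ⟨l, hl⟩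
    · -- conjugate to the involution: the other product is conjugate to the labelled element
      obtain ⟨f, hf⟩ : ∃ f, f = (s * x) ^ l * g := ⟨_, rfl⟩
      have hfH : f ∈ H := hf ▸ mul_mem (hpow l) hg
      have hxz : x * z = f * S.t a * f⁻¹ := by rw [hl, hf, hx]; simp [mul_assoc]
      refine ⟨s, g, hsH, hsN, hg, hgN, hs2, hsφ, ?_⟩
      have hfN : g⁻¹ * f ∈ S.N := by
        refine Q.mem_N_of_nb (mul_mem (inv_mem hg) hfH) ha ?_
        rw [show g⁻¹ * f * S.t a * (g⁻¹ * f)⁻¹ = g⁻¹ * (f * S.t a * f⁻¹) * g by simp [mul_assoc], ← hxz, hx,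
          show g⁻¹ * (g * S.t a * g⁻¹ * z) * g = S.t a * (g⁻¹ * z * g) by simp [mul_assoc]]
        exact mul_mem (S.t_mem_N a) hgz
      obtain ⟨u, hu⟩ : ∃ u, g⁻¹ * z * g = S.t u := by
        refine ⟨a + S.phi (g⁻¹ * f) a, ?_⟩
        rw [S.t_add, ← S.phi_spec hfN, show g⁻¹ * f * S.t a * (g⁻¹ * f)⁻¹ = g⁻¹ * (f * S.t a * f⁻¹) * g by
          simp [mul_assoc], ← hxz, hx]
        simp [mul_assoc, ← mul_assoc (S.t a) (S.t a), S.t_sq]
      have hu0 : u ≠ 0 := fun e' => hz1 (by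
        rw [e', S.t_zero] at hu
        have := congrArg (fun w => g * w * g⁻¹) hu
        simpa [mul_assoc] using this)
      refine Q.cent _ (mul_mem (mul_mem (inv_mem hg) hsH) hg) u hu0 ?_
      rw [← hu]
      have := congrArg (fun w => g⁻¹ * w * g) hzs.symm
      simpa [mul_assoc] using this
    · obtain ⟨f, hf⟩ : ∃ f, f = (s * x) ^ l * g := ⟨_, rfl⟩
      have hfH : f ∈ H := hf ▸ mul_mem (hpow l) hg
      have hsz : s * z = f * S.t a * f⁻¹ := by
        rw [hl, hf, hx]; simp [mul_assoc]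
      have hsf : f⁻¹ * s * f ∈ S.N := key f hfH _ hsz (by rw [mul_assoc, hzs])
      by_cases hfN : f ∈ S.N
      · have hzsz : z = s * (s * z) := by rw [← mul_assoc, hs2, one_mul]
        have hszN : s * z ∈ S.R := ⟨S.phi f a, by rw [hsz, S.phi_spec hfN]⟩
        refine ⟨z, g, hzH, hzsz ▸ mul_mem hsN (S.R_le_N hszN), hg, hgN, hz2, fun u => ?_, hgz⟩
        obtain ⟨u₀, hu₀⟩ := hszN
        rw [hzsz, hu₀, S.phi_mul hsN (S.t_mem_N _), S.phi_t, hsφ]
      · exact ⟨s, f, hsH, hsN, hfH, hfN, hs2, hsφ, hsf⟩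
  -- two inequivalent labelled elements centralised by the involution
  obtain ⟨y', hy'⟩ : ∃ y', y' = h⁻¹ * y * h := ⟨_, rfl⟩
  have hy'N : y' ∈ S.N := hy' ▸ hyh
  have hy'2 : y' * y' = 1 := by rw [hy', show h⁻¹ * y * h * (h⁻¹ * y * h) = h⁻¹ * (y * y) * h by simp [mul_assoc],
    hy2, mul_one, inv_mul_cancel]
  obtain ⟨c, hc, hc0⟩ : ∃ c ∈ LinearMap.ker (S.disp hy'N), c ≠ 0 := by
    refine Submodule.exists_mem_ne_zero_of_ne_bot fun e' => ?_
    have h1 := S.range_le_ker hy'N hy'2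
    have h2 := LinearMap.finrank_range_add_finrank_ker (S.disp hy'N)
    have h3 := Submodule.finrank_mono h1
    rw [e', finrank_bot] at h2 h3
    omega
  rw [LinearMap.mem_ker, S.disp_eq_zero hy'N] at hc
  obtain ⟨b', hb'⟩ : ∃ b', b' = h * S.t c * h⁻¹ := ⟨_, rfl⟩
  have hb'y : b' * y = y * b' := by
    have h1 := congrArg (fun w => h * w * h⁻¹) (S.comm_of_phi hy'N hc).symm
    rw [hy'] at h1
    simpa [hb', mul_assoc] using h1
  obtain ⟨b, hb, hba⟩ : ∃ b ∈ S.toQd.perp (Submodule.span Z2 ({a} : Set V)), b ∉ Submodule.span Z2 ({a} : Set V) := by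
    by_contra hcon
    push Not at hcon
    have h1 := Submodule.finrank_mono hcon
    rw [S.toQd.finrank_perp] at h1
    have := Qd.finrank_span_one_le a
    omega
  rw [S.toQd.mem_perp_one] at hb
  have hyb : ∀ u, S.B a u = 0 → y * S.t u = S.t u * y := fun u hu =>
    S.comm_of_phi hyN (by rw [hyφ, hu, zero_smul, add_zero])
  obtain ⟨e₀, he₀, he₀0, hnc⟩ : ∃ e₀, S.B a e₀ = 0 ∧ e₀ ≠ 0 ∧
      ∀ k ∈ H, k * y = y * k → k * S.t e₀ * k⁻¹ ≠ b' := by
    by_contra hcon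
    push Not at hcon
    obtain ⟨k₁, hk₁, hk₁y, hk₁e⟩ := hcon a (S.toQd.self_perp a) ha
    obtain ⟨k₂, hk₂, hk₂y, hk₂e⟩ := hcon b hb fun e' => hba (e' ▸ zero_mem _)
    obtain ⟨k, hk⟩ : ∃ k, k = k₂⁻¹ * k₁ := ⟨_, rfl⟩
    have hkab : k * S.t a * k⁻¹ = S.t b := by
      have h1 := congrArg (fun w => k₂⁻¹ * w * k₂) (hk₁e.trans hk₂e.symm)
      simpa [hk, mul_assoc] using h1
    have hkH : k ∈ H := hk ▸ mul_mem (inv_mem hk₂) hk₁
    have hkN := Q.mem_N_of_R hkH ha hkab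
    have hky : k * y = y * k := by
      rw [hk, mul_assoc, hk₁y, ← mul_assoc, ← mul_assoc]
      congr 1
      rw [inv_mul_eq_iff_eq_mul, ← mul_assoc, hk₂y, mul_inv_cancel_right]
    have hφk : S.phi k a = b := S.phi_eq hkab
    obtain ⟨u, hu, hu1⟩ : ∃ u, u ∈ S.toQd.perp (⊥ : Submodule Z2 V) ∧ S.B a u = 1 :=
      S.toQd.exists_perp_one (by simpa using ha)
    have h1 : S.phi k (S.phi y u) = S.phi y (S.phi k u) := by
      rw [← S.phi_mul hkN hyN, hky, S.phi_mul hyN hkN]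
    rw [hyφ, hu1, one_smul, S.phi_add hkN, hyφ, hφk] at h1
    rcases z2_smul (S.B a (S.phi k u)) a with e' | e' <;> rw [e'] at h1
    · have h2 : b = 0 := add_left_cancel h1
      exact hba (h2 ▸ zero_mem _)
    · exact hba (add_left_cancel h1 ▸ Submodule.subset_span rfl)
  have hb'2 : b' * b' = 1 := by
    rw [hb', show h * S.t c * h⁻¹ * (h * S.t c * h⁻¹) = h * (S.t c * S.t c) * h⁻¹ by simp [mul_assoc], S.t_sq]
    simp
  have hpow' : ∀ l : ℕ, (S.t e₀ * b') ^ l ∈ H := fun l =>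
    pow_mem (mul_mem (Q.t_mem _) (hb' ▸ Q.conj_mem hhH c)) l
  rcases dihedral_cases (S.t_sq e₀) hb'2 with ⟨l, hl⟩ | ⟨n, hz1, hz2, hze, hzb, hcase⟩
  · refine hnc _ (hpow' l) ?_ hl.symm
    have hc1 : Commute (S.t e₀ * b') y :=
      Commute.mul_left (hyb e₀ he₀).symm hb'y
    exact (hc1.pow_left l).eq
  obtain ⟨z, hz⟩ : ∃ z, z = (S.t e₀ * b') ^ n := ⟨_, rfl⟩
  rw [← hz] at hz1 hz2 hze hzb hcase
  have hzN : z ∈ S.N := Q.cent z (hz ▸ hpow' n) e₀ he₀0 hze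
  obtain ⟨u, hu⟩ : ∃ u, S.t e₀ * z = S.t u := by
    rcases hcase with ⟨l, hl, -⟩ | ⟨l, hl⟩
    · have hkN : (S.t e₀ * b') ^ l ∈ S.N :=
        Q.mem_N_of_nb (hpow' l) he₀0 (hl ▸ mul_mem (S.t_mem_N e₀) hzN)
      exact ⟨_, hl.trans (S.phi_spec hkN e₀)⟩
    · have hconj : S.t e₀ * z = ((S.t e₀ * b') ^ l * h) * S.t c * ((S.t e₀ * b') ^ l * h)⁻¹ := by
        rw [hl, hb']; simp [mul_assoc]
      have hkN : (S.t e₀ * b') ^ l * h ∈ S.N :=
        Q.mem_N_of_nb (mul_mem (hpow' l) hhH) hc0 (hconj ▸ mul_mem (S.t_mem_N e₀) hzN)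
      exact ⟨_, hconj.trans (S.phi_spec hkN c)⟩
  have hz0 : z = S.t (e₀ + u) := by rw [S.t_add, ← hu, ← mul_assoc, S.t_sq, one_mul]
  have hne : e₀ + u ≠ 0 := fun e' => hz1 (by rw [hz0, e', S.t_zero])
  refine hhN (Q.mem_N_of_nb hhH hc0 ?_)
  rw [← hb']
  exact Q.cent _ (hb' ▸ Q.conj_mem hhH c) _ hne (by rw [← hz0]; exact hzb.symm)

end Fus

end PSys

end Cfsg.Agent.Classical.CliffordTwo
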