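import Cfsg.Agent.Lib.Classical.CliffordTwo.Sub
import Cfsg.Agent.Lib.Classical.CliffordTwo.CentreFour.Fusion
import Mathlib.GroupTheory.QuotientGroup.Basic

/-!
A system with a square root of minus one gives a projective labelled group.
-/

set_option autoImplicit false
set_option linter.unusedSectionVars false

namespace Cfsg.Agent.Classical.CliffordTwo

open Module

local notation "Z2" => ZMod 2

/-- The scalar units. -/
def scal (F A : Type*) [Field F] [Ring A] [Algebra F A] : Subgroup Aˣ := (Units.map (algebraMap F A : F →* A)).range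

section

variable {F : Type*} [Field F] {A : Type*} [Ring A] [Algebra F A]

theorem mem_scal {x : Aˣ} : x ∈ scal F A ↔ ∃ c : F, (x : A) = c • (1 : A) := by
  constructor
  · rintro ⟨c, rfl⟩
    exact ⟨c, by rw [← Algebra.algebraMap_eq_smul_one]; rfl⟩
  · rintro ⟨c, hc⟩
    rcases subsingleton_or_nontrivial A with h | h
    · exact ⟨1, Units.ext (Subsingleton.elim _ _)⟩
    have hc0 : c ≠ 0 := fun e => x.ne_zero (by rw [hc, e, zero_smul])
    exact ⟨Units.mk0 c hc0, Units.ext (by rw [hc, ← Algebra.algebraMap_eq_smul_one]; rfl)⟩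

theorem scal_central {x : Aˣ} (hx : x ∈ scal F A) (g : Aˣ) : g * x = x * g := by
  obtain ⟨c, hc⟩ := mem_scal.1 hx
  exact Units.ext (by rw [Units.val_mul, Units.val_mul, hc, mul_smul_one, smul_one_mul])

instance scal_normal : (scal F A).Normal := ⟨fun x hx g => by
  rw [scal_central hx g, mul_inv_cancel_right]; exact hx⟩

/-- The projection modulo scalars. -/
def proj (F : Type*) {A : Type*} [Field F] [Ring A] [Algebra F A] : Aˣ →* Aˣ ⧸ scal F A := QuotientGroup.mk' _

theorem proj_surjective : Function.Surjective (proj F (A := A)) := QuotientGroup.mk'_surjective _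

theorem proj_eq_iff {x y : Aˣ} : proj F x = proj F y ↔ ∃ c : F, (x : A) = c • (y : A) := by
  constructor
  · intro h
    obtain ⟨z, hz, hzx⟩ : ∃ z ∈ scal F A, x = z * y := ⟨x * y⁻¹, by
      rw [← QuotientGroup.ker_mk' (scal F A), MonoidHom.mem_ker]
      show proj F (x * y⁻¹) = 1
      rw [map_mul, map_inv, h, mul_inv_cancel], by simp⟩
    obtain ⟨c, hc⟩ := mem_scal.1 hz
    exact ⟨c, by rw [hzx, Units.val_mul, hc, smul_one_mul]⟩
  · rintro ⟨c, hc⟩
    have hz : x * y⁻¹ ∈ scal F A := mem_scal.2 ⟨c, by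
      rw [Units.val_mul, hc, Algebra.smul_mul_assoc, Units.mul_inv]⟩
    have h1 : proj F (x * y⁻¹) = 1 := (QuotientGroup.eq_one_iff _).2 hz
    rwa [map_mul, map_inv, mul_inv_eq_one] at h1

theorem proj_eq_one_iff {x : Aˣ} : proj F x = 1 ↔ x ∈ scal F A := QuotientGroup.eq_one_iff _

end

namespace Sys

variable {F : Type*} [Field F] {A : Type*} [Ring A] [Algebra F A] {V : Type*} [AddCommGroup V] [Module (ZMod 2) V]
  (S : Sys F A V)

/-- The phase making a labelled element an involution. -/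
def ph (i : F) (v : V) : F := if S.q v = 0 then 1 else i

/-- The labelled involution. -/
def inv2 (i : F) (v : V) : A := S.ph i v • (S.r v : A)

variable {i : F} (hi : i * i = -1)
include S hi

theorem ph_sq (v : V) : S.ph i v * S.ph i v * sg F (S.q v) = 1 := by
  rcases z2_cases (S.q v) with e | e
  · rw [ph, if_pos e, e, sg_zero, one_mul, one_mul]
  · rw [ph, if_neg (by rw [e]; exact one_ne_zero), e, sg_one, hi, neg_mul_neg, one_mul]

theorem ph_ne (v : V) : S.ph i v ≠ 0 := fun e => by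
  have := S.ph_sq hi v
  rw [e, zero_mul, zero_mul] at this
  exact zero_ne_one this

theorem inv2_sq (v : V) : S.inv2 i v * S.inv2 i v = 1 := by
  rw [inv2, smul_mul_smul_comm, S.sq, smul_smul, S.ph_sq hi, one_smul]

theorem i_ne : i ≠ 0 := fun e => by
  rw [e, mul_zero] at hi; exact one_ne_zero (neg_eq_zero.1 hi.symm)

theorem half_coeffs : ((1 + i) / 2) * ((1 + i) / 2) + ((1 - i) / 2) * ((1 - i) / 2) = 0 ∧
    2 * (((1 + i) / 2) * ((1 - i) / 2)) = 1 ∧
    ((1 + i) / 2) * ((1 + i) / 2) - ((1 - i) / 2) * ((1 - i) / 2) = i ∧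
    i * ((1 - i) / 2) = (1 + i) / 2 ∧ i * ((1 + i) / 2) = -((1 - i) / 2) := by
  have h2 := S.two
  refine ⟨?_, ?_, ?_, ?_, ?_⟩ <;> field_simp
  · linear_combination 2 * hi
  · linear_combination -hi
  · ring
  · linear_combination -hi
  · linear_combination hi

/-- The square root of a labelled involution. -/
def sigU (v : V) : Aˣ where
  val := ((1 + i) / 2) • (1 : A) + ((1 - i) / 2) • S.inv2 i v
  inv := ((1 - i) / 2) • (1 : A) + ((1 + i) / 2) • S.inv2 i v
  val_inv := by
    obtain ⟨h1, h2, -⟩ := S.half_coeffs hi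
    simp only [add_mul, mul_add, smul_mul_smul_comm, one_mul, mul_one, S.inv2_sq hi]
    rw [show ((1 + i) / 2 * ((1 - i) / 2)) • (1 : A) + ((1 - i) / 2 * ((1 - i) / 2)) • S.inv2 i v +
      (((1 + i) / 2 * ((1 + i) / 2)) • S.inv2 i v + ((1 - i) / 2 * ((1 + i) / 2)) • (1 : A)) =
      (2 * (((1 + i) / 2) * ((1 - i) / 2))) • (1 : A) +
        ((1 + i) / 2 * ((1 + i) / 2) + (1 - i) / 2 * ((1 - i) / 2)) • S.inv2 i v by module, h1, h2, one_smul,
      zero_smul, add_zero]
  inv_val := by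
    obtain ⟨h1, h2, -⟩ := S.half_coeffs hi
    simp only [add_mul, mul_add, smul_mul_smul_comm, one_mul, mul_one, S.inv2_sq hi]
    rw [show ((1 - i) / 2 * ((1 + i) / 2)) • (1 : A) + ((1 + i) / 2 * ((1 + i) / 2)) • S.inv2 i v +
      (((1 - i) / 2 * ((1 - i) / 2)) • S.inv2 i v + ((1 + i) / 2 * ((1 - i) / 2)) • (1 : A)) =
      (2 * (((1 + i) / 2) * ((1 - i) / 2))) • (1 : A) +
        ((1 + i) / 2 * ((1 + i) / 2) + (1 - i) / 2 * ((1 - i) / 2)) • S.inv2 i v by module, h1, h2, one_smul,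
      zero_smul, add_zero]

theorem sigU_val (v : V) :
    ((S.sigU hi v : Aˣ) : A) = ((1 + i) / 2) • (1 : A) + ((1 - i) / 2) • S.inv2 i v := rfl

theorem sigU_inv (v : V) :
    (((S.sigU hi v)⁻¹ : Aˣ) : A) = ((1 - i) / 2) • (1 : A) + ((1 + i) / 2) • S.inv2 i v := rfl

theorem sigU_sq (v : V) : ((S.sigU hi v * S.sigU hi v : Aˣ) : A) = S.inv2 i v := by
  obtain ⟨h1, h2, -⟩ := S.half_coeffs hi
  simp only [Units.val_mul, sigU_val, add_mul, mul_add, smul_mul_smul_comm, one_mul, mul_one, S.inv2_sq hi]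
  rw [show ((1 + i) / 2 * ((1 + i) / 2)) • (1 : A) + ((1 - i) / 2 * ((1 + i) / 2)) • S.inv2 i v +
      (((1 + i) / 2 * ((1 - i) / 2)) • S.inv2 i v + ((1 - i) / 2 * ((1 - i) / 2)) • (1 : A)) =
      ((1 + i) / 2 * ((1 + i) / 2) + (1 - i) / 2 * ((1 - i) / 2)) • (1 : A) +
        (2 * (((1 + i) / 2) * ((1 - i) / 2))) • S.inv2 i v by module, h1, h2, one_smul, zero_smul, zero_add]

/-- The other sign of the square root is the inverse up to the scalar. -/
theorem sig_bar (v : V) : ((1 + i) / 2) • (1 : A) - ((1 - i) / 2) • S.inv2 i v =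
    i • (((S.sigU hi v)⁻¹ : Aˣ) : A) := by
  obtain ⟨-, -, -, h4, h5⟩ := S.half_coeffs hi
  rw [sigU_inv, smul_add, smul_smul, smul_smul, h4, h5, neg_smul, sub_eq_add_neg]

theorem proj_r_sq (v : V) : proj F (S.sigU hi v * S.sigU hi v) = proj F (S.r v) :=
  proj_eq_iff.2 ⟨S.ph i v, S.sigU_sq hi v⟩

omit hi in
theorem conj_r_sign {g : Aˣ} {v : V} {c : F} (h : (g : A) * (S.r v : A) = c • ((S.r v : A) * g)) :
    c = 1 ∨ c = -1 := by
  haveI := S.nontrivial
  have h1 : ((g : A) * S.r v) * S.r v = (c * c) • ((S.r v : A) * ((S.r v : A) * g)) := by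
    rw [h, Algebra.smul_mul_assoc, mul_assoc, h, Algebra.mul_smul_comm, smul_smul]
  rw [mul_assoc, S.sq, ← mul_assoc, S.sq, Algebra.smul_mul_assoc, one_mul, Algebra.mul_smul_comm, mul_one,
    smul_smul, mul_comm (c * c), ← smul_smul] at h1
  have hs : sg F (S.q v) ≠ 0 := fun e => by
    have := sg_sq F (S.q v); rw [e, mul_zero] at this; exact zero_ne_one this
  have h2 : (c * c - 1) • (g : A) = 0 := by
    rw [sub_smul, one_smul, ← smul_right_injective A hs h1, sub_self]
  rcases smul_eq_zero.1 h2 with e | e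
  · exact mul_self_eq_one_iff.1 (sub_eq_zero.1 e)
  · exact absurd e g.ne_zero

variable [Finite V]

/-- The projective labelled group. -/
def psys : PSys (Aˣ ⧸ scal F A) V where
  toQd := S.toQd
  t v := proj F (S.r v)
  sig v := proj F (S.sigU hi v)
  t_add v w := by
    rw [← map_mul, proj_eq_iff]
    rcases S.mul v w with e | e
    · exact ⟨1, by rw [one_smul, Units.val_mul, e]⟩
    · exact ⟨-1, by rw [neg_one_smul, Units.val_mul, e, neg_neg]⟩
  t_inj v h := by
    classical
    by_contra hv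
    obtain ⟨c, hc⟩ := mem_scal.1 (proj_eq_one_iff.1 h)
    have h2 : ∃ d : F, (S.r v : A) = d • (S.r 0 : A) := by
      rcases S.r_zero with e | e
      · exact ⟨c, by rw [e, hc]⟩
      · exact ⟨-c, by rw [e, hc, neg_smul, smul_neg, neg_neg]⟩
    obtain ⟨d, hd⟩ := h2
    have := congrArg (fun a => S.basis.repr a v) hd
    simp only [S.repr_r_smul, Ne.symm hv, if_false] at this
    rw [← one_smul F (S.r v : A), S.repr_r_smul, if_pos rfl] at this
    exact one_ne_zero this
  full g hg := by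
    obtain ⟨x, rfl⟩ := proj_surjective g
    obtain ⟨v, c, hvc⟩ := S.eq_smul_of_comm (a := (x : A)) fun w => by
      obtain ⟨d, hd⟩ : ∃ d : F, ((x * S.r w : Aˣ) : A) = d • ((S.r w * x : Aˣ) : A) :=
        proj_eq_iff.1 (by rw [map_mul, map_mul]; exact hg w)
      rw [Units.val_mul, Units.val_mul] at hd
      rcases S.conj_r_sign hd with rfl | rfl
      · exact ⟨0, by rw [sg_zero]; exact hd⟩
      · exact ⟨1, by rw [sg_one]; exact hd⟩
    exact ⟨v, proj_eq_iff.2 ⟨c, hvc⟩⟩
  sig_sq v := by rw [← map_mul]; exact S.proj_r_sq hi v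
  sig_conj v u := by
    rw [← map_mul, ← map_inv, ← map_mul]
    rcases z2_cases (S.B v u) with e | e <;> rw [e]
    · rw [zero_smul, add_zero]
      congr 1
      rw [mul_inv_eq_iff_eq_mul]
      refine Units.ext ?_
      simp only [Units.val_mul, sigU_val, inv2, add_mul, mul_add, smul_smul, Algebra.smul_mul_assoc,
        Algebra.mul_smul_comm, one_mul, mul_one]
      rw [S.comm v u, e, sg_zero, one_smul]
    · rw [one_smul]
      refine proj_eq_iff.2 ?_
      have h1 : ((S.sigU hi v : Aˣ) : A) * S.r u = i • ((S.r u : A) * (((S.sigU hi v)⁻¹ : Aˣ) : A)) := by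
        rw [← Algebra.mul_smul_comm, ← S.sig_bar hi]
        simp only [sigU_val, inv2, add_mul, mul_sub, smul_smul, Algebra.smul_mul_assoc,
          Algebra.mul_smul_comm, one_mul, mul_one]
        rw [S.comm v u, e, sg_one, neg_one_smul, smul_neg]
        simp only [sub_eq_add_neg]
      have h2 : (((S.sigU hi v)⁻¹ : Aˣ) : A) * (((S.sigU hi v)⁻¹ : Aˣ) : A) =
          (S.ph i v * sg F (S.q v) * S.ph i v) • (((S.sigU hi v * S.sigU hi v)⁻¹ : Aˣ) : A) := by
        rw [mul_comm (S.ph i v * _), ← mul_assoc, S.ph_sq hi, one_smul, _root_.mul_inv_rev, Units.val_mul]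
      have h3 : (((S.sigU hi v * S.sigU hi v)⁻¹ : Aˣ) : A) = S.inv2 i v :=
        Units.inv_eq_of_mul_eq_one_right (by rw [S.sigU_sq hi, S.inv2_sq hi])
      obtain ⟨s, hs⟩ : ∃ s : F, (S.r u : A) * (S.r v : A) = s • (S.r (u + v) : A) := by
        rcases S.mul u v with e' | e'
        · exact ⟨1, by rw [one_smul, e']⟩
        · exact ⟨-1, by rw [neg_one_smul, e']⟩
      refine ⟨i * S.ph i v * s, ?_⟩
      rw [Units.val_mul, Units.val_mul, h1, Algebra.smul_mul_assoc, mul_assoc, ← Units.val_mul (S.sigU hi v)⁻¹,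
        ← _root_.mul_inv_rev, h3, inv2, Algebra.mul_smul_comm, hs, smul_smul, smul_smul]
  sig_cent g v h := by
    obtain ⟨x, rfl⟩ := proj_surjective g
    obtain ⟨c, hc⟩ : ∃ c : F, ((x * S.r v : Aˣ) : A) = c • ((S.r v * x : Aˣ) : A) :=
      proj_eq_iff.1 (by rw [map_mul, map_mul]; exact h)
    rw [Units.val_mul, Units.val_mul] at hc
    rw [← map_inv, ← map_mul, ← map_mul, ← map_inv]
    rcases S.conj_r_sign hc with rfl | rfl
    · left
      congr 1
      rw [mul_inv_eq_iff_eq_mul]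
      refine Units.ext ?_
      simp only [Units.val_mul, sigU_val, inv2, add_mul, mul_add, smul_smul, Algebra.smul_mul_assoc,
        Algebra.mul_smul_comm, one_mul, mul_one]
      rw [hc, one_smul]
    · right
      refine proj_eq_iff.2 ⟨i, ?_⟩
      rw [Units.val_mul, Units.val_mul, ← S.sig_bar hi]
      have h1 : (x : A) * ((S.sigU hi v : Aˣ) : A) =
          (((1 + i) / 2) • (1 : A) - ((1 - i) / 2) • S.inv2 i v) * (x : A) := by
        simp only [sigU_val, inv2, mul_add, sub_mul, smul_smul, Algebra.smul_mul_assoc,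
          Algebra.mul_smul_comm, one_mul, mul_one]
        rw [hc, neg_one_smul, smul_neg]
        simp only [sub_eq_add_neg]
      rw [h1, mul_assoc, Units.mul_inv, mul_one]
  B_conj g v v' u u' hv hu := by
    obtain ⟨x, rfl⟩ := proj_surjective g
    rw [← map_inv, ← map_mul, ← map_mul, proj_eq_iff] at hv hu
    obtain ⟨c, hc⟩ := hv
    obtain ⟨d, hd⟩ := hu
    haveI := S.nontrivial
    have hc0 : c ≠ 0 := fun e => (x * S.r v * x⁻¹).ne_zero (by rw [hc, e, zero_smul])
    have hd0 : d ≠ 0 := fun e => (x * S.r u * x⁻¹).ne_zero (by rw [hd, e, zero_smul])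
    have h1 : ((x * S.r v * x⁻¹ * (x * S.r u * x⁻¹) : Aˣ) : A) =
        sg F (S.B v u) • ((x * S.r u * x⁻¹ * (x * S.r v * x⁻¹) : Aˣ) : A) := by
      rw [conj_mul, conj_mul]
      simp only [Units.val_mul]
      rw [S.comm v u, Algebra.mul_smul_comm, Algebra.smul_mul_assoc]
    rw [Units.val_mul, Units.val_mul (x * S.r u * x⁻¹), hc, hd, smul_mul_smul_comm, smul_mul_smul_comm, S.comm v' u',
      smul_smul, smul_smul] at h1
    have h2 := smul_left_injective F ((S.r u' * S.r v' : Aˣ).ne_zero) h1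
    refine sg_inj S.two (mul_left_cancel₀ (mul_ne_zero hd0 hc0) ?_)
    linear_combination -h2

end Sys

end Cfsg.Agent.Classical.CliffordTwo
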