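import Cfsg.Agent.Lib.Classical.CliffordTwo.CentreFour.Tools
import Cfsg.Agent.Lib.Classical.CliffordTwo.SympEnd

/-!
An overgroup of the normaliser in dimension six contains an isometry outside the normaliser.
-/

set_option autoImplicit false
set_option linter.unusedSectionVars false

namespace Cfsg.Agent.Classical.CliffordTwo

open Module

local notation "Z2" => ZMod 2

namespace Sys

variable {F : Type*} [Field F] {A : Type*} [Ring A] [Algebra F A] {V : Type*} [AddCommGroup V] [Module (ZMod 2) V]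
  [Finite V] (S : Sys F A V) {i : F} (hi : i * i = -1)

/-- The scalar square root of minus one. -/
def iU (A : Type*) [Ring A] [Algebra F A] (hi : i * i = -1) : Aˣ where
  val := i • (1 : A)
  inv := (-i) • (1 : A)
  val_inv := by rw [smul_mul_smul_comm, one_mul, mul_neg, hi, neg_neg, one_smul]
  inv_val := by rw [smul_mul_smul_comm, one_mul, neg_mul, hi, neg_neg, one_smul]

theorem iU_val : ((iU A hi : Aˣ) : A) = i • (1 : A) := rfl

theorem iU_mem_Rh : iU A hi ∈ S.Rh hi := S.scal_le_Rh hi (mem_scal.2 ⟨i, rfl⟩)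

/-- The generators every overgroup contains. -/
structure Gen (H : Subgroup Aˣ) : Prop where
  r_mem : ∀ v, S.r v ∈ H
  sig_mem : ∀ v, S.sigU hi v ∈ H
  i_mem : iU A hi ∈ H

theorem Gen.inf_Nh {H : Subgroup Aˣ} (G : S.Gen hi H) : S.Gen hi (H ⊓ S.Nh hi) where
  r_mem v := ⟨G.r_mem v, S.Rh_le_Nh hi (S.r_mem_Rh hi v)⟩
  sig_mem v := ⟨G.sig_mem v, S.sigU_mem_Nh hi v⟩
  i_mem := ⟨G.i_mem, S.Rh_le_Nh hi (S.iU_mem_Rh hi)⟩

/-- A normalising element of a normal subgroup outside the labelled elements gives an isometry. -/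
theorem nice_of_mem_Nh (hd : 4 ≤ finrank (ZMod 2) V) {L P : Subgroup Aˣ}
    (hnorm : ∀ n ∈ P, ∀ l ∈ L, n * l * n⁻¹ ∈ L) (hsig : ∀ v, S.sigU hi v ∈ P) {l : Aˣ} (hl : l ∈ L)
    (hlN : l ∈ S.Nh hi) (hlR : l ∉ S.Rh hi) : ∃ c ∈ L, c ∉ S.Rh hi ∧ S.Sim (c : A) 1 := by
  obtain ⟨w, hw⟩ : ∃ w, (S.psys hi).phi (proj F l) w ≠ w := by
    by_contra hall
    push Not at hall
    exact hlR ((S.psys hi).mem_R_of_phi hlN hall)
  obtain ⟨w', hw'⟩ : ∃ w', w' = (S.psys hi).phi (proj F l) w := ⟨_, rfl⟩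
  rw [← hw'] at hw
  have hw0 : w ≠ 0 := fun e => hw (by rw [hw', e, (S.psys hi).phi_zero hlN])
  have hw'0 : w' ≠ 0 := fun e => hw0 ((S.psys hi).phi_injective hlN (by
    rw [← hw', e, (S.psys hi).phi_zero hlN]))
  obtain ⟨u, hu, huw, huw'⟩ := S.toQd.exists_prescribed hd hw0 hw'0 (Ne.symm hw)
  obtain ⟨n, hn⟩ : ∃ n, n = S.sigU hi u := ⟨_, rfl⟩
  have hnN : n ∈ S.Nh hi := hn ▸ S.sigU_mem_Nh hi u
  have hphin : ∀ y, (S.psys hi).phi (proj F n) y = y + S.B u y • u := fun y => by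
    rw [hn, ← S.psys_sig hi, (S.psys hi).phi_sig]; rfl
  have hq : ∀ y, S.B u y = 1 + S.q y → S.q (y + S.B u y • u) = 1 := fun y hy => by
    rw [S.polar, map_smul, S.toQd.symm y u, hy]
    rcases z2_cases (S.q y) with e | e <;> rw [e]
    · rw [add_zero, one_smul, hu, smul_eq_mul, one_mul]; rfl
    · rw [z2_add_self, zero_smul, S.toQd.q_zero, zero_smul]; rfl
  obtain ⟨l', hl'⟩ : ∃ l', l' = n * l * n⁻¹ := ⟨_, rfl⟩
  have hl'L : l' ∈ L := hl' ▸ hnorm n (hn ▸ hsig u) l hl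
  have hl'N : l' ∈ S.Nh hi := hl' ▸ mul_mem (mul_mem hnN hlN) (inv_mem hnN)
  obtain ⟨v, hv⟩ : ∃ v, v = (S.psys hi).phi (proj F n) w := ⟨_, rfl⟩
  obtain ⟨v', hv'⟩ : ∃ v', v' = (S.psys hi).phi (proj F n) w' := ⟨_, rfl⟩
  have hqv : S.q v = 1 := by rw [hv, hphin]; exact hq w huw
  have hqv' : S.q v' = 1 := by rw [hv', hphin]; exact hq w' huw'
  have hne : v' ≠ v := fun e => hw ((S.psys hi).phi_injective hnN (hv'.symm.trans (e.trans hv)))
  have hspec : proj F (l' * S.r v * l'⁻¹) = proj F (S.r v') := by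
    have h1 := (S.psys hi).phi_spec hl'N v
    have h2 : (S.psys hi).phi (proj F l') v = v' := by
      rw [hl', map_mul, map_mul, map_inv, hv, (S.psys hi).phi_mul (mul_mem hnN hlN) (inv_mem hnN),
        ← (S.psys hi).phi_mul (inv_mem hnN) hnN, inv_mul_cancel, (S.psys hi).phi_one,
        (S.psys hi).phi_mul hnN hlN, hv', hw']
    rw [h2, S.psys_t, S.psys_t] at h1
    rw [map_mul, map_mul, map_inv]
    exact h1
  obtain ⟨y, hy⟩ : ∃ y, y = l' * S.sigU hi v * l'⁻¹ := ⟨_, rfl⟩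
  refine ⟨y * (S.sigU hi v)⁻¹, ?_, fun hR => ?_, ?_⟩
  · rw [hy, show l' * S.sigU hi v * l'⁻¹ * (S.sigU hi v)⁻¹ =
      l' * (S.sigU hi v * l'⁻¹ * (S.sigU hi v)⁻¹) by simp [mul_assoc]]
    exact mul_mem hl'L (hnorm _ (hsig v) _ (inv_mem hl'L))
  · have hyN : y ∈ S.Nh hi := hy ▸ mul_mem (mul_mem hl'N (S.sigU_mem_Nh hi v)) (inv_mem hl'N)
    obtain ⟨s, hs⟩ := hR
    rw [map_mul, map_inv, mul_inv_eq_iff_eq_mul, ← S.psys_sig hi] at hs
    obtain ⟨e, -, he⟩ := S.toQd.exists_perp_one (S := ⊥) (v := v) (fun h => by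
      rw [Submodule.mem_bot] at h
      rw [h, S.toQd.q_zero] at hqv; exact zero_ne_one hqv)
    have h1 : (S.psys hi).phi (proj F y) ((S.psys hi).phi (proj F l') e) =
        (S.psys hi).phi (proj F l') e + v' := by
      rw [← (S.psys hi).phi_mul hyN hl'N, ← map_mul, hy, inv_mul_cancel_right, map_mul, ← S.psys_sig hi,
        (S.psys hi).phi_mul hl'N ((S.psys hi).sig_mem_N v), (S.psys hi).phi_sig,
        show (S.psys hi).B v e = 1 from he, one_smul, (S.psys hi).phi_add hl'N]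
      congr 1
      rw [← (S.psys hi).phi_eq (show proj F l' * (S.psys hi).t v * (proj F l')⁻¹ = (S.psys hi).t v' by
        rw [S.psys_t, S.psys_t, ← map_inv, ← map_mul, ← map_mul]; exact hspec)]
    rw [hs, (S.psys hi).phi_mul ((S.psys hi).t_mem_N s) ((S.psys hi).sig_mem_N v), (S.psys hi).phi_t,
      (S.psys hi).phi_sig] at h1
    have h2 := add_left_cancel h1
    rcases z2_smul ((S.psys hi).B v ((S.psys hi).phi (proj F l') e)) v with e' | e' <;> rw [e'] at h2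
    · rw [← h2, S.toQd.q_zero] at hqv'; exact zero_ne_one hqv'
    · exact hne h2.symm
  · have hs := Sim.inv S (S.sim_sigU hi hqv)
    have hi0 : i ≠ 0 := S.i_ne hi
    rw [Units.val_mul]
    rcases S.conj_sigU hi hspec with e | e
    · have h1 := Sim.mul S (S.sim_sigU hi hqv') hs
      rw [mul_inv_cancel₀ hi0] at h1
      rw [hy, e]
      exact h1
    · have h1 := Sim.mul S (Sim.smul S (Sim.inv S (S.sim_sigU hi hqv')) i) hs
      rw [show i * i * i⁻¹ * i⁻¹ = 1 by field_simp] at h1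
      rw [hy, e]
      exact h1

variable (h : HPair S.toQd)

theorem PsiU_sig (w : h.W) : S.PsiU h ((S.sub h).sigU hi w, (S.sub h).sigU hi w) = S.sigU hi (w : V) :=
  Units.ext (by rw [S.PsiU_same]; rfl)

theorem PsiU_i : S.PsiU h (iU (S.subAlg h) hi, iU (S.subAlg h) hi) = iU A hi :=
  Units.ext (by rw [S.PsiU_same]; rfl)

theorem inv2_z : S.inv2 i h.z = (S.r h.z : A) := by rw [inv2, ph, if_pos h.qz, one_smul]

include S in
theorem half_mul_two : (2 : F)⁻¹ * 2 = 1 := inv_mul_cancel₀ S.two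

/-- The controlled scalar is a square root. -/
theorem PsiU_one_i : S.PsiU h (1, iU (S.subAlg h) hi) = S.sigU hi h.z := by
  refine Units.ext ?_
  rw [PsiU_val, sigU_val, S.inv2_z h, pr, Pp, Pm, iU_val]
  simp only [Units.val_one, OneMemClass.coe_one, SetLike.val_smul, mul_one, Algebra.mul_smul_comm]
  module

theorem ctl_r_mem {H : Subgroup Aˣ} (G : S.Gen hi H) (w : h.W) : S.PsiU h (1, (S.sub h).r w) ∈ H := by
  obtain ⟨Z, hZ⟩ : ∃ Z, Z = (S.r h.z : A) := ⟨_, rfl⟩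
  obtain ⟨W, hW⟩ : ∃ W, W = S.inv2 i (w : V) := ⟨_, rfl⟩
  have hZZ : Z * Z = 1 := by rw [hZ]; exact S.rz_sq h
  have hWW : W * W = 1 := by rw [hW]; exact S.inv2_sq hi _
  have hcomm : W * Z = Z * W := by
    rw [hW, hZ, inv2, Algebra.smul_mul_assoc, Algebra.mul_smul_comm,
      ← (S.rz_comm h (S.r_mem_subSpan h w)).eq]
  have hZW : (Z * W) * (Z * W) = 1 := by rw [mul_assoc, ← mul_assoc W, hcomm, mul_assoc Z W, hWW, mul_one, hZZ]
  obtain ⟨ε, hε, hzw⟩ : ∃ ε : F, (ε = 1 ∨ ε = -1) ∧ S.inv2 i (h.z + (w : V)) = ε • (Z * W) := by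
    have hq : S.ph i (h.z + (w : V)) = S.ph i (w : V) := by
      rw [ph, ph, S.polar, h.qz, (h.mem_W.1 w.2).1, zero_add, add_zero]
    rcases S.mul h.z (w : V) with e | e
    · exact ⟨1, Or.inl rfl, by rw [one_smul, inv2, hq, ← e, hW, inv2, Algebra.mul_smul_comm, hZ]⟩
    · exact ⟨-1, Or.inr rfl, by rw [neg_one_smul, inv2, hq, hW, inv2, Algebra.mul_smul_comm, hZ, e, smul_neg,
        neg_neg]⟩
  obtain ⟨h1, h2, h3, h4, h5⟩ := S.half_coeffs hi
  obtain ⟨C, hC⟩ : ∃ C : A, C = (2 : F)⁻¹ • (1 + Z + W - Z * W) := ⟨_, rfl⟩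
  have hCpr : ((S.PsiU h (1, (S.sub h).r w) : Aˣ) : A) * (((S.PsiU h (1, iU (S.subAlg h) hi) : Aˣ) : A)) ^ (if S.q (w : V) = 0 then 0 else 1) = C := by
    have hC' : C = S.pr h 1 W := by
      rw [hC, pr, Pp, Pm, ← hZ, mul_one, Algebra.smul_mul_assoc, sub_mul, one_mul]
      module
    rw [hC', PsiU_val]
    split_ifs with hq
    · rw [pow_zero, mul_one, hW, inv2, ph, if_pos hq, one_smul]
      rfl
    · rw [pow_one, PsiU_val, S.pr_mul h (SetLike.coe_mem _) (SetLike.coe_mem _), hW, inv2, ph, if_neg hq, iU_val]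
      simp only [Units.val_one, OneMemClass.coe_one, mul_one, SetLike.val_smul, Algebra.mul_smul_comm]
      rfl
  obtain ⟨M, hMH, hMC⟩ : ∃ M ∈ H, (M : A) = C := by
    rcases hε with rfl | rfl
    · rw [one_smul] at hzw
      refine ⟨S.sigU hi h.z * S.sigU hi (w : V) * (S.sigU hi (h.z + (w : V)))⁻¹,
        mul_mem (mul_mem (G.sig_mem _) (G.sig_mem _)) (inv_mem (G.sig_mem _)), ?_⟩
      simp only [Units.val_mul, sigU_val, sigU_inv, S.inv2_z h, ← hZ, ← hW, hzw, hC]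
      obtain ⟨α, hα⟩ : ∃ α, α = (1 + i) / 2 := ⟨_, rfl⟩
      obtain ⟨β, hβ⟩ : ∃ β, β = (1 - i) / 2 := ⟨_, rfl⟩
      rw [← hα, ← hβ] at h1 h2 h3 h4 h5 ⊢
      have e1 : Z * (Z * W) = W := by rw [← mul_assoc, hZZ, one_mul]
      have e2 : W * (Z * W) = Z := by rw [← mul_assoc, hcomm, mul_assoc, hWW, mul_one]
      simp only [mul_add, add_mul, smul_mul_smul_comm, Algebra.mul_smul_comm, Algebra.smul_mul_assoc, one_mul,
        mul_one, smul_add, smul_sub, smul_smul, hZW, e1, e2]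
      have hhalf := S.half_mul_two
      match_scalars <;> grind
    · rw [neg_one_smul] at hzw
      refine ⟨S.sigU hi h.z * S.sigU hi (w : V) * S.sigU hi (h.z + (w : V)) * (iU A hi)⁻¹,
        mul_mem (mul_mem (mul_mem (G.sig_mem _) (G.sig_mem _)) (G.sig_mem _)) (inv_mem G.i_mem), ?_⟩
      simp only [Units.val_mul, sigU_val, S.inv2_z h, ← hZ, ← hW, hzw, hC,
        show (((iU A hi)⁻¹ : Aˣ) : A) = (-i) • (1 : A) from rfl]
      obtain ⟨α, hα⟩ : ∃ α, α = (1 + i) / 2 := ⟨_, rfl⟩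
      obtain ⟨β, hβ⟩ : ∃ β, β = (1 - i) / 2 := ⟨_, rfl⟩
      rw [← hα, ← hβ] at h1 h2 h3 h4 h5 ⊢
      have e1 : Z * (Z * W) = W := by rw [← mul_assoc, hZZ, one_mul]
      have e2 : W * (Z * W) = Z := by rw [← mul_assoc, hcomm, mul_assoc, hWW, mul_one]
      simp only [mul_add, add_mul, smul_mul_smul_comm, Algebra.mul_smul_comm, Algebra.smul_mul_assoc, one_mul,
        mul_one, smul_add, smul_sub, smul_smul, hZW, e1, e2, mul_neg, smul_neg]
      have hhalf := S.half_mul_two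
      match_scalars <;> grind
  obtain ⟨k, hk⟩ : ∃ k : ℕ, k = if S.q (w : V) = 0 then 0 else 1 := ⟨_, rfl⟩
  rw [← hk] at hCpr
  have e : S.PsiU h (1, (S.sub h).r w) = M * (S.PsiU h (1, iU (S.subAlg h) hi) ^ k)⁻¹ :=
    eq_mul_inv_iff_mul_eq.2 (Units.ext (by rw [Units.val_mul, Units.val_pow_eq_pow_val, hCpr, hMC]))
  rw [e, S.PsiU_one_i hi h]
  exact mul_mem hMH (inv_mem (pow_mem (G.sig_mem _) _))

/-- A labelled pair has labelled components with the same label. -/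
theorem PsiU_mem_Rh {a b : (S.subAlg h)ˣ} (hR : S.PsiU h (a, b) ∈ S.Rh hi) : ∃ (w : h.W) (c e : F),
    (a : S.subAlg h) = c • ((S.sub h).r w : S.subAlg h) ∧ (b : S.subAlg h) = e • ((S.sub h).r w : S.subAlg h) := by
  haveI := S.nontrivial
  obtain ⟨v, c, hv⟩ := (S.mem_Rh hi).1 hR
  have hc : c ≠ 0 := fun e => (S.PsiU h (a, b)).ne_zero (by rw [hv, e, zero_smul])
  rw [PsiU_val] at hv
  have hcom : (S.r h.z : A) * S.pr h ((a : S.subAlg h) : A) ((b : S.subAlg h) : A) =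
      S.pr h ((a : S.subAlg h) : A) ((b : S.subAlg h) : A) * S.r h.z := by
    have h1 : Commute (S.r h.z : A) (S.Pp h) :=
      (((Commute.one_right _).add_right (Commute.refl _)).smul_right _)
    have h2 : Commute (S.r h.z : A) (S.Pm h) :=
      (((Commute.one_right _).sub_right (Commute.refl _)).smul_right _)
    exact ((h1.mul_right (S.rz_comm h (SetLike.coe_mem _))).add_right (h2.mul_right (S.rz_comm h (SetLike.coe_mem _)))).eq
  rw [hv, Algebra.mul_smul_comm, Algebra.smul_mul_assoc, S.comm, smul_smul] at hcom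
  have hB : S.B h.z v = 0 := by
    have h1 := smul_left_injective F ((S.r v * S.r h.z).ne_zero) (by simpa only [Units.val_mul] using hcom)
    refine sg_inj S.two (mul_left_cancel₀ hc ?_)
    rw [sg_zero, mul_one]
    exact h1
  have hdw := h.decomp v
  rw [hB, zero_smul, add_zero] at hdw
  obtain ⟨w, hw⟩ : ∃ w : h.W, (w : V) = v + S.B h.x v • h.z := ⟨⟨_, hdw⟩, rfl⟩
  obtain ⟨c', e', he⟩ : ∃ c' e' : F, (S.r v : A) = S.pr h (c' • (S.r (w : V) : A)) (e' • (S.r (w : V) : A)) := by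
    rcases z2_smul (S.B h.x v) h.z with e | e <;> rw [e] at hw
    · rw [add_zero] at hw
      exact ⟨1, 1, by rw [one_smul, S.pr_same, hw]⟩
    · have hv' : v = h.z + (w : V) := by rw [hw, add_comm v, ← add_assoc, vadd_self, zero_add]
      have h1 : (S.r h.z : A) * S.r (w : V) = S.pr h (S.r (w : V) : A) (-(S.r (w : V) : A)) := by
        rw [pr, mul_neg, ← neg_mul, ← add_mul, ← S.rz_Pp, ← S.rz_Pm, ← mul_add, S.Pp_add_Pm, mul_one]
      rcases S.mul h.z (w : V) with e' | e' <;> rw [← hv', h1] at e'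
      · exact ⟨1, -1, by rw [one_smul, neg_one_smul, e']⟩
      · refine ⟨-1, 1, ?_⟩
        rw [one_smul, neg_one_smul, ← neg_eq_iff_eq_neg.2 e', pr, pr, mul_neg, mul_neg, neg_add, neg_neg]
  rw [he] at hv
  simp only [pr] at hv
  rw [smul_add, ← Algebra.mul_smul_comm, ← Algebra.mul_smul_comm, smul_smul, smul_smul] at hv
  obtain ⟨ha, hb⟩ := S.pr_inj h (SetLike.coe_mem _) (SetLike.coe_mem _)
    (Subalgebra.smul_mem _ (S.r_mem_subSpan h w) _) (Subalgebra.smul_mem _ (S.r_mem_subSpan h w) _) hv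
  exact ⟨w, c * c', c * e', Subtype.ext ha, Subtype.ext hb⟩

/-- Conjugating a pair of scalars to a nonsingular position gives a similitude. -/
theorem sim_conj_scalar {g : Aˣ} {α β : F} (hg : (g : A) = S.pr h (α • 1) (β • 1)) {n : Aˣ} {v : V}
    (hn : proj F (n * S.r h.z * n⁻¹) = proj F (S.r v)) (hv : S.q v = 1) :
    S.Sim ((n * g * n⁻¹ : Aˣ) : A) (α * β) := by
  obtain ⟨c, hc⟩ := proj_eq_iff.1 hn
  rw [Units.val_mul, Units.val_mul] at hc
  have hval : (g : A) = ((α + β) / 2) • (1 : A) + ((α - β) / 2) • (S.r h.z : A) := by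
    rw [hg, pr, Pp, Pm]
    simp only [Algebra.mul_smul_comm, mul_one]
    module
  have hτ : S.τ ((n : A) * S.r h.z * ((n⁻¹ : Aˣ) : A)) = -((n : A) * S.r h.z * ((n⁻¹ : Aˣ) : A)) := by
    rw [hc, map_smul, S.adj, hv, sg_one, neg_one_smul, smul_neg]
  have hT : (n : A) * S.r h.z * ((n⁻¹ : Aˣ) : A) * ((n : A) * S.r h.z * ((n⁻¹ : Aˣ) : A)) = 1 := by
    simp only [mul_assoc, Units.inv_mul_cancel_left]
    rw [← mul_assoc (S.r h.z : A), S.rz_sq, one_mul, Units.mul_inv]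
  rw [Units.val_mul, Units.val_mul, hval, conj_pq]
  have h1 := S.sim_pq hT hτ ((α + β) / 2) ((α - β) / 2)
  rwa [show (α + β) / 2 * ((α + β) / 2) - (α - β) / 2 * ((α - β) / 2) = α * β by
    have := S.two; field_simp; ring] at h1

/-- Moving to a centraliser of a singular vector. -/
theorem exists_comm_z [Finite A] (hd : 2 ≤ finrank (ZMod 2) V) {H : Subgroup Aˣ} {m : ℕ} (hm : finrank (ZMod 2) V = 2 * m)
    (hm2 : 2 ≤ m) (hm3 : m ≤ 3) (G : S.Gen hi H) (hH : ¬ H ≤ S.Nh hi) :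
    ∃ g ∈ H, g ∉ S.Nh hi ∧ g * S.r h.z = S.r h.z * g := by
  obtain ⟨Hp, hHp⟩ : ∃ Hp, Hp = H.map (proj F) := ⟨_, rfl⟩
  have hsig : ∀ v, (S.psys hi).sig v ∈ Hp := fun v => hHp ▸ Subgroup.mem_map_of_mem _ (G.sig_mem v)
  obtain ⟨g, hgH, hgN, v, hv, hc⟩ : ∃ g ∈ H, g ∉ S.Nh hi ∧ ∃ v, v ≠ 0 ∧
      proj F g * (S.psys hi).t v = (S.psys hi).t v * proj F g := by
    by_contra hcon
    push Not at hcon
    have Q : (S.psys hi).Fus Hp m := ⟨hm, hm2, hm3,
      fun v => hHp ▸ Subgroup.mem_map_of_mem _ (G.r_mem v), hsig, fun x hx v hv hc => by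
        rw [hHp] at hx
        obtain ⟨g, hg, rfl⟩ := hx
        by_contra hN
        exact hcon g hg hN v hv hc⟩
    exact hH fun x hx => Q.le_N (hHp ▸ Subgroup.mem_map_of_mem _ hx)
  obtain ⟨np, hnp, hnN, hnv⟩ := (S.psys hi).exists_move hsig hd hv h.z_ne
  rw [hHp] at hnp
  obtain ⟨n, hn, rfl⟩ := hnp
  have hnNh : n ∈ S.Nh hi := hnN
  obtain ⟨g₁, hg₁⟩ : ∃ g₁, g₁ = n * g * n⁻¹ := ⟨_, rfl⟩
  have hg₁N : g₁ ∉ S.Nh hi := fun h1 => hgN (by
    have := mul_mem (mul_mem (inv_mem hnNh) h1) hnNh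
    simpa [hg₁, mul_assoc] using this)
  have hg₁c : proj F (g₁ * S.r h.z) = proj F (S.r h.z * g₁) := by
    have h1 := (S.psys hi).phi_spec hnN v
    rw [hnv] at h1
    rw [map_mul, map_mul, ← S.psys_t hi, ← h1, hg₁, map_mul, map_mul, map_inv]
    simp only [mul_assoc, inv_mul_cancel_left]
    rw [← mul_assoc (proj F g), hc, mul_assoc]
  obtain ⟨c, hc'⟩ := proj_eq_iff.1 hg₁c
  rw [Units.val_mul, Units.val_mul] at hc'
  rcases S.conj_r_sign hc' with rfl | rfl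
  · exact ⟨g₁, hg₁ ▸ mul_mem (mul_mem hn hgH) (inv_mem hn), hg₁N, Units.ext (by
      rw [Units.val_mul, Units.val_mul, hc', one_smul])⟩
  · refine ⟨S.r h.x * g₁, mul_mem (G.r_mem _) (hg₁ ▸ mul_mem (mul_mem hn hgH) (inv_mem hn)), fun h1 => hg₁N ?_, ?_⟩
    · have := mul_mem (inv_mem (S.Rh_le_Nh hi (S.r_mem_Rh hi h.x))) h1
      simpa using this
    · refine Units.ext ?_
      rw [Units.val_mul, Units.val_mul, Units.val_mul, Units.val_mul, mul_assoc, hc', neg_one_smul, mul_neg,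
        ← mul_assoc, S.rx_rz, neg_mul, neg_neg, mul_assoc]

/-- In an anisotropic plane every unit is a similitude. -/
theorem exists_sim (hq : ∀ v, v ≠ 0 → S.q v = 1) (a : Aˣ) : ∃ ν : F, S.Sim (a : A) ν := by
  classical
  haveI := Fintype.ofFinite V
  obtain ⟨y, hy⟩ : ∃ y, y = S.τ (a : A) * (a : A) := ⟨_, rfl⟩
  have hττ : ∀ x : A, S.τ (S.τ x) = x := fun x => by
    conv_lhs => rw [← S.sum_repr x]
    conv_rhs => rw [← S.sum_repr x]
    simp only [map_sum, map_smul, S.adj, smul_smul, mul_assoc, sg_sq, mul_one]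
  have hfix : S.τ y = y := by rw [hy, S.τ_mul, hττ]
  have hrepr : ∀ u, u ≠ 0 → S.basis.repr y u = 0 := fun u hu => by
    have h1 := congrArg (fun x => S.basis.repr x u) hfix
    conv_lhs at h1 => rw [← S.sum_repr y]
    simp only [map_sum, map_smul, S.adj, smul_smul, Finsupp.coe_finset_sum, Finset.sum_apply, Finsupp.smul_apply,
      smul_eq_mul] at h1
    rw [Finset.sum_eq_single u (fun b _ hb => by rw [← S.basis_apply, Basis.repr_self, Finsupp.single_apply,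
      if_neg hb, mul_zero]) (by simp), ← S.basis_apply, Basis.repr_self, Finsupp.single_eq_same, hq u hu, sg_one,
      mul_one, mul_neg, mul_one] at h1
    have h2 : (2 : F) * S.basis.repr y u = 0 := by linear_combination -h1
    exact (mul_eq_zero.1 h2).resolve_left S.two
  have hsum : y = S.basis.repr y 0 • (S.r 0 : A) := by
    conv_lhs => rw [← S.sum_repr y]
    exact Finset.sum_eq_single 0 (fun u _ hu => by rw [hrepr u hu, zero_smul]) (by simp)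
  rcases S.r_zero with e | e
  · exact ⟨S.basis.repr y 0, by rw [Sim, ← hy]; nth_rewrite 1 [hsum]; rw [e]⟩
  · exact ⟨-S.basis.repr y 0, by rw [Sim, ← hy]; nth_rewrite 1 [hsum]; rw [e, smul_neg, neg_smul]⟩

/-- The step in dimension four. -/
theorem nice_four [Finite A] (hd : finrank (ZMod 2) V = 4) (hmin : S.toQd.NoHalf 2) {L P : Subgroup Aˣ} (hLP : L ≤ P)
    (hnorm : ∀ n ∈ P, ∀ l ∈ L, n * l * n⁻¹ ∈ L) (hrL : ∀ v, S.r v ∈ L) (hiL : iU A hi ∈ L)
    (hsig : ∀ v, S.sigU hi v ∈ P) (hLR : ¬ L ≤ S.Rh hi) : ∃ c ∈ L, c ∉ S.Rh hi ∧ S.Sim (c : A) 1 := by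
  classical
  by_cases hex : ∃ l ∈ L, l ∈ S.Nh hi ∧ l ∉ S.Rh hi
  · obtain ⟨l, hl, hlN, hlR⟩ := hex
    exact S.nice_of_mem_Nh hi (by omega) hnorm hsig hl hlN hlR
  push Not at hex
  have G : S.Gen hi P := ⟨fun v => hLP (hrL v), hsig, hLP hiL⟩
  have hPN : ¬ P ≤ S.Nh hi := fun hle => hLR fun l hl => hex l hl (hle (hLP hl))
  obtain ⟨z, -, hz0, hqz⟩ := S.toQd.exists_singular (W := ⊤) (by rw [finrank_top]; omega)
  obtain ⟨h, -⟩ := S.exists_hpair (by omega) hz0 hqz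
  obtain ⟨g, hgP, hgN, hgz⟩ := S.exists_comm_z hi h (by omega) (m := 2) hd le_rfl (by norm_num) G hPN
  have hW := h.finrank_W
  have hq1 : ∀ w : h.W, w ≠ 0 → (S.sub h).q w = 1 := fun w hw => z2_eq_one fun e => by
    have := h.noHalf (m := 1) hmin (Submodule.span Z2 {w}) fun u hu => by
      rcases mem_span_one hu with rfl | rfl
      · exact h.qd.q_zero
      · exact e
    rw [finrank_span_singleton hw] at this
    exact lt_irrefl 1 this
  have hdia : ∀ g' ∈ P, g' * S.r h.z = S.r h.z * g' → ∀ w : h.W,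
      g' * S.r (w : V) * g'⁻¹ ∈ S.Rh hi ∨ ∃ c ∈ L, c ∉ S.Rh hi ∧ S.Sim (c : A) 1 := fun g' hg' hc w => by
    by_cases hR : g' * S.r (w : V) * g'⁻¹ ∈ S.Rh hi
    · exact Or.inl hR
    right
    refine ⟨g' * S.r (w : V) * g'⁻¹ * (S.r (w : V))⁻¹,
      mul_mem (hnorm g' hg' _ (hrL _)) (inv_mem (hrL _)),
      fun h1 => hR (by simpa using mul_mem h1 (S.r_mem_Rh hi (w : V))), ?_⟩
    obtain ⟨a, b, rfl⟩ := S.exists_PsiU h hc
    rw [← S.PsiU_r h w, ← map_inv, ← map_inv, ← map_mul, ← map_mul, ← map_mul]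
    simp only [Prod.inv_mk, Prod.mk_mul_mk]
    refine S.sim_PsiU h ?_ ?_
    all_goals
      rw [Units.val_mul, Units.val_mul, Units.val_mul]
    · obtain ⟨ν, hν⟩ := (S.sub h).exists_sim hq1 a
      have h1 := Sim.mul _ (Sim.mul _ (Sim.mul _ hν ((S.sub h).sim_r w)) (Sim.inv _ hν))
        (Sim.inv _ ((S.sub h).sim_r w))
      have hν0 : ν ≠ 0 := fun e => by
        haveI := (S.sub h).nontrivial
        have h2 := congrArg (fun y => y * ((a⁻¹ : (S.subAlg h)ˣ) : S.subAlg h)) (show _ = _ from hν)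
        simp only [e, zero_smul, zero_mul, mul_assoc, Units.mul_inv, mul_one] at h2
        have h3 := congrArg (fun y => (S.sub h).τ ((a⁻¹ : (S.subAlg h)ˣ) : S.subAlg h) * y) h2
        simp only [← (S.sub h).τ_mul, Units.mul_inv, mul_zero, (S.sub h).τ_one] at h3
        exact one_ne_zero h3
      rwa [inv_one, mul_one, mul_one, mul_inv_cancel₀ hν0] at h1
    · obtain ⟨ν, hν⟩ := (S.sub h).exists_sim hq1 b
      have h1 := Sim.mul _ (Sim.mul _ (Sim.mul _ hν ((S.sub h).sim_r w)) (Sim.inv _ hν))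
        (Sim.inv _ ((S.sub h).sim_r w))
      have hν0 : ν ≠ 0 := fun e => by
        haveI := (S.sub h).nontrivial
        have h2 := congrArg (fun y => y * ((b⁻¹ : (S.subAlg h)ˣ) : S.subAlg h)) (show _ = _ from hν)
        simp only [e, zero_smul, zero_mul, mul_assoc, Units.mul_inv, mul_one] at h2
        have h3 := congrArg (fun y => (S.sub h).τ ((b⁻¹ : (S.subAlg h)ˣ) : S.subAlg h) * y) h2
        simp only [← (S.sub h).τ_mul, Units.mul_inv, mul_zero, (S.sub h).τ_one] at h3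
        exact one_ne_zero h3
      rwa [inv_one, mul_one, mul_one, mul_inv_cancel₀ hν0] at h1
  by_contra hgoal
  have hgW : ∀ w : h.W, g * S.r (w : V) * g⁻¹ ∈ S.Rh hi := fun w =>
    (hdia g hgP hgz w).resolve_right hgoal
  have hgz' : g⁻¹ * S.r h.z = S.r h.z * g⁻¹ := by
    rw [inv_mul_eq_iff_eq_mul, ← mul_assoc, hgz, mul_inv_cancel_right]
  have hgW' : ∀ w : h.W, g⁻¹ * S.r (w : V) * (g⁻¹)⁻¹ ∈ S.Rh hi := fun w =>
    (hdia _ (inv_mem hgP) hgz' w).resolve_right hgoal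
  obtain ⟨y, hy⟩ : ∃ y, y = g⁻¹ * S.r h.x * g * (S.r h.x)⁻¹ := ⟨_, rfl⟩
  have hyR : y ∉ S.Rh hi := fun h1 => hgN (inv_mem_iff.1 (S.mem_Nh_of_gens hi h (g := g⁻¹) (by
    rw [hgz', mul_inv_cancel_right]; exact S.r_mem_Rh hi _) (by
      have h2 := mul_mem h1 (S.r_mem_Rh hi h.x)
      rw [hy, inv_mul_cancel_right] at h2
      rwa [inv_inv]) hgW'))
  have hyL : y ∈ L := hy ▸ mul_mem (by simpa using hnorm _ (inv_mem hgP) _ (hrL h.x)) (inv_mem (hrL _))
  obtain ⟨a, b, rfl⟩ := S.exists_PsiU h hgz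
  have hye : y = S.PsiU h (a⁻¹ * b, b⁻¹ * a) := by
    rw [hy, mul_assoc, mul_assoc, ← mul_assoc (S.r h.x), S.swap_PsiU, ← map_inv, ← map_mul]
    simp
  -- the ratio commutes up to sign with the perpendicular plane
  obtain ⟨u₀, c₀, hc₀⟩ := (S.sub h).eq_smul_of_comm (a := ((a⁻¹ * b : (S.subAlg h)ˣ) : S.subAlg h)) fun u => by
    have h1 : S.PsiU h (a * (S.sub h).r u * a⁻¹, b * (S.sub h).r u * b⁻¹) ∈ S.Rh hi := by
      have h2 := hgW u
      rw [← S.PsiU_r h u, ← map_inv, ← map_mul, ← map_mul] at h2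
      simpa only [Prod.inv_mk, Prod.mk_mul_mk] using h2
    obtain ⟨w, c, e, hac, hbe⟩ := S.PsiU_mem_Rh hi h h1
    have h3 : proj F (a * (S.sub h).r u * a⁻¹) = proj F (b * (S.sub h).r u * b⁻¹) :=
      (proj_eq_iff.2 ⟨c, hac⟩).trans (proj_eq_iff.2 ⟨e, hbe⟩).symm
    have h4 : proj F (a⁻¹ * b * (S.sub h).r u) = proj F ((S.sub h).r u * (a⁻¹ * b)) := by
      simp only [map_mul, map_inv] at h3 ⊢
      have h5 := congrArg (fun x => (proj F a)⁻¹ * x * proj F b) h3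
      simpa [mul_assoc] using h5.symm
    obtain ⟨d, hd'⟩ := proj_eq_iff.1 h4
    rw [Units.val_mul (a⁻¹ * b), Units.val_mul _ (a⁻¹ * b)] at hd'
    rcases (S.sub h).conj_r_sign hd' with rfl | rfl
    · exact ⟨0, by rw [sg_zero]; exact hd'⟩
    · exact ⟨1, by rw [sg_one]; exact hd'⟩
  haveI := (S.sub h).nontrivial
  have hc₀0 : c₀ ≠ 0 := fun e => (a⁻¹ * b).ne_zero (by
    rw [hc₀, e, zero_smul])
  have hinv : ((b⁻¹ * a : (S.subAlg h)ˣ) : S.subAlg h) =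
      (c₀⁻¹ * sg F ((S.sub h).q u₀)) • ((S.sub h).r u₀ : S.subAlg h) := by
    rw [show b⁻¹ * a = (a⁻¹ * b)⁻¹ by simp]
    refine Units.inv_eq_of_mul_eq_one_right ?_
    rw [hc₀, smul_mul_smul_comm, (S.sub h).sq, smul_smul, mul_assoc, mul_assoc, sg_sq, mul_one, mul_inv_cancel₀ hc₀0,
      one_smul]
  obtain ⟨y₀, hy₀⟩ : ∃ y₀, y₀ = y * (S.r (u₀ : V))⁻¹ := ⟨_, rfl⟩
  have hy₀val : (y₀ : A) = S.pr h (c₀ • 1) ((c₀⁻¹ * sg F ((S.sub h).q u₀)) • 1) := by
    rw [hy₀, hye, ← S.PsiU_r h u₀, ← map_inv, ← map_mul, Prod.inv_mk, Prod.mk_mul_mk, PsiU_val, Units.val_mul,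
      Units.val_mul _ ((S.sub h).r u₀)⁻¹, hc₀, hinv]
    simp [Algebra.smul_mul_assoc]
  have hy₀R : y₀ ∉ S.Rh hi := fun h1 => hyR (by simpa [hy₀] using mul_mem h1 (S.r_mem_Rh hi (u₀ : V)))
  obtain ⟨n, hn⟩ : ∃ n, n = S.sigU hi h.x := ⟨_, rfl⟩
  have hnz : proj F (n * S.r h.z * n⁻¹) = proj F (S.r (h.z + h.x)) := by
    rw [map_mul, map_mul, map_inv, hn, ← S.psys_t hi, ← S.psys_t hi, ← S.psys_sig hi, (S.psys hi).sig_conj,
      show (S.psys hi).B h.x h.z = 1 from h.bxz, one_smul]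
  have hsim := S.sim_conj_scalar h hy₀val hnz (by rw [S.polar, h.qz, h.qx, h.bzx]; rfl)
  rw [← mul_assoc, mul_inv_cancel₀ hc₀0, one_mul] at hsim
  have hy₀L : n * y₀ * n⁻¹ ∈ L := hnorm n (hn ▸ hsig _) _ (hy₀ ▸ mul_mem hyL (inv_mem (hrL _)))
  have hconjR : n * y₀ * n⁻¹ ∉ S.Rh hi := fun h1 => hy₀R (by
    have := S.conj_mem_Rh hi (inv_mem (hn ▸ S.sigU_mem_Nh hi h.x : n ∈ S.Nh hi)) h1
    simpa [mul_assoc] using this)
  rcases z2_cases ((S.sub h).q u₀) with e | e <;> rw [e] at hsim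
  · exact hgoal ⟨_, hy₀L, hconjR, by rwa [sg_zero] at hsim⟩
  · refine hgoal ⟨n * y₀ * n⁻¹ * iU A hi, mul_mem hy₀L hiL,
      fun h1 => hconjR (by simpa using mul_mem h1 (inv_mem (S.iU_mem_Rh hi))), ?_⟩
    have h1 := Sim.smul S hsim i
    rw [hi, sg_one, neg_mul_neg, one_mul] at h1
    rwa [Units.val_mul, iU_val, mul_smul_one]

theorem exists_isometry [Finite A] (hd : finrank (ZMod 2) V = 6) (hmin : S.toQd.NoHalf 3) {H : Subgroup Aˣ}
    (G : S.Gen hi H) (hH : ¬ H ≤ S.Nh hi) : ∃ g ∈ H, g ∉ S.Nh hi ∧ S.τ (g : A) * (g : A) = 1 := by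
  classical
  obtain ⟨z, -, hz0, hqz⟩ := S.toQd.exists_singular (W := ⊤) (by rw [finrank_top]; omega)
  obtain ⟨h, -⟩ := S.exists_hpair (by omega) hz0 hqz
  have hW := h.finrank_W
  have hWd : finrank Z2 h.W = 4 := by omega
  obtain ⟨g, hgH, hgN, hgz⟩ := S.exists_comm_z hi h (by omega) (m := 3) hd (by norm_num) le_rfl G hH
  obtain ⟨a, b, rfl⟩ := S.exists_PsiU h hgz
  obtain ⟨L, hL⟩ : ∃ L, L = H.comap ((S.PsiU h).comp (MonoidHom.inr _ _)) := ⟨_, rfl⟩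
  have hmemL : ∀ c, c ∈ L ↔ S.PsiU h (1, c) ∈ H := fun c => by rw [hL]; rfl
  obtain ⟨P, hP⟩ : ∃ P, P = (H.comap (S.PsiU h)).map (MonoidHom.snd _ _) := ⟨_, rfl⟩
  have hmemP : ∀ {a' b'}, S.PsiU h (a', b') ∈ H → b' ∈ P := fun {a' b'} hab => hP ▸ ⟨(a', b'), hab, rfl⟩
  have hnorm : ∀ n ∈ P, ∀ l ∈ L, n * l * n⁻¹ ∈ L := fun n hn l hl => by
    rw [hP] at hn
    obtain ⟨⟨a', b'⟩, hab, rfl⟩ := hn
    rw [hmemL] at hl ⊢
    have h1 := mul_mem (mul_mem (show S.PsiU h (a', b') ∈ H from hab) hl) (inv_mem (show S.PsiU h (a', b') ∈ H from hab))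
    rw [← map_inv, ← map_mul, ← map_mul] at h1
    simpa using h1
  have hrL : ∀ w, (S.sub h).r w ∈ L := fun w => (hmemL _).2 (S.ctl_r_mem hi h G w)
  have hiL : iU (S.subAlg h) hi ∈ L := (hmemL _).2 (by rw [S.PsiU_one_i hi h]; exact G.sig_mem _)
  have hsigP : ∀ w, (S.sub h).sigU hi w ∈ P := fun w => hmemP (by rw [S.PsiU_sig hi h w]; exact G.sig_mem _)
  have hswap : S.PsiU h (b, a) ∈ H := by
    rw [← S.swap_PsiU h a b]
    exact mul_mem (mul_mem (G.r_mem _) hgH) (inv_mem (G.r_mem _))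
  by_cases hLR : ¬ L ≤ (S.sub h).Rh hi
  · obtain ⟨c, hc, hcR, hsim⟩ := (S.sub h).nice_four hi hWd (h.noHalf (m := 2) hmin)
      (fun c hc => hmemP ((hmemL c).1 hc)) hnorm hrL hiL hsigP hLR
    refine ⟨S.PsiU h (1, c), (hmemL c).1 hc, fun hN => hcR ?_, ?_⟩
    · have h1 : S.PsiU h (1, c) * S.r h.x * (S.PsiU h (1, c))⁻¹ ∈ S.Rh hi :=
        S.conj_mem_Rh hi hN (S.r_mem_Rh hi _)
      have h2 := mul_mem h1 (inv_mem (S.r_mem_Rh hi h.x))
      rw [← map_inv, show S.PsiU h (1, c) * S.r h.x * S.PsiU h (1, c)⁻¹ * (S.r h.x)⁻¹ =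
        S.PsiU h (1, c) * (S.r h.x * S.PsiU h (1, c)⁻¹ * (S.r h.x)⁻¹) by simp [mul_assoc], Prod.inv_mk, inv_one,
        S.swap_PsiU, ← map_mul, Prod.mk_mul_mk, one_mul, mul_one] at h2
      obtain ⟨w, -, e, -, hce⟩ := S.PsiU_mem_Rh hi h h2
      exact ((S.sub h).mem_Rh hi).2 ⟨w, e, hce⟩
    · have h1 : S.Sim _ 1 := S.sim_PsiU h (a := (1 : (S.subAlg h)ˣ)) (Sim.one _) hsim
      simpa [Sim] using h1
  push Not at hLR
  have hconjN : ∀ a' b', S.PsiU h (a', b') ∈ H → b' ∈ (S.sub h).Nh hi := fun a' b' hab w => by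
    obtain ⟨v, hv⟩ := hLR (hnorm _ (hmemP hab) _ (hrL w))
    rw [map_mul, map_mul, map_inv] at hv
    exact ⟨v, hv⟩
  have hbN : b ∈ (S.sub h).Nh hi := hconjN a b hgH
  have haN : a ∈ (S.sub h).Nh hi := hconjN b a hswap
  have hphi : ∀ w, ((S.sub h).psys hi).phi (proj F a) w = ((S.sub h).psys hi).phi (proj F b) w := fun w => by
    rcases eq_or_ne w 0 with rfl | hw0
    · rw [((S.sub h).psys hi).phi_zero haN, ((S.sub h).psys hi).phi_zero hbN]
    have hconj : ∀ a' : (S.subAlg h)ˣ, a' ∈ (S.sub h).Nh hi → proj F (a' * (S.sub h).r w * a'⁻¹) =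
        proj F ((S.sub h).r (((S.sub h).psys hi).phi (proj F a') w)) := fun a' ha' => by
      rw [map_mul, map_mul, map_inv]
      exact ((S.sub h).psys hi).phi_spec ha' w
    obtain ⟨X, hX⟩ : ∃ X, X = a * (S.sub h).sigU hi w * a⁻¹ := ⟨_, rfl⟩
    obtain ⟨Y, hY⟩ : ∃ Y, Y = b * (S.sub h).sigU hi w * b⁻¹ := ⟨_, rfl⟩
    have hXY : S.PsiU h (X, Y) ∈ H := by
      have h1 := mul_mem (mul_mem hgH (G.sig_mem (w : V))) (inv_mem hgH)
      rw [← S.PsiU_sig hi h w, ← map_inv, ← map_mul, ← map_mul] at h1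
      simpa [hX, hY] using h1
    have hXX : S.PsiU h (X, X) ∈ H := by
      rcases (S.sub h).conj_sigU hi (hconj a haN) with e | e
      · rw [hX, e, S.PsiU_sig hi h]; exact G.sig_mem _
      · obtain ⟨σ', hσ'⟩ : ∃ σ', σ' = (S.sub h).sigU hi (((S.sub h).psys hi).phi (proj F a) w) := ⟨_, rfl⟩
        have e' : X = iU (S.subAlg h) hi * σ'⁻¹ :=
          Units.ext (by rw [hX, e, Units.val_mul, iU_val, smul_one_mul, hσ'])
        rw [e', show (iU (S.subAlg h) hi * σ'⁻¹, iU (S.subAlg h) hi * σ'⁻¹) =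
          (iU (S.subAlg h) hi, iU (S.subAlg h) hi) * (σ', σ')⁻¹ by simp, map_mul, map_inv, S.PsiU_i hi h, hσ',
          S.PsiU_sig hi h]
        exact mul_mem G.i_mem (inv_mem (G.sig_mem _))
    have hR : X⁻¹ * Y ∈ (S.sub h).Rh hi := hLR ((hmemL _).2 (by
      have h1 := mul_mem (inv_mem hXX) hXY
      rw [← map_inv, ← map_mul] at h1
      simpa using h1))
    obtain ⟨s, hs⟩ := hR
    rw [map_mul, map_inv, inv_mul_eq_iff_eq_mul] at hs
    obtain ⟨T, hT⟩ : ∃ T, T = (S.sub h).psys hi := ⟨_, rfl⟩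
    rw [← hT] at hs ⊢
    have ha' : proj F a ∈ T.N := hT ▸ haN
    have hb' : proj F b ∈ T.N := hT ▸ hbN
    have hsN : proj F ((S.sub h).sigU hi w) ∈ T.N := hT ▸ (S.sub h).sigU_mem_Nh hi w
    have hXN : proj F X ∈ T.N := by
      rw [hX, map_mul, map_mul, map_inv]; exact mul_mem (mul_mem ha' hsN) (inv_mem ha')
    have hfX : ∀ u, T.phi (proj F X) (T.phi (proj F a) u) = T.phi (proj F a) (u + T.B w u • w) := fun u => by
      rw [← T.phi_mul hXN ha', ← map_mul, hX, inv_mul_cancel_right, map_mul, T.phi_mul ha' hsN, hT, ← (S.sub h).psys_sig hi,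
        ((S.sub h).psys hi).phi_sig]
    have hfY : ∀ u, T.phi (proj F Y) (T.phi (proj F b) u) = T.phi (proj F b) (u + T.B w u • w) := fun u => by
      have hYN : proj F Y ∈ T.N := by
        rw [hY, map_mul, map_mul, map_inv]; exact mul_mem (mul_mem hb' hsN) (inv_mem hb')
      rw [← T.phi_mul hYN hb', ← map_mul, hY, inv_mul_cancel_right, map_mul, T.phi_mul hb' hsN, hT, ← (S.sub h).psys_sig hi,
        ((S.sub h).psys hi).phi_sig]
    obtain ⟨u, -, hu⟩ := T.toQd.exists_perp_one (S := ⊥) (v := w) (by simpa using hw0)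
    obtain ⟨u', hu'⟩ : ∃ u', T.phi (proj F b) u' = T.phi (proj F a) u :=
      (Finite.injective_iff_surjective.1 (T.phi_injective hb')) _
    have h1 := hfY u'
    rw [hu', hs, T.phi_mul hXN (hT ▸ ((S.sub h).psys hi).t_mem_N s), T.phi_t, hfX, hu, one_smul, T.phi_add ha',
      T.phi_add hb', hu'] at h1
    have h2 := add_left_cancel h1
    rcases z2_smul (T.B w u') w with e | e <;> rw [e] at h2
    · rw [T.phi_zero hb'] at h2
      exact absurd (T.phi_injective ha' (h2.trans (T.phi_zero ha').symm)) hw0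
    · exact h2
  -- strip the common action
  obtain ⟨H₀, hH₀⟩ : ∃ H₀, H₀ = H ⊓ S.Nh hi := ⟨_, rfl⟩
  have G₀ : S.Gen hi H₀ := hH₀ ▸ G.inf_Nh S hi
  obtain ⟨D, hD⟩ : ∃ D : Subgroup ((S.subAlg h)ˣ ⧸ scal F (S.subAlg h)),
      D = (H₀.comap ((S.PsiU h).comp (MonoidHom.prod (MonoidHom.id _) (MonoidHom.id _)))).map (proj F) := ⟨_, rfl⟩
  have hdisp : ∀ v, ((((S.sub h).psys hi).disp haN) + LinearMap.id : h.W →ₗ[Z2] h.W) v =
      ((S.sub h).psys hi).phi (proj F a) v := fun v => by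
    show ((S.sub h).psys hi).phi (proj F a) v + v + v = _
    rw [add_assoc, vadd_self, add_zero]
  obtain ⟨np, hnp, -, hnphi⟩ := ((S.sub h).psys hi).exists_lift (H := D) (fun w => hD ▸ Subgroup.mem_map_of_mem _
    (show S.PsiU h ((S.sub h).sigU hi w, (S.sub h).sigU hi w) ∈ H₀ by rw [S.PsiU_sig hi h]; exact G₀.sig_mem _))
    ((((S.sub h).psys hi).disp haN) + LinearMap.id) (fun v w => by
      rw [hdisp, hdisp]
      exact ((S.sub h).psys hi).B_phi haN v w)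
  rw [hD] at hnp
  obtain ⟨n, hnH, rfl⟩ := hnp
  have hnH' : S.PsiU h (n, n) ∈ H₀ := hnH
  have hnN : n ∈ (S.sub h).Nh hi := by
    intro w
    have h1 := S.conj_mem_Rh hi (hH₀ ▸ hnH' : S.PsiU h (n, n) ∈ H ⊓ S.Nh hi).2 (S.r_mem_Rh hi (w : V))
    rw [← S.PsiU_r h w, ← map_inv, ← map_mul, ← map_mul] at h1
    simp only [Prod.inv_mk, Prod.mk_mul_mk] at h1
    obtain ⟨w', c, -, hc, -⟩ := S.PsiU_mem_Rh hi h h1
    exact ⟨w', by rw [psys_t, psys_t, ← map_inv, ← map_mul, ← map_mul]; exact proj_eq_iff.2 ⟨c, hc⟩⟩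
  have hnphi' : ∀ w, ((S.sub h).psys hi).phi (proj F n) w = ((S.sub h).psys hi).phi (proj F a) w := fun w => by
    rw [hnphi, hdisp]
  have hstrip : ∀ a', a' ∈ (S.sub h).Nh hi →
      (∀ w, ((S.sub h).psys hi).phi (proj F a') w = ((S.sub h).psys hi).phi (proj F n) w) →
      ∃ (u : h.W) (c : F), ((n⁻¹ * a' : (S.subAlg h)ˣ) : S.subAlg h) = c • ((S.sub h).r u : S.subAlg h) :=
    fun a' ha' heq => by
      refine ((S.sub h).mem_Rh hi).1 (((S.sub h).psys hi).mem_R_of_phi (mul_mem (inv_mem hnN) ha') fun w => ?_)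
      rw [map_mul, map_inv, ((S.sub h).psys hi).phi_mul (inv_mem hnN) ha', heq,
        ← ((S.sub h).psys hi).phi_mul (inv_mem hnN) hnN, inv_mul_cancel, ((S.sub h).psys hi).phi_one]
  obtain ⟨u₁, α, hα⟩ := hstrip a haN fun w => (hnphi' w).symm
  obtain ⟨u₂, β, hβ⟩ := hstrip b hbN fun w => (hphi w).symm.trans (hnphi' w).symm
  obtain ⟨u₃, γ, hγ⟩ : ∃ (u : h.W) (c : F),
      ((n⁻¹ * b * ((S.sub h).r u₁)⁻¹ : (S.subAlg h)ˣ) : S.subAlg h) = c • ((S.sub h).r u : S.subAlg h) :=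
    ((S.sub h).mem_Rh hi).1 (mul_mem (((S.sub h).mem_Rh hi).2 ⟨u₂, β, hβ⟩) (inv_mem ((S.sub h).r_mem_Rh hi u₁)))
  obtain ⟨g₂, hg₂⟩ : ∃ g₂, g₂ = (S.PsiU h (n, n))⁻¹ * S.PsiU h (a, b) * (S.r (u₁ : V))⁻¹ *
      (S.PsiU h (1, (S.sub h).r u₃))⁻¹ := ⟨_, rfl⟩
  have hctl := S.ctl_r_mem hi h G₀ u₃
  have hr₀ := G₀.r_mem (u₁ : V)
  rw [hH₀] at hctl hr₀ hnH'
  have hg₂H : g₂ ∈ H := hg₂ ▸ mul_mem (mul_mem (mul_mem (inv_mem hnH'.1) hgH) (inv_mem hr₀.1)) (inv_mem hctl.1)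
  have hg₂N : g₂ ∉ S.Nh hi := fun h1 => hgN (by
    have h2 := mul_mem (mul_mem hnH'.2 (mul_mem h1 hctl.2)) hr₀.2
    simpa [hg₂, mul_assoc] using h2)
  have hg₂val : (g₂ : A) = S.pr h (α • 1) (γ • 1) := by
    rw [hg₂, ← S.PsiU_r h u₁, ← map_inv, ← map_inv, ← map_inv, ← map_mul, ← map_mul, ← map_mul]
    simp only [Prod.inv_mk, Prod.mk_mul_mk, PsiU_val, inv_one, mul_one]
    rw [Units.val_mul (n⁻¹ * a), hα, Units.val_mul _ ((S.sub h).r u₃)⁻¹, hγ]
    simp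
  have hg₂w : ∀ w : h.W, g₂ * S.r (w : V) = S.r (w : V) * g₂ := fun w => Units.ext (by
    have hc := S.rz_comm h (S.r_mem_subSpan h w)
    rw [Units.val_mul, Units.val_mul, hg₂val, pr, Pp, Pm]
    simp only [Algebra.mul_smul_comm, mul_one, add_mul, mul_add, Algebra.smul_mul_assoc, one_mul, sub_mul, mul_sub,
      smul_add, smul_sub, hc.eq])
  have hg₂z : g₂ * S.r h.z = S.r h.z * g₂ := Units.ext (by
    rw [Units.val_mul, Units.val_mul, hg₂val, pr, Pp, Pm]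
    simp only [Algebra.mul_smul_comm, mul_one, add_mul, mul_add, Algebra.smul_mul_assoc, one_mul, sub_mul, mul_sub,
      smul_add, smul_sub])
  have hg₂x : g₂ * S.r h.x * g₂⁻¹ ∉ S.Rh hi := fun h1 => hg₂N (S.mem_Nh_of_gens hi h (by
    rw [hg₂z, mul_inv_cancel_right]; exact S.r_mem_Rh hi _) h1 fun w => by
    rw [hg₂w, mul_inv_cancel_right]; exact S.r_mem_Rh hi _)
  -- a second singular vector
  obtain ⟨z', -, hz'0, hqz'⟩ := h.qd.exists_singular (W := ⊤) (by rw [finrank_top]; omega)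
  have hz'V : (z' : V) ≠ 0 := fun e => hz'0 (Subtype.ext e)
  obtain ⟨mp, hmp, hmN, hmz⟩ := (S.psys hi).exists_move (H := H.map (proj F))
    (fun v => Subgroup.mem_map_of_mem _ (G.sig_mem v)) (by omega) h.z_ne hz'V
  obtain ⟨m, hmH, rfl⟩ := hmp
  have hmz' : proj F (m * S.r h.z * m⁻¹) = proj F (S.r (z' : V)) := by
    rw [map_mul, map_mul, map_inv]
    have := (S.psys hi).phi_spec hmN h.z
    rwa [hmz] at this
  obtain ⟨g₃, hg₃⟩ : ∃ g₃, g₃ = g₂ * (m * g₂ * m⁻¹)⁻¹ := ⟨_, rfl⟩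
  have hg₃H : g₃ ∈ H := hg₃ ▸ mul_mem hg₂H (inv_mem (mul_mem (mul_mem hmH hg₂H) (inv_mem hmH)))
  have hmcomm : m * g₂ * m⁻¹ * S.r h.x = S.r h.x * (m * g₂ * m⁻¹) := by
    obtain ⟨c, hc⟩ := proj_eq_iff.1 hmz'
    rw [Units.val_mul, Units.val_mul] at hc
    have hcomm : (S.r (z' : V) : A) * S.r h.x = S.r h.x * S.r (z' : V) :=
      (S.rx_comm h (S.r_mem_subSpan h z')).eq.symm
    refine Units.ext ?_
    have hval : (g₂ : A) = ((α + γ) / 2) • (1 : A) + ((α - γ) / 2) • (S.r h.z : A) := by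
      rw [hg₂val, pr, Pp, Pm]
      simp only [Algebra.mul_smul_comm, mul_one]
      module
    rw [Units.val_mul, Units.val_mul (S.r h.x), Units.val_mul, Units.val_mul, hval, conj_pq, hc]
    simp only [mul_add, add_mul, Algebra.mul_smul_comm, Algebra.smul_mul_assoc, one_mul, mul_one, hcomm]
  have hg₃N : g₃ ∉ S.Nh hi := fun h1 => hg₂x (by
    have h2 := S.conj_mem_Rh hi h1 (S.r_mem_Rh hi h.x)
    have h3 : (m * g₂ * m⁻¹)⁻¹ * S.r h.x * (m * g₂ * m⁻¹) = S.r h.x := by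
      rw [mul_assoc, ← hmcomm, inv_mul_cancel_left]
    generalize m * g₂ * m⁻¹ = Y at h3 hg₃
    rw [hg₃, show g₂ * Y⁻¹ * S.r h.x * (g₂ * Y⁻¹)⁻¹ = g₂ * (Y⁻¹ * S.r h.x * Y) * g₂⁻¹ by simp [mul_assoc], h3] at h2
    exact h2)
  have hzz' : h.z ≠ (z' : V) := fun e => by
    have h1 := (h.mem_W.1 z'.2).2
    rw [← e, h.bxz] at h1
    exact one_ne_zero h1
  obtain ⟨u, hu, huz, huz'⟩ := S.toQd.exists_prescribed (by omega) h.z_ne hz'V hzz'
  rw [h.qz, add_zero] at huz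
  rw [show S.q (z' : V) = 0 from hqz', add_zero] at huz'
  obtain ⟨k, hk⟩ : ∃ k, k = S.sigU hi u := ⟨_, rfl⟩
  have hkz : ∀ y : V, S.B u y = 1 → proj F (k * S.r y * k⁻¹) = proj F (S.r (y + u)) := fun y hy => by
    rw [map_mul, map_mul, map_inv, hk, ← S.psys_t hi, ← S.psys_t hi, ← S.psys_sig hi, (S.psys hi).sig_conj,
      show (S.psys hi).B u y = 1 from hy, one_smul]
  have hkq : ∀ y : V, S.B u y = 1 → S.q y = 0 → S.q (y + u) = 1 := fun y hy hqy => by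
    rw [S.polar, hqy, hu, S.toQd.symm y u, hy]; rfl
  have hs₁ := S.sim_conj_scalar h hg₂val (hkz h.z huz) (hkq _ huz h.qz)
  have hs₂ := S.sim_conj_scalar h hg₂val (n := k * m) (v := (z' : V) + u) (by
    rw [show k * m * S.r h.z * (k * m)⁻¹ = k * (m * S.r h.z * m⁻¹) * k⁻¹ by simp [mul_assoc], map_mul, map_mul,
      hmz', ← map_mul, ← map_mul]
    exact hkz _ huz') (hkq _ huz' hqz')
  refine ⟨k * g₃ * k⁻¹, mul_mem (mul_mem (hk ▸ G.sig_mem u) hg₃H) (inv_mem (hk ▸ G.sig_mem u)), fun h1 => hg₃N ?_, ?_⟩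
  · have hkN : k ∈ S.Nh hi := hk ▸ S.sigU_mem_Nh hi u
    have := mul_mem (mul_mem (inv_mem hkN) h1) hkN
    simpa [mul_assoc] using this
  · have h1 := Sim.mul S hs₁ (Sim.inv S hs₂)
    have hαγ : α * γ ≠ 0 := by
      haveI := S.nontrivial
      intro e
      rcases mul_eq_zero.1 e with e' | e'
      · have h2 := congrArg (S.Pp h * ·) hg₂val
        simp only [e', zero_smul, pr, mul_zero, zero_add, ← mul_assoc, S.Pp_Pm, zero_mul] at h2
        have h3 : S.Pp h = 0 := by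
          calc S.Pp h = S.Pp h * (g₂ : A) * ((g₂⁻¹ : Aˣ) : A) := by rw [mul_assoc, Units.mul_inv, mul_one]
            _ = 0 := by rw [h2, zero_mul]
        have h4 := S.pr_eq_zero h (one_mem _) (zero_mem _) (by rw [pr, mul_one, mul_zero, add_zero, h3])
        exact one_ne_zero h4.1
      · have h2 := congrArg (S.Pm h * ·) hg₂val
        simp only [e', zero_smul, pr, mul_zero, add_zero, ← mul_assoc, S.Pm_Pp, zero_mul] at h2
        have h3 : S.Pm h = 0 := by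
          calc S.Pm h = S.Pm h * (g₂ : A) * ((g₂⁻¹ : Aˣ) : A) := by rw [mul_assoc, Units.mul_inv, mul_one]
            _ = 0 := by rw [h2, zero_mul]
        have h4 := S.pr_eq_zero h (zero_mem _) (one_mem _) (by rw [pr, mul_zero, mul_one, zero_add, h3])
        exact one_ne_zero h4.2
    rw [mul_inv_cancel₀ hαγ, ← Units.val_mul] at h1
    have he : k * g₃ * k⁻¹ = k * g₂ * k⁻¹ * (k * m * g₂ * (k * m)⁻¹)⁻¹ := by rw [hg₃]; simp [mul_assoc]
    rw [he]
    simpa [Sim] using h1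

end Sys

end Cfsg.Agent.Classical.CliffordTwo
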