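import Cfsg.Agent.Lib.Classical.CliffordTwo.CentreFour.Label
import Cfsg.Agent.Lib.Classical.CliffordTwo.CentreFour.Step
import Cfsg.Prelude.Def_GeometricClasses
import Cfsg.Agent.Lib.Fus.SympFacts

/-!
An absolutely irreducible two-group of symplectic type of order 256 with centre of order four in dimension eight
carries a labelling by the space of minus type.
-/

set_option autoImplicit false
set_option linter.unusedSectionVars false

namespace Cfsg.Agent.Classical.CliffordTwo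

open Module Matrix
open scoped commutatorElement

local notation "Z2" => ZMod 2

theorem pow_four_cases {F : Type*} [Field F] {i c : F} (hi : i * i = -1) (h : c ^ 4 = 1) :
    c = 1 ∨ c = -1 ∨ c = i ∨ c = -i := by
  rcases mul_eq_zero.1 (show (c * c - 1) * (c * c - i * i) = 0 by rw [hi]; linear_combination h) with e | e
  · rcases mul_self_eq_one_iff.1 (sub_eq_zero.1 e) with e | e
    · exact Or.inl e
    · exact Or.inr (Or.inl e)
  · rcases mul_self_eq_mul_self_iff.1 (sub_eq_zero.1 e) with e | e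
    · exact Or.inr (Or.inr (Or.inl e))
    · exact Or.inr (Or.inr (Or.inr e))

/-- Labels with scalar commutant give a basis. -/
theorem finrank_of_commutant {F : Type*} [Field F] (h2 : (2 : F) ≠ 0) {A : Type*} [Ring A] [Algebra F A] [Nontrivial A]
    [FiniteDimensional F A] {V : Type*} [AddCommGroup V] [Module (ZMod 2) V] [Finite V]
    (B : LinearMap.BilinForm (ZMod 2) V) (hsym : ∀ v w, B v w = B w v) (hsep : ∀ v, (∀ w, B v w = 0) → v = 0)
    (r : V → Aˣ) (hmul : ∀ v w, proj F (r v * r w) = proj F (r (v + w)))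
    (hcomm : ∀ v w, (r v : A) * r w = sg F (B v w) • ((r w : A) * r v))
    (hsc : ∀ a : A, (∀ v, a * r v = r v * a) → ∃ c : F, a = c • (1 : A)) : finrank F A = Nat.card V := by
  classical
  haveI := Fintype.ofFinite V
  have hN : (Fintype.card V : F) ≠ 0 := by
    rw [← Nat.card_eq_fintype_card, Module.natCard_eq_pow_finrank (K := Z2), Nat.card_zmod]
    simp [h2]
  have hsum : ∀ u, u ≠ 0 → ∑ p, sg F (B u p) = 0 := fun u hu => by
    obtain ⟨w, hw⟩ : ∃ w, B u w = 1 := by
      by_contra hc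
      push Not at hc
      exact hu (hsep u fun w => (z2_cases _).resolve_right (hc w))
    have h3 := Equiv.sum_comp (Equiv.addRight w) fun p => sg F (B u p)
    simp only [Equiv.coe_addRight, map_add, hw, sg_add, sg_one, mul_neg_one, Finset.sum_neg_distrib] at h3
    exact (mul_eq_zero.1 (show (2 : F) * ∑ p, sg F (B u p) = 0 by linear_combination -h3)).resolve_left h2
  obtain ⟨E, hE⟩ : ∃ E : V → A →ₗ[F] A, ∀ u X, E u X = ∑ p, sg F (B u p) • ((r p : A) * X * (((r p)⁻¹ : Aˣ) : A)) :=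
    ⟨fun u => ∑ p, sg F (B u p) • ((LinearMap.mulRight F (((r p)⁻¹ : Aˣ) : A)).comp (LinearMap.mulLeft F (r p : A))),
      fun u X => by simp [LinearMap.sum_apply]⟩
  have hconj : ∀ p v, (r p : A) * r v * (((r p)⁻¹ : Aˣ) : A) = sg F (B p v) • (r v : A) := fun p v => by
    rw [hcomm, Algebra.smul_mul_assoc, Units.mul_inv_cancel_right]
  have hEr : ∀ u v, E u (r v) = (∑ p, sg F (B (u + v) p)) • (r v : A) := fun u v => by
    rw [hE, Finset.sum_smul]
    refine Finset.sum_congr rfl fun p _ => ?_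
    rw [hconj, smul_smul, map_add, LinearMap.add_apply, sg_add, hsym p v]
  have hEu : ∀ u, E u (r u) = (Fintype.card V : F) • (r u : A) := fun u => by
    rw [hEr]
    simp [vadd_self, sg_zero]
  have hli : LinearIndependent F fun v => (r v : A) := Fintype.linearIndependent_iff.2 fun g hg u => by
    have h1 := congrArg (E u) hg
    rw [map_sum, map_zero, Finset.sum_eq_single u (fun v _ hvu => ?_) (by simp), map_smul, hEu, smul_smul] at h1
    · exact (mul_eq_zero.1 ((smul_eq_zero.1 h1).resolve_right (r u).ne_zero)).resolve_right hN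
    · rw [map_smul, hEr, hsum _ fun e => hvu (vadd_eq_zero e).symm, zero_smul, smul_zero]
  have hconjP : ∀ (x y : Aˣ) (X : A), proj F x = proj F y →
      (x : A) * X * ((x⁻¹ : Aˣ) : A) = (y : A) * X * ((y⁻¹ : Aˣ) : A) := fun x y X h => by
    obtain ⟨c, hc⟩ := proj_eq_iff.1 h
    refine (Units.mul_inv_eq_iff_eq_mul x).2 ?_
    rw [hc, Algebra.smul_mul_assoc, Algebra.mul_smul_comm]
    congr 1
    rw [mul_assoc ((y : A) * X), Units.inv_mul, mul_one]
  have hspan : ⊤ ≤ Submodule.span F (Set.range fun v => (r v : A)) := fun X _ => by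
    have h0 : ∀ X : A, (r 0 : A) * X * (((r 0)⁻¹ : Aˣ) : A) = X := fun X => by
      rw [hconjP (r 0) 1 X (by
        have h := hmul 0 0
        rw [add_zero, map_mul, mul_eq_left] at h
        rw [h, map_one])]
      simp
    have heig : ∀ u, E u X ∈ Submodule.span F (Set.range fun v => (r v : A)) := fun u => by
      obtain ⟨Y, hY⟩ : ∃ Y, Y = E u X := ⟨_, rfl⟩
      have key : ∀ w, (r w : A) * Y * (((r w)⁻¹ : Aˣ) : A) = sg F (B u w) • Y := fun w => by
        rw [hY, hE, Finset.mul_sum, Finset.sum_mul, Finset.smul_sum]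
        refine Fintype.sum_equiv (Equiv.addLeft w) _ _ fun p => ?_
        rw [Equiv.coe_addLeft, Algebra.mul_smul_comm, Algebra.smul_mul_assoc, smul_smul, map_add, sg_add, ← mul_assoc (sg F (B u w)),
          sg_sq, one_mul]
        congr 1
        rw [← hconjP (r w * r p) (r (w + p)) X (hmul w p)]
        simp [mul_assoc]
      obtain ⟨Z, hZ⟩ : ∃ Z, Z = (((r u)⁻¹ : Aˣ) : A) * Y := ⟨_, rfl⟩
      obtain ⟨z, hz⟩ := hsc Z fun w => by
        have h1 : (r w : A) * (((r u)⁻¹ : Aˣ) : A) = sg F (B u w) • ((((r u)⁻¹ : Aˣ) : A) * r w) := by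
          rw [Units.eq_inv_mul_iff_mul_eq (r u) |>.2 (show (r u : A) * ((r w : A) * (((r u)⁻¹ : Aˣ) : A)) =
            sg F (B u w) • (r w : A) by rw [← mul_assoc, hconj]), Algebra.mul_smul_comm]
        have h2' : (r w : A) * Y = sg F (B u w) • (Y * r w) := by
          rw [← Algebra.smul_mul_assoc, ← key w, Units.inv_mul_cancel_right]
        rw [hZ, ← mul_assoc (r w : A), h1, Algebra.smul_mul_assoc, mul_assoc, mul_assoc, h2', Algebra.mul_smul_comm,
          smul_smul, sg_sq, one_smul]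
      have h3 : Y = z • (r u : A) := by
        rw [← Units.mul_inv_cancel_left (r u) Y, ← hZ, hz, mul_smul_one]
      rw [← hY, h3]
      exact Submodule.smul_mem _ _ (Submodule.subset_span ⟨u, rfl⟩)
    have hall : ∑ u, E u X = (Fintype.card V : F) • X := by
      simp only [hE]
      rw [Finset.sum_comm, Finset.sum_eq_single (0 : V) (fun p _ hp => ?_) (by simp)]
      · simp [h0, sg_zero, Algebra.smul_def]
      · rw [← Finset.sum_smul]
        simp only [hsym _ p]
        rw [hsum p hp, zero_smul]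
    have : X = (Fintype.card V : F)⁻¹ • ∑ u, E u X := by
      rw [hall, smul_smul, inv_mul_cancel₀ hN, one_smul]
    rw [this]
    exact Submodule.smul_mem _ _ (Submodule.sum_mem _ fun u _ => heig u)
  rw [finrank_eq_card_basis (Basis.mk hli hspan), Nat.card_eq_fintype_card]

/-- Membership in the labelled group. -/
def Sys.IsLabelled {F : Type*} [Field F] {ι : Type} [Fintype ι] [DecidableEq ι] {V : Type*} [AddCommGroup V]
    [Module (ZMod 2) V] (S : Sys F (Matrix ι ι F) V) (R : Subgroup (GL ι F)) : Prop :=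
  ∀ x : GL ι F, x ∈ R ↔ ∃ (v : V) (c : F), c ^ 4 = 1 ∧ (x : Matrix ι ι F) = c • (S.r v : Matrix ι ι F)

set_option maxHeartbeats 1000000 in
theorem exists_labelled {F : Type*} [Field F] (h2 : (2 : F) ≠ 0) {R : Subgroup (GL (Fin 8) F)}
    (hR : Cfsg.Geo.IsSymplecticTypeGroup 2 R) (hirr : Cfsg.Geo.ActsAbsolutelyIrreducibly (Cfsg.Geo.matrixSet R))
    {k : ℕ} (hcard : Nat.card R = 2 ^ (2 + 2 * k)) (hZ : Nat.card (Subgroup.center R) = 4) :
    ∃ (S : Sys F (Matrix (Fin 8) (Fin 8) F) V6) (i : F), i * i = -1 ∧ S.toQd = qd6 ∧ S.IsLabelled R := by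
  classical
  haveI : Finite R := Nat.finite_of_card_ne_zero (by rw [hcard]; positivity)
  have h4 : ∀ x : R, x ^ 4 = 1 := fun x => by
    have h := Monoid.pow_exponent_eq_one x
    rwa [hR.exponent_eq] at h
  obtain ⟨hsq, hcm, -⟩ := Fus.SympPair.symp_facts (T := R) ⟨hR.pGroup, hR.cyclic_of_characteristic⟩ h4
  have hval : ∀ x y : R, ((x * y : R) : GL (Fin 8) F) = (x : GL (Fin 8) F) * y := fun x y => rfl
  -- central elements are scalars
  have hsc : ∀ z : R, z ∈ Subgroup.center R → ∃ s : F, ((z : GL (Fin 8) F) : Matrix (Fin 8) (Fin 8) F) = s • 1 :=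
    fun z hz => hirr.2 _ (by
      rintro _ ⟨g, hg, rfl⟩
      have h := congrArg (fun u : R => ((u : GL (Fin 8) F) : Matrix (Fin 8) (Fin 8) F))
        (Subgroup.mem_center_iff.1 hz ⟨g, hg⟩)
      simpa using h.symm)
  have hsinj : ∀ {s t : F}, s • (1 : Matrix (Fin 8) (Fin 8) F) = t • 1 → s = t := fun {s t} h =>
    smul_left_injective F one_ne_zero h
  have hscen : ∀ (z : R) (s : F), ((z : GL (Fin 8) F) : Matrix (Fin 8) (Fin 8) F) = s • 1 → z ∈ Subgroup.center R :=
    fun z s hs => Subgroup.mem_center_iff.2 fun g => Subtype.ext (Units.ext (by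
      rw [hval, hval, Units.val_mul, Units.val_mul, hs, mul_smul_one, smul_one_mul]))
  have hs4 : ∀ (z : R) (s : F), ((z : GL (Fin 8) F) : Matrix (Fin 8) (Fin 8) F) = s • 1 → s ^ 4 = 1 := fun z s hs => by
    have h := congrArg (fun u : R => ((u : GL (Fin 8) F) : Matrix (Fin 8) (Fin 8) F)) (h4 z)
    simp only [SubmonoidClass.coe_pow, Units.val_pow_eq_pow_val, hs, OneMemClass.coe_one, Units.val_one, smul_pow,
      one_pow] at h
    exact hsinj (h.trans (one_smul F _).symm)
  have hs2 : ∀ z : R, z ∈ Subgroup.center R → z ^ 2 = 1 →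
      ((z : GL (Fin 8) F) : Matrix (Fin 8) (Fin 8) F) = 1 ∨ ((z : GL (Fin 8) F) : Matrix (Fin 8) (Fin 8) F) = -1 := by
    intro z hz hz2
    obtain ⟨s, hs⟩ := hsc z hz
    have h := congrArg (fun u : R => ((u : GL (Fin 8) F) : Matrix (Fin 8) (Fin 8) F)) hz2
    simp only [SubmonoidClass.coe_pow, Units.val_pow_eq_pow_val, hs, OneMemClass.coe_one, Units.val_one, smul_pow,
      one_pow] at h
    rcases mul_self_eq_one_iff.1 ((pow_two s).symm.trans (hsinj (h.trans (one_smul F _).symm))) with rfl | rfl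
    · exact Or.inl (by rw [hs, one_smul])
    · exact Or.inr (by rw [hs, neg_one_smul])
  -- a square root of minus one
  obtain ⟨i, hi, zi, hzi⟩ : ∃ i : F, i * i = -1 ∧ ∃ z : R, ((z : GL (Fin 8) F) : Matrix (Fin 8) (Fin 8) F) = i • 1 := by
    by_contra hcon
    push Not at hcon
    have hle : ∀ z : Subgroup.center R, ((((z : R) : GL (Fin 8) F)) : Matrix (Fin 8) (Fin 8) F) = 1 ∨
        (((z : R) : GL (Fin 8) F) : Matrix (Fin 8) (Fin 8) F) = -1 := fun z => by
      obtain ⟨s, hs⟩ := hsc z z.2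
      have h := hs4 _ s hs
      rcases mul_eq_zero.1 (show (s * s - 1) * (s * s + 1) = 0 by linear_combination h) with e | e
      · rcases mul_self_eq_one_iff.1 (sub_eq_zero.1 e) with rfl | rfl
        · exact Or.inl (by rw [hs, one_smul])
        · exact Or.inr (by rw [hs, neg_one_smul])
      · exact absurd hs (hcon s (eq_neg_of_add_eq_zero_left e) z)
    have hinj : Function.Injective fun z : Subgroup.center R =>
        decide ((((z : R) : GL (Fin 8) F) : Matrix (Fin 8) (Fin 8) F) = 1) := fun z z' e => by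
      simp only [decide_eq_decide] at e
      refine Subtype.ext (Subtype.ext (Units.ext ?_))
      rcases hle z with h | h
      · rw [h, e.1 h]
      · rcases hle z' with h' | h'
        · rw [h', e.2 h']
        · rw [h, h']
    have := Nat.card_le_card_of_injective _ hinj
    rw [hZ, Nat.card_eq_fintype_card, Fintype.card_bool] at this
    omega
  have hscal : ∀ c : F, c ^ 4 = 1 → ∃ z : R, ((z : GL (Fin 8) F) : Matrix (Fin 8) (Fin 8) F) = c • 1 := fun c hc => by
    have h2' : ∀ k : ℕ, ((((zi ^ k : R)) : GL (Fin 8) F) : Matrix (Fin 8) (Fin 8) F) = (i ^ k) • 1 := fun k => by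
      rw [SubmonoidClass.coe_pow, Units.val_pow_eq_pow_val, hzi, smul_pow, one_pow]
    rcases pow_four_cases hi hc with rfl | rfl | rfl | rfl
    · exact ⟨1, by rw [OneMemClass.coe_one, Units.val_one, one_smul]⟩
    · exact ⟨zi ^ 2, by rw [h2', pow_two, hi]⟩
    · exact ⟨zi, hzi⟩
    · exact ⟨zi ^ 3, by rw [h2', show i ^ 3 = i * i * i by ring, hi, neg_one_mul]⟩
  -- the quotient
  letI : CommGroup (R ⧸ Subgroup.center R) :=
    { (inferInstance : Group (R ⧸ Subgroup.center R)) with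
      mul_comm := fun a b => by
        obtain ⟨x, rfl⟩ := QuotientGroup.mk_surjective a
        obtain ⟨y, rfl⟩ := QuotientGroup.mk_surjective b
        rw [← QuotientGroup.mk_mul, ← QuotientGroup.mk_mul, QuotientGroup.eq]
        have h1 := (hcm y⁻¹ x⁻¹).1
        rw [commutatorElement_def, inv_inv, inv_inv] at h1
        simpa [mul_assoc] using h1 }
  have hA2 : ∀ a : Additive (R ⧸ Subgroup.center R), 2 • a = 0 := fun a => by
    obtain ⟨x, hx⟩ := QuotientGroup.mk_surjective a.toMul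
    refine Additive.toMul.injective ?_
    rw [toMul_nsmul, toMul_zero, ← hx, ← QuotientGroup.mk_pow, QuotientGroup.eq_one_iff]
    exact (hsq x).1
  letI : Module Z2 (Additive (R ⧸ Subgroup.center R)) := AddCommGroup.zmodModule hA2
  have hfr : finrank Z2 (Additive (R ⧸ Subgroup.center R)) = 2 * k := by
    have hq := Subgroup.card_eq_card_quotient_mul_card_subgroup (Subgroup.center R)
    rw [hcard, hZ] at hq
    have h := Module.natCard_eq_pow_finrank (K := Z2) (V := Additive (R ⧸ Subgroup.center R))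
    rw [Nat.card_congr Additive.toMul, show Nat.card (R ⧸ Subgroup.center R) = 2 ^ (2 * k) by rw [pow_add] at hq; omega, Nat.card_zmod] at h
    exact (Nat.pow_right_injective le_rfl h).symm
  obtain ⟨e, -⟩ : ∃ e : Additive (R ⧸ Subgroup.center R) ≃+ (Fin (2 * k) → Z2), True :=
    ⟨(Module.finBasisOfFinrankEq Z2 _ hfr).equivFun.toAddEquiv, trivial⟩
  obtain ⟨x₀, hx₀⟩ : ∃ x₀ : (Fin (2 * k) → Z2) → R, ∀ v, (x₀ v : R ⧸ Subgroup.center R) = (e.symm v).toMul :=
    ⟨fun v => (e.symm v).toMul.out, fun v => QuotientGroup.out_eq' _⟩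
  obtain ⟨m, hm⟩ : ∃ m : (Fin (2 * k) → Z2) → Matrix (Fin 8) (Fin 8) F,
      ∀ v, m v = ((x₀ v : GL (Fin 8) F) : Matrix (Fin 8) (Fin 8) F) := ⟨_, fun _ => rfl⟩
  have hne : ∀ v, m v ≠ 0 := fun v => hm v ▸ Units.ne_zero _
  have hcoset : ∀ (x : R) v, (x : R ⧸ Subgroup.center R) = (e.symm v).toMul →
      ∃ c : F, c ^ 4 = 1 ∧ ((x : GL (Fin 8) F) : Matrix (Fin 8) (Fin 8) F) = c • m v := fun x v hxv => by
    rw [← hx₀, eq_comm, QuotientGroup.eq] at hxv
    obtain ⟨s, hs⟩ := hsc _ hxv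
    refine ⟨s, hs4 _ s hs, ?_⟩
    rw [hval, Units.val_mul] at hs
    have h1 := congrArg (fun Y => m v * Y) hs
    simp only [← mul_assoc, hm, Subgroup.coe_inv, ← Units.val_mul, mul_inv_cancel, Units.val_one, one_mul,
      mul_smul_one] at h1
    rw [hm]; exact h1
  have hmul0 : ∀ v w, ∃ c : F, c ^ 4 = 1 ∧ m v * m w = c • m (v + w) := fun v w => by
    obtain ⟨c, hc, h⟩ := hcoset (x₀ v * x₀ w) (v + w) (by rw [QuotientGroup.mk_mul, hx₀, hx₀, map_add, toMul_add])
    exact ⟨c, hc, by rw [hm, hm, ← Units.val_mul, ← hval, h]⟩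
  have hcomm0 : ∀ v w, ∃ s : Z2, m v * m w = sg F s • (m w * m v) := fun v w => by
    obtain ⟨h1, h2'⟩ := hcm (x₀ v) (x₀ w)
    have key : ∀ σ : F, ((⁅x₀ v, x₀ w⁆ : R) : GL (Fin 8) F).1 = σ • 1 → m v * m w = σ • (m w * m v) := fun σ hσ => by
      rw [hm, hm, ← Units.val_mul, ← Units.val_mul, ← hval, ← hval,
        show x₀ v * x₀ w = ⁅x₀ v, x₀ w⁆ * (x₀ w * x₀ v) by simp [commutatorElement_def, mul_assoc], hval,
        Units.val_mul, hσ, smul_one_mul]
    rcases hs2 _ h1 h2' with e' | e'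
    · exact ⟨0, key _ (by rw [sg_zero, one_smul]; exact e')⟩
    · exact ⟨1, key _ (by rw [sg_one, neg_one_smul]; exact e')⟩
  have hsq0 : ∀ v, ∃ s : Z2, m v * m v = sg F s • (1 : Matrix (Fin 8) (Fin 8) F) := fun v => by
    obtain ⟨h1, h2'⟩ := hsq (x₀ v)
    rw [hm, ← Units.val_mul, ← hval, ← pow_two]
    rcases hs2 _ h1 h2' with e' | e'
    · exact ⟨0, by rw [e', sg_zero, one_smul]⟩
    · exact ⟨1, by rw [e', sg_one, neg_one_smul]⟩
  choose b hb using hcomm0
  have huniq : ∀ {v w : Fin (2 * k) → Z2} {s : Z2}, m v * m w = sg F s • (m w * m v) → b v w = s := fun {v w s} h => by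
    refine Sys.sg_inj h2 (smul_left_injective F ?_ ((hb v w).symm.trans h))
    rw [hm, hm, ← Units.val_mul]
    exact Units.ne_zero _
  have hbsymm : ∀ v w, b v w = b w v := fun v w => huniq (by
    rw [hb w v, smul_smul, sg_sq, one_smul])
  have hbadd : ∀ v v' w, b (v + v') w = b v w + b v' w := fun v v' w => huniq (by
    obtain ⟨c, hc, h⟩ := hmul0 v v'
    have hc0 : c ≠ 0 := fun e => by rw [e] at hc; norm_num at hc
    have h' : m v * m v' * m w = sg F (b v w + b v' w) • (m w * (m v * m v')) := by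
      rw [mul_assoc, hb v' w, Algebra.mul_smul_comm, ← mul_assoc, hb v w, Algebra.smul_mul_assoc, smul_smul, ← sg_add,
        add_comm (b v' w), mul_assoc]
    rw [h, Algebra.smul_mul_assoc, Algebra.mul_smul_comm, smul_comm] at h'
    exact smul_right_injective _ hc0 h')
  have hb0 : ∀ w, b 0 w = 0 := fun w => by
    have := hbadd 0 0 w
    rwa [add_zero, left_eq_add] at this
  obtain ⟨B, hB⟩ : ∃ B : LinearMap.BilinForm Z2 (Fin (2 * k) → Z2), ∀ v w, B v w = b v w := by
    refine ⟨LinearMap.mk₂ Z2 b hbadd (fun c v w => ?_) (fun v w w' => ?_) (fun c v w => ?_), fun _ _ => rfl⟩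
    · rcases z2_cases c with rfl | rfl <;> simp [hb0]
    · rw [hbsymm v (w + w'), hbadd, hbsymm w, hbsymm w']
    · rcases z2_cases c with rfl | rfl <;> simp [hbsymm v 0, hb0]
  have hcenter : ∀ v, (∀ w, b v w = 0) → v = 0 := fun v hv => by
    have h1 : x₀ v ∈ Subgroup.center R := Subgroup.mem_center_iff.2 fun g => by
      obtain ⟨c, -, hc⟩ := hcoset g (e (Additive.ofMul (g : R ⧸ Subgroup.center R))) (by simp)
      refine Subtype.ext (Units.ext ?_)
      rw [hval, hval, Units.val_mul, Units.val_mul, hc, ← hm, Algebra.smul_mul_assoc, Algebra.mul_smul_comm,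
        hb v _, hv, sg_zero, one_smul]
    rw [← QuotientGroup.eq_one_iff, hx₀, ← toMul_zero] at h1
    have := congrArg e (Additive.toMul.injective h1)
    simpa using this
  have hk : 2 * k = 6 := by
    have h := finrank_of_commutant h2 B (fun v w => by rw [hB, hB, hbsymm]) (fun v hv => hcenter v fun w =>
      (hB v w).symm.trans (hv w)) (fun v => (x₀ v : GL (Fin 8) F)) (fun v w => by
        obtain ⟨c, -, hc⟩ := hmul0 v w
        exact proj_eq_iff.2 ⟨c, by rw [Units.val_mul, ← hm, ← hm, ← hm, hc]⟩) (fun v w => by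
        rw [← hm, ← hm, hB]; exact hb v w) fun a ha => hirr.2 a (by
        rintro _ ⟨g, hg, rfl⟩
        obtain ⟨c, -, hc⟩ := hcoset ⟨g, hg⟩ (e (Additive.ofMul ((⟨g, hg⟩ : R) : R ⧸ Subgroup.center R))) (by simp)
        beta_reduce
        rw [show (g : Matrix (Fin 8) (Fin 8) F) = c • m _ from hc, hm, Algebra.mul_smul_comm, Algebra.smul_mul_assoc, ha])
    rw [finrank_matrix, Module.finrank_self, Fintype.card_fin, Module.natCard_eq_pow_finrank (K := Z2),
      Module.finrank_fin_fun, Nat.card_zmod] at h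
    exact (Nat.pow_right_injective le_rfl (show (2 : ℕ) ^ 6 = 2 ^ (2 * k) by simpa using h)).symm
  obtain ⟨L, hL⟩ := exists_symp_coords (e := 3) B (fun v => by
      rw [hB]; exact huniq (by rw [sg_zero, one_smul]))
    (fun v hv => hcenter v fun w => (hB v w).symm.trans (hv w))
    (by rw [finrank_fintype_fun_eq_card, Fintype.card_fin, hk])
  choose qv hqv using hsq0
  obtain ⟨r, hrdef⟩ : ∃ r : V6 → GL (Fin 8) F, ∀ v,
      r v = if qv (L v) = q6 v then (x₀ (L v) : GL (Fin 8) F) else (zi : GL (Fin 8) F) * (x₀ (L v) : GL (Fin 8) F) :=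
    ⟨_, fun _ => rfl⟩
  have hr : ∀ v, ∃ c : F, c ^ 4 = 1 ∧ (r v : Matrix (Fin 8) (Fin 8) F) = c • m (L v) ∧
      (r v : Matrix (Fin 8) (Fin 8) F) * r v = sg F (q6 v) • (1 : Matrix (Fin 8) (Fin 8) F) := fun v => by
    by_cases h : qv (L v) = q6 v
    · refine ⟨1, one_pow 4, ?_, ?_⟩ <;> rw [hrdef, if_pos h, ← hm]
      · rw [one_smul]
      · rw [hqv, h]
    · have hi4 : i ^ 4 = 1 := by rw [show i ^ 4 = i * i * (i * i) by ring, hi, neg_mul_neg, one_mul]
      have e' : q6 v = qv (L v) + 1 :=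
        (show ∀ a b : Z2, a ≠ b → b = a + 1 by decide) _ _ h
      refine ⟨i, hi4, ?_, ?_⟩ <;> rw [hrdef, if_neg h, Units.val_mul, hzi, smul_one_mul, ← hm]
      rw [smul_mul_smul_comm, hqv, smul_smul, hi, e', sg_add, sg_one, mul_comm]
  have hBq : ∀ v w, qd6.B v w = b (L v) (L w) := fun v w => by
    rw [← hB, hL]; exact sympB_apply v w
  have hcommr : ∀ v w, (r v : Matrix (Fin 8) (Fin 8) F) * r w = sg F (qd6.B v w) • ((r w : Matrix (Fin 8) (Fin 8) F) * r v) :=
    fun v w => by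
      obtain ⟨c, -, hc, -⟩ := hr v
      obtain ⟨d, -, hd, -⟩ := hr w
      rw [hc, hd, smul_mul_smul_comm, smul_mul_smul_comm, hb, hBq, smul_smul, smul_smul]
      ring_nf
  have hmulr : ∀ v w, (r v : Matrix (Fin 8) (Fin 8) F) * r w = (r (v + w) : Matrix (Fin 8) (Fin 8) F) ∨
      (r v : Matrix (Fin 8) (Fin 8) F) * r w = -(r (v + w) : Matrix (Fin 8) (Fin 8) F) := fun v w => by
    obtain ⟨c, hc4, hc, hc2⟩ := hr v
    obtain ⟨d, hd4, hd, hd2⟩ := hr w
    obtain ⟨f, hf4, hf, hf2⟩ := hr (v + w)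
    obtain ⟨s, hs4, hs⟩ := hmul0 (L v) (L w)
    have hf0 : f ≠ 0 := fun e => by rw [e] at hf4; norm_num at hf4
    obtain ⟨k, hk⟩ : ∃ k : F, (r v : Matrix (Fin 8) (Fin 8) F) * r w = k • (r (v + w) : Matrix (Fin 8) (Fin 8) F) :=
      ⟨c * d * s * f⁻¹, by rw [hc, hd, hf, map_add, smul_mul_smul_comm, hs, smul_smul, smul_smul,
        inv_mul_cancel_right₀ hf0]⟩
    have h1 : (r v : Matrix (Fin 8) (Fin 8) F) * r w * ((r v : Matrix (Fin 8) (Fin 8) F) * r w) =
        (k * k * sg F (q6 (v + w))) • (1 : Matrix (Fin 8) (Fin 8) F) := by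
      rw [hk, smul_mul_smul_comm, hf2, smul_smul]
    have h2' : (r v : Matrix (Fin 8) (Fin 8) F) * r w * ((r v : Matrix (Fin 8) (Fin 8) F) * r w) =
        sg F (q6 (v + w)) • (1 : Matrix (Fin 8) (Fin 8) F) := by
      rw [mul_assoc, ← mul_assoc (r w : Matrix (Fin 8) (Fin 8) F), hcommr w v]
      rw [Algebra.smul_mul_assoc, Algebra.mul_smul_comm,
        mul_assoc (r v : Matrix (Fin 8) (Fin 8) F) (r w : Matrix (Fin 8) (Fin 8) F) (r w), hd2,
        Algebra.mul_smul_comm, mul_one, Algebra.mul_smul_comm, hc2, smul_smul, smul_smul]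
      rw [← sg_add, ← sg_add, show q6 (v + w) = q6 v + q6 w + qd6.B v w from qd6.polar v w, qd6.symm w v]
      congr 2
      abel
    have h3 := hsinj (h1.symm.trans h2')
    have hsg : sg F (q6 (v + w)) ≠ 0 := fun e => by
      have := sg_sq F (q6 (v + w)); rw [e, mul_zero] at this; exact zero_ne_one this
    rcases mul_self_eq_one_iff.1 (mul_right_cancel₀ hsg (h3.trans (one_mul _).symm)) with rfl | rfl
    · exact Or.inl (by rw [hk, one_smul])
    · exact Or.inr (by rw [hk, neg_one_smul])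
  obtain ⟨S, hSQ, hSr⟩ := exists_sys h2 qd6 r hmulr hcommr (fun v => (hr v).choose_spec.2.2) (by
    rw [finrank_matrix, Module.finrank_self, Fintype.card_fin, Module.natCard_eq_pow_finrank (K := Z2) (V := V6),
      qd6_finrank, Nat.card_zmod]
    norm_num)
  refine ⟨S, i, hi, hSQ, fun x => ?_⟩
  rw [hSr]
  constructor
  · intro hx
    obtain ⟨v, hv⟩ : ∃ v, L v = e (Additive.ofMul ((⟨x, hx⟩ : R) : R ⧸ Subgroup.center R)) := L.surjective _
    obtain ⟨c, hc4, hc⟩ := hcoset ⟨x, hx⟩ (L v) (by rw [hv]; simp)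
    obtain ⟨d, hd4, hd, -⟩ := hr v
    have hd0 : d ≠ 0 := fun e => by rw [e] at hd4; norm_num at hd4
    refine ⟨v, c * d⁻¹, by rw [mul_pow, inv_pow, hc4, hd4, inv_one, one_mul], ?_⟩
    rw [hd, smul_smul, inv_mul_cancel_right₀ hd0]
    exact hc
  · rintro ⟨v, c, hc4, hx⟩
    obtain ⟨d, hd4, hd, -⟩ := hr v
    obtain ⟨z, hz⟩ := hscal (c * d) (by rw [mul_pow, hc4, hd4, one_mul])
    have : x = ((z * x₀ (L v) : R) : GL (Fin 8) F) := Units.ext (by
      rw [hval, Units.val_mul, hz, ← hm, smul_one_mul, hx, hd, smul_smul])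
    exact this ▸ (z * x₀ (L v)).2

namespace Sys

section

variable {F : Type*} [Field F] {A : Type*} [Ring A] [Algebra F A] {V : Type*} [AddCommGroup V] [Module (ZMod 2) V]
  [Finite V] (S : Sys F A V) {i : F} (hi : i * i = -1)

/-- The square root of a singular label is no similitude. -/
theorem not_sim_sigU {v : V} (hv0 : v ≠ 0) (hqv : S.q v = 0) (ν : F) : ¬ S.Sim ((S.sigU hi v : Aˣ) : A) ν := fun h => by
  have hτ : S.τ ((S.sigU hi v : Aˣ) : A) = ((S.sigU hi v : Aˣ) : A) := by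
    rw [sigU_val, inv2, ph, if_pos hqv, one_smul, map_add, map_smul, map_smul, S.τ_one, S.adj, hqv, sg_zero, one_smul]
  rw [Sim, hτ, ← Units.val_mul, S.sigU_sq hi, inv2, ph, if_pos hqv, one_smul] at h
  refine hv0 ((S.psys hi).t_inj v ?_)
  rw [psys_t, proj_eq_one_iff, mem_scal]
  exact ⟨ν, h⟩

/-- An isometry normalises up to scalars only if it normalises up to sign. -/
theorem gsysN_of_mem_Nh {x : S.Iso} (hx : (x : Aˣ) ∈ S.Nh hi) : x ∈ S.gsys.N := fun v => by
  haveI := S.nontrivial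
  obtain ⟨w, hw⟩ := hx v
  rw [psys_t, psys_t, ← map_inv, ← map_mul, ← map_mul] at hw
  obtain ⟨c, hc⟩ := proj_eq_iff.1 hw
  have h1 : S.Sim (((x : Aˣ) * S.r v * (x : Aˣ)⁻¹ : Aˣ) : A) 1 := by
    have hx1 : S.Sim ((x : Aˣ) : A) 1 := by rw [Sim, one_smul]; exact x.2
    have := Sim.mul S (Sim.mul S hx1 (S.sim_r v)) (Sim.inv S hx1)
    rwa [one_mul, one_mul, inv_one, ← Units.val_mul, ← Units.val_mul] at this
  rw [hc] at h1
  have h2 : S.Sim (c • (S.r w : A)) (c * c * 1) := Sim.smul S (S.sim_r w) c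
  have h3 : c * c * 1 = 1 := smul_left_injective F one_ne_zero (h2.symm.trans h1)
  rw [mul_one] at h3
  refine ⟨w, S.peq_iff.2 ?_⟩
  rcases mul_self_eq_one_iff.1 h3 with rfl | rfl
  · left
    rw [one_smul] at hc
    simpa [gsys_r, rI_val] using hc
  · right
    rw [neg_one_smul] at hc
    simpa [gsys_r, rI_val] using hc

theorem mem_Nh_of_gsysN {x : S.Iso} (hx : x ∈ S.gsys.N) : (x : Aˣ) ∈ S.Nh hi := fun v => by
  obtain ⟨w, hw⟩ := hx v
  refine ⟨w, ?_⟩
  rw [psys_t, psys_t, ← map_inv, ← map_mul, ← map_mul, proj_eq_iff]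
  rcases S.peq_iff.1 hw with e | e
  · exact ⟨1, by rw [one_smul]; simpa [gsys_r, rI_val] using e⟩
  · exact ⟨-1, by rw [neg_one_smul]; simpa [gsys_r, rI_val] using e⟩

/-- A subgroup with the isometries contains all similitudes with fourth root of unity multiplier. -/
theorem sim_mem {G M : Subgroup Aˣ} (hiso : ∀ g ∈ G, S.Sim (g : A) 1 → g ∈ M) (hMG : M ≤ G) {v : V} (hv : S.q v = 1)
    (hσ : S.sigU hi v ∈ M) (hiM : iU A hi ∈ M) {g : Aˣ} (hg : g ∈ G) {ν : F} (hν : ν ^ 4 = 1)
    (hs : S.Sim (g : A) ν) : g ∈ M := by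
  have hi0 := S.i_ne hi
  have hiG := hMG hiM
  have hσG := hMG hσ
  have hsi : S.Sim ((iU A hi : Aˣ) : A) (-1) := by
    have := Sim.smul S (Sim.one S) i
    rwa [hi, mul_one] at this
  rcases pow_four_cases hi hν with e | e | e | e <;> rw [e] at hs
  · exact hiso g hg hs
  · have h1 := hiso (g * iU A hi) (mul_mem hg hiG) (by
      have := Sim.mul S hs hsi
      rwa [neg_mul_neg, one_mul, ← Units.val_mul] at this)
    simpa using mul_mem h1 (inv_mem hiM)
  · have h1 := hiso (g * (S.sigU hi v)⁻¹) (mul_mem hg (inv_mem hσG)) (by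
      have := Sim.mul S hs (Sim.inv S (S.sim_sigU hi hv))
      rwa [mul_inv_cancel₀ hi0, ← Units.val_mul] at this)
    simpa using mul_mem h1 hσ
  · have h1 := hiso (g * S.sigU hi v) (mul_mem hg hσG) (by
      have := Sim.mul S hs (S.sim_sigU hi hv)
      rwa [neg_mul, hi, neg_neg, ← Units.val_mul] at this)
    simpa using mul_mem h1 (inv_mem hσ)

end

section

variable {F : Type*} [Field F] {ι : Type} [Fintype ι] [DecidableEq ι] [Nonempty ι] {V : Type*} [AddCommGroup V]
  [Module (ZMod 2) V] [Finite V] (S : Sys F (Matrix ι ι F) V) {i : F} (hi : i * i = -1) {R : Subgroup (GL ι F)}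

theorem IsLabelled.r_mem {S : Sys F (Matrix ι ι F) V} (hR : S.IsLabelled R) (v : V) : S.r v ∈ R :=
  (hR _).2 ⟨v, 1, one_pow 4, (one_smul F _).symm⟩

theorem IsLabelled.i_mem {S : Sys F (Matrix ι ι F) V} (hR : S.IsLabelled R) : iU (Matrix ι ι F) hi ∈ R := by
  have hi4 : i ^ 4 = 1 := by rw [show i ^ 4 = i * i * (i * i) by ring, hi, neg_mul_neg, one_mul]
  rcases S.r_zero with e | e
  · exact (hR _).2 ⟨0, i, hi4, by rw [iU_val, e]⟩
  · exact (hR _).2 ⟨0, -i, by rw [neg_pow, hi4]; norm_num, by rw [iU_val, e, smul_neg, neg_smul, neg_neg]⟩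

theorem IsLabelled.mem_normalizer {S : Sys F (Matrix ι ι F) V} (hR : S.IsLabelled R) {g : GL ι F} :
    g ∈ Cfsg.Geo.subgroupNormalizer R ↔ g ∈ S.Nh hi := by
  constructor
  · intro hg v
    obtain ⟨w, c, -, hc⟩ := (hR _).1 ((Subgroup.mem_normalizer_iff.1 hg _).1 (hR.r_mem v))
    refine ⟨w, ?_⟩
    rw [psys_t, psys_t, ← map_inv, ← map_mul, ← map_mul, proj_eq_iff]
    exact ⟨c, hc⟩
  · intro hg
    have hmem : ∀ g' ∈ S.Nh hi, ∀ x ∈ R, g' * x * g'⁻¹ ∈ R := fun g' hg' x hx => by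
      obtain ⟨v, c, hc4, hc⟩ := (hR x).1 hx
      obtain ⟨w, hw⟩ := hg' v
      rw [psys_t, psys_t, ← map_inv, ← map_mul, ← map_mul] at hw
      obtain ⟨d, hd⟩ := proj_eq_iff.1 hw
      have h1 : ((g' * S.r v * g'⁻¹ : GL ι F) : Matrix ι ι F) * ((g' * S.r v * g'⁻¹ : GL ι F) : Matrix ι ι F) =
          sg F (S.q v) • (1 : Matrix ι ι F) := by
        rw [← Units.val_mul, conj_mul, Units.val_mul, Units.val_mul, Units.val_mul, S.sq, Algebra.mul_smul_comm,
          Algebra.smul_mul_assoc, mul_one, Units.mul_inv]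
      rw [hd, smul_mul_smul_comm, S.sq, smul_smul] at h1
      have h2 := smul_left_injective F one_ne_zero h1
      have hd4 : d ^ 4 = 1 := by
        linear_combination (d * d * sg F (S.q w) + sg F (S.q v)) * h2 - d ^ 4 * sg_sq F (S.q w) + sg_sq F (S.q v)
      refine (hR _).2 ⟨w, c * d, by rw [mul_pow, hc4, hd4, one_mul], ?_⟩
      rw [Units.val_mul, Units.val_mul, hc, Algebra.mul_smul_comm, Algebra.smul_mul_assoc, ← Units.val_mul,
        ← Units.val_mul, hd, smul_smul]
    rw [Cfsg.Geo.subgroupNormalizer, Subgroup.mem_normalizer_iff]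
    exact fun x => ⟨hmem g hg x, fun h => by simpa [mul_assoc] using hmem _ (inv_mem hg) _ h⟩

variable {S}

theorem IsForm.det_r {M : Matrix ι ι F} (hM : S.IsForm M) (hι : Fintype.card ι = 8) (hsk : Mᵀ = -M) (v : V) :
    (S.r v : Matrix ι ι F).det = 1 := by rw [hM.det_sim hι hsk (S.sim_r v), one_pow]

theorem IsForm.det_iU {M : Matrix ι ι F} (hM : S.IsForm M) (hι : Fintype.card ι = 8) (hsk : Mᵀ = -M) :
    ((iU (Matrix ι ι F) hi : GL ι F) : Matrix ι ι F).det = 1 := by
  have := Sim.smul S (Sim.one S) i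
  rw [hi, mul_one] at this
  rw [hM.det_sim hι hsk (g := iU (Matrix ι ι F) hi) this]
  ring

theorem IsForm.det_sigU {M : Matrix ι ι F} (hM : S.IsForm M) (hι : Fintype.card ι = 8) (hsk : Mᵀ = -M) (v : V) :
    ((S.sigU hi v : GL ι F) : Matrix ι ι F).det = 1 := by
  have hi4 : i ^ 4 = 1 := by rw [show i ^ 4 = i * i * (i * i) by ring, hi, neg_mul_neg, one_mul]
  have hone : ∀ {w}, S.q w = 1 → ((S.sigU hi w : GL ι F) : Matrix ι ι F).det = 1 := fun {w} hw => by
    rw [hM.det_sim hι hsk (S.sim_sigU hi hw), hi4]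
  rcases z2_cases (S.q v) with hv | hv
  swap; exact hone hv
  rcases eq_or_ne v 0 with rfl | hv0
  · have h1 : ((S.sigU hi 0 : GL ι F) : Matrix ι ι F) = ((1 + i) / 2 + (1 - i) / 2) • (1 : Matrix ι ι F) ∨
        ((S.sigU hi 0 : GL ι F) : Matrix ι ι F) = ((1 + i) / 2 - (1 - i) / 2) • (1 : Matrix ι ι F) := by
      rw [sigU_val, inv2, ph, if_pos S.toQd.q_zero, one_smul]
      rcases S.r_zero with e | e <;> rw [e]
      · left; rw [add_smul]
      · right; rw [smul_neg, sub_smul]; simp only [sub_eq_add_neg]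
    have h2 := S.two
    rcases h1 with e | e <;> rw [e, Matrix.det_smul, Matrix.det_one, mul_one, hι]
    · rw [show (1 + i) / 2 + (1 - i) / 2 = 1 by field_simp; ring, one_pow]
    · rw [show (1 + i) / 2 - (1 - i) / 2 = i by field_simp; ring, show i ^ 8 = (i ^ 4) ^ 2 by ring, hi4, one_pow]
  obtain ⟨x, -, hx⟩ := S.toQd.exists_perp_one (S := ⊥) (v := v) (fun h => hv0 ((Submodule.mem_bot _).1 h))
  obtain ⟨u, hu, huv⟩ : ∃ u, S.q u = 0 ∧ S.B u v = 1 := by
    rw [S.toQd.symm] at hx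
    rcases z2_cases (S.q x) with e | e
    · exact ⟨x, e, hx⟩
    · exact ⟨x + v, by rw [S.polar, e, hv, hx]; rfl, by
        rw [map_add, LinearMap.add_apply, hx, S.toQd.self_perp, add_zero]⟩
  have hq : S.q (v + u) = 1 := by rw [S.polar, hv, hu, S.toQd.symm, huv]; rfl
  have hproj : proj F (S.sigU hi u * S.r v * (S.sigU hi u)⁻¹) = proj F (S.r (v + u)) := by
    rw [map_mul, map_mul, map_inv, ← S.psys_t hi, ← S.psys_t hi, ← S.psys_sig hi, (S.psys hi).sig_conj,
      show (S.psys hi).B u v = 1 from huv, one_smul]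
  have hd := hone hq
  have hconj : ((S.sigU hi u * S.sigU hi v * (S.sigU hi u)⁻¹ : GL ι F) : Matrix ι ι F).det =
      ((S.sigU hi v : GL ι F) : Matrix ι ι F).det := by
    rw [Units.val_mul, Units.val_mul, Matrix.det_units_conj]
  rw [← hconj]
  rcases S.conj_sigU hi hproj with e | e
  · rw [e, hd]
  · rw [e, Matrix.det_smul, hι, show i ^ 8 = (i ^ 4) ^ 2 by ring, hi4, one_pow, one_mul]
    have h2 := congrArg Matrix.det (Units.mul_inv (S.sigU hi (v + u)))
    rwa [Matrix.det_mul, hd, one_mul, Matrix.det_one] at h2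

end

end Sys

end Cfsg.Agent.Classical.CliffordTwo
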