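import Cfsg.Agent.Lib.Classical.CliffordTwo.CentreFour.Basic
import Cfsg.Agent.Lib.Classical.CliffordTwo.Ctl

/-!
Tools for the reduction: transvection lifts of isometries, similitudes, pairs of units of the perpendicular algebra.
-/

set_option autoImplicit false
set_option linter.unusedSectionVars false

namespace Cfsg.Agent.Classical.CliffordTwo

open Module

local notation "Z2" => ZMod 2

/-- Two vectors can be moved to nonsingular ones by a single transvection. -/
theorem Qd.exists_prescribed {V : Type*} [AddCommGroup V] [Module (ZMod 2) V] [Finite V] (Q : Qd V)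
    (hd : 4 ≤ finrank (ZMod 2) V) {w w' : V} (hw : w ≠ 0) (hw' : w' ≠ 0) (hne : w ≠ w') :
    ∃ u, Q.q u = 0 ∧ Q.B u w = 1 + Q.q w ∧ Q.B u w' = 1 + Q.q w' := by
  have h1 : w ∉ Submodule.span Z2 ({w'} : Set V) := fun h => by
    rcases mem_span_one h with e | e
    · exact hw e
    · exact hne e
  have h2 : w' ∉ Submodule.span Z2 ({w} : Set V) := fun h => by
    rcases mem_span_one h with e | e
    · exact hw' e
    · exact hne e.symm
  obtain ⟨x₁, hx₁, hx₁1⟩ := Q.exists_perp_one h1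
  obtain ⟨x₂, hx₂, hx₂1⟩ := Q.exists_perp_one h2
  rw [Q.mem_perp_one] at hx₁ hx₂
  obtain ⟨x, hx⟩ : ∃ x, x = (1 + Q.q w) • x₁ + (1 + Q.q w') • x₂ := ⟨_, rfl⟩
  have hxw : Q.B x w = 1 + Q.q w := by
    rw [Q.symm, hx, map_add, map_smul, map_smul, hx₁1, hx₂, smul_zero, add_zero, smul_eq_mul, mul_one]
  have hxw' : Q.B x w' = 1 + Q.q w' := by
    rw [Q.symm, hx, map_add, map_smul, map_smul, hx₂1, hx₁, smul_zero, zero_add, smul_eq_mul, mul_one]
  rcases z2_cases (Q.q x) with hq | hq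
  · exact ⟨x, hq, hxw, hxw'⟩
  obtain ⟨U, hU⟩ : ∃ U, U = Q.perp (Submodule.span Z2 ({w, w'} : Set V)) := ⟨_, rfl⟩
  by_cases hy : ∃ y ∈ U, Q.q y + Q.B x y = 1
  · obtain ⟨y, hyU, hy⟩ := hy
    rw [hU, Q.mem_perp_two, Q.symm w, Q.symm w'] at hyU
    refine ⟨x + y, ?_, ?_, ?_⟩
    · rw [Q.polar, hq, add_assoc, hy]; rfl
    · rw [map_add, LinearMap.add_apply, hxw, hyU.1, add_zero]
    · rw [map_add, LinearMap.add_apply, hxw', hyU.2, add_zero]
  push Not at hy
  exfalso
  have h0 : ∀ y ∈ U, Q.q y + Q.B x y = 0 := fun y hyU => (z2_cases _).resolve_right (hy y hyU)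
  have hiso : U ≤ Q.perp U := fun y hyU z hz => by
    have e := h0 _ (add_mem hz hyU)
    rw [Q.polar, map_add] at e
    have e1 := h0 z hz
    have e2 := h0 y hyU
    linear_combination e - e1 - e2
  have hspan := Qd.finrank_span_pair_le w w'
  have heq : U = Submodule.span Z2 ({w, w'} : Set V) := by
    refine Submodule.eq_of_le_of_finrank_le ?_ ?_
    · exact hiso.trans (by rw [hU, Q.perp_perp])
    · rw [hU, Q.finrank_perp]; omega
  have hwU : w ∈ U := heq ▸ Submodule.subset_span (by simp)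
  have e := h0 w hwU
  rw [hxw, ← add_assoc, add_comm (Q.q w) 1, add_assoc, z2_add_self, add_zero] at e
  exact one_ne_zero e

namespace PSys

variable {P : Type*} [Group P] {V : Type*} [AddCommGroup V] [Module (ZMod 2) V] [Finite V] (S : PSys P V)

/-- Every isometry of the space is induced by a product of transvection elements. -/
theorem exists_lift {H : Subgroup P} (hsig : ∀ v, S.sig v ∈ H) (f : V →ₗ[ZMod 2] V)
    (hf : ∀ v w, S.B (f v) (f w) = S.B v w) : ∃ n ∈ H, n ∈ S.N ∧ ∀ v, S.phi n v = f v := by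
  obtain ⟨d, hd⟩ : ∃ d, d = finrank Z2 V - finrank Z2 (LinearMap.ker (f + LinearMap.id)) := ⟨_, rfl⟩
  induction d using Nat.strong_induction_on generalizing f with
  | _ d ih =>
  by_cases hid : ∀ v, f v = v
  · exact ⟨1, one_mem _, one_mem _, fun v => by rw [S.phi_one, hid]⟩
  push Not at hid
  obtain ⟨v, hv⟩ := hid
  have hK : ∀ u, u ∈ LinearMap.ker (f + LinearMap.id) ↔ f u = u := fun u => by
    rw [LinearMap.mem_ker, LinearMap.add_apply, LinearMap.id_apply]
    exact ⟨vadd_eq_zero, fun e => by rw [e, vadd_self]⟩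
  have hinj : Function.Injective f := fun a b e => vadd_eq_zero (S.sep _ fun w => by
    rw [map_add, LinearMap.add_apply, ← hf a w, ← hf b w, e, z2_add_self])
  obtain ⟨n, hnH, hnN, hnK, hnv⟩ : ∃ n ∈ H, n ∈ S.N ∧ (∀ u, f u = u → S.phi n u = u) ∧ S.phi n (f v) = v := by
    have step : ∀ a b : V, S.B a b = 1 → (∀ u, f u = u → S.B a u = S.B b u) →
        (∀ u, f u = u → S.phi (S.sig (a + b)) u = u) ∧ S.phi (S.sig (a + b)) a = b := by
      intro a b hab hK'
      refine ⟨fun u hu => ?_, ?_⟩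
      · rw [S.phi_sig, map_add, LinearMap.add_apply, hK' u hu, z2_add_self, zero_smul, add_zero]
      · rw [S.phi_sig, map_add, LinearMap.add_apply, S.toQd.self_perp, S.toQd.symm b a, hab, zero_add, one_smul,
          ← add_assoc, vadd_self, zero_add]
    rcases z2_cases (S.B (f v) v) with hb | hb
    · obtain ⟨s, hs, hs1⟩ := S.toQd.exists_perp_one
        (S := LinearMap.ker (f + LinearMap.id) ⊔ Submodule.span Z2 ({v + f v} : Set V)) (v := v) fun hmem => by
          obtain ⟨k, hk, r, hr, e⟩ := Submodule.mem_sup.1 hmem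
          rw [hK] at hk
          rcases mem_span_one hr with rfl | rfl
          · rw [add_zero] at e; exact hv (e ▸ hk)
          · have e' : f v = k := by
              have h1 := congrArg (fun x => x + v) e
              rw [vadd_self, add_comm v (f v), ← add_assoc k, add_assoc, vadd_self, add_zero] at h1
              exact (vadd_eq_zero h1).symm
            exact hv (hinj (e' ▸ hk))
      have hsv : S.B (v + f v) s = 0 :=
        hs _ (Submodule.mem_sup_right (Submodule.subset_span rfl))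
      have hfs : S.B (f v) s = 1 := by
        rw [map_add, LinearMap.add_apply, hs1] at hsv
        exact (z2_add_eq_zero.1 hsv).symm
      have hsK : ∀ u, f u = u → S.B s u = 0 := fun u hu => by
        rw [S.toQd.symm]; exact hs u (Submodule.mem_sup_left ((hK u).2 hu))
      obtain ⟨u₀, hu₀⟩ : ∃ u₀, u₀ = v + s := ⟨_, rfl⟩
      obtain ⟨a1, a2⟩ := step (f v) u₀ (by rw [hu₀, map_add, hb, hfs, zero_add]) fun u hu => by
        rw [hu₀, map_add, LinearMap.add_apply, hsK u hu, add_zero]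
        nth_rewrite 1 [← hu]
        rw [hf]
      obtain ⟨b1, b2⟩ := step u₀ v (by
        rw [hu₀, map_add, LinearMap.add_apply, S.toQd.self_perp, S.toQd.symm, hs1, zero_add]) fun u hu => by
        rw [hu₀, map_add, LinearMap.add_apply, hsK u hu, add_zero]
      refine ⟨S.sig (u₀ + v) * S.sig (f v + u₀), mul_mem (hsig _) (hsig _),
        mul_mem (S.sig_mem_N _) (S.sig_mem_N _), fun u hu => ?_, ?_⟩
      · rw [S.phi_mul (S.sig_mem_N _) (S.sig_mem_N _), a1 u hu, b1 u hu]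
      · rw [S.phi_mul (S.sig_mem_N _) (S.sig_mem_N _), a2, b2]
    · obtain ⟨a1, a2⟩ := step (f v) v hb fun u hu => by
        nth_rewrite 1 [← hu]
        rw [hf]
      exact ⟨_, hsig _, S.sig_mem_N _, a1, a2⟩
  obtain ⟨f', hf'⟩ : ∃ f', f' = (S.disp hnN + LinearMap.id).comp f := ⟨_, rfl⟩
  have hf'x : ∀ x, f' x = S.phi n (f x) := fun x => by
    rw [hf', LinearMap.comp_apply, LinearMap.add_apply, LinearMap.id_apply, S.disp_apply, add_assoc, vadd_self,
      add_zero]
  have hlt : LinearMap.ker (f + LinearMap.id) < LinearMap.ker (f' + LinearMap.id) := by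
    have hK' : ∀ u, f' u = u → u ∈ LinearMap.ker (f' + LinearMap.id) := fun u hu => by
      rw [LinearMap.mem_ker, LinearMap.add_apply, LinearMap.id_apply, hu, vadd_self]
    refine lt_of_le_of_ne (fun u hu => hK' u ?_) fun e => hv ((hK v).1 (e ▸ hK' v ?_))
    · rw [hf'x, (hK u).1 hu, hnK u ((hK u).1 hu)]
    · rw [hf'x, hnv]
  obtain ⟨n', hn'H, hn'N, hn'⟩ := ih _ (by
    have h1 := Submodule.finrank_lt_finrank_of_lt hlt
    have h2 := Submodule.finrank_le (LinearMap.ker (f' + LinearMap.id))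
    rw [hd]; omega) f' (fun a b => by rw [hf'x, hf'x, S.B_phi hnN, hf]) rfl
  refine ⟨n⁻¹ * n', mul_mem (inv_mem hnH) hn'H, mul_mem (inv_mem hnN) hn'N, fun x => ?_⟩
  rw [S.phi_mul (inv_mem hnN) hn'N, hn', hf'x, ← S.phi_mul (inv_mem hnN) hnN, inv_mul_cancel, S.phi_one]

end PSys

namespace Sys

variable {F : Type*} [Field F] {A : Type*} [Ring A] [Algebra F A] {V : Type*} [AddCommGroup V] [Module (ZMod 2) V]
  (S : Sys F A V)

/-- A similitude with the given multiplier. -/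
def Sim (x : A) (μ : F) : Prop := S.τ x * x = μ • (1 : A)

theorem Sim.mul {x y : A} {μ ν : F} (hx : S.Sim x μ) (hy : S.Sim y ν) : S.Sim (x * y) (μ * ν) := by
  rw [Sim, S.τ_mul, mul_assoc, ← mul_assoc (S.τ x), hx, smul_one_mul, Algebra.mul_smul_comm, hy, smul_smul]

theorem Sim.smul {x : A} {μ : F} (hx : S.Sim x μ) (c : F) : S.Sim (c • x) (c * c * μ) := by
  rw [Sim, map_smul, smul_mul_smul_comm, hx, smul_smul]

theorem Sim.one : S.Sim 1 1 := by rw [Sim, S.τ_one, one_mul, one_smul]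

theorem Sim.inv {x : Aˣ} {μ : F} (hx : S.Sim (x : A) μ) : S.Sim ((x⁻¹ : Aˣ) : A) μ⁻¹ := by
  haveI := S.nontrivial
  have hμ : μ ≠ 0 := fun e => by
    rw [Sim, e, zero_smul] at hx
    have h1 := congrArg (fun y => S.τ ((x⁻¹ : Aˣ) : A) * y) hx
    simp only [mul_zero, ← mul_assoc, ← S.τ_mul, Units.mul_inv, S.τ_one, one_mul] at h1
    exact x.ne_zero h1
  have h1 : S.τ ((x⁻¹ : Aˣ) : A) * S.τ (x : A) = 1 := by rw [← S.τ_mul, Units.mul_inv, S.τ_one]
  have h2 : S.τ (x : A) = μ • ((x⁻¹ : Aˣ) : A) := by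
    rw [← mul_one (S.τ (x : A)), ← x.mul_inv, ← mul_assoc, hx, smul_one_mul]
  rw [h2, Algebra.mul_smul_comm] at h1
  rw [Sim, ← one_smul F (S.τ _ * _), ← inv_mul_cancel₀ hμ, ← smul_smul, h1]

theorem sim_r (v : V) : S.Sim (S.r v : A) 1 := by rw [Sim, S.τ_r_mul, one_smul]

theorem sim_pq {T : A} (hT : T * T = 1) (hτ : S.τ T = -T) (a b : F) :
    S.Sim (a • (1 : A) + b • T) (a * a - b * b) := by
  rw [Sim, map_add, map_smul, map_smul, S.τ_one, hτ]
  simp only [add_mul, mul_add, smul_mul_smul_comm, one_mul, mul_one, smul_neg, neg_mul, hT]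
  module

/-- Conjugation fixes the unit and transports the labelled element. -/
theorem conj_pq (n : Aˣ) (a b : F) (T : A) :
    (n : A) * (a • (1 : A) + b • T) * ((n⁻¹ : Aˣ) : A) = a • (1 : A) + b • ((n : A) * T * ((n⁻¹ : Aˣ) : A)) := by
  simp only [mul_add, add_mul, Algebra.mul_smul_comm, Algebra.smul_mul_assoc, mul_one, Units.mul_inv]

variable {i : F} (hi : i * i = -1)

/-- A unit normalising the labelled elements modulo scalars. -/
def Nh [Finite V] : Subgroup Aˣ := (S.psys hi).N.comap (proj F)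

/-- The labelled elements times scalars. -/
def Rh [Finite V] : Subgroup Aˣ := (S.psys hi).R.comap (proj F)

variable [Finite V]

theorem psys_t (v : V) : (S.psys hi).t v = proj F (S.r v) := rfl

theorem psys_sig (v : V) : (S.psys hi).sig v = proj F (S.sigU hi v) := rfl

theorem mem_Nh {g : Aˣ} : g ∈ S.Nh hi ↔ proj F g ∈ (S.psys hi).N := Iff.rfl

theorem mem_Rh {g : Aˣ} : g ∈ S.Rh hi ↔ ∃ (v : V) (c : F), (g : A) = c • (S.r v : A) := by
  show (∃ v, proj F g = proj F (S.r v)) ↔ _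
  simp only [proj_eq_iff]

theorem r_mem_Rh (v : V) : S.r v ∈ S.Rh hi := (S.mem_Rh hi).2 ⟨v, 1, by rw [one_smul]⟩

theorem Rh_le_Nh : S.Rh hi ≤ S.Nh hi := Subgroup.comap_mono (S.psys hi).R_le_N

theorem sigU_mem_Nh (v : V) : S.sigU hi v ∈ S.Nh hi := (S.psys hi).sig_mem_N v

theorem conj_mem_Rh {n g : Aˣ} (hn : n ∈ S.Nh hi) (hg : g ∈ S.Rh hi) : n * g * n⁻¹ ∈ S.Rh hi := by
  obtain ⟨v, hv⟩ := hg
  exact ⟨_, by rw [map_mul, map_mul, map_inv, hv, (S.psys hi).phi_spec hn]⟩

theorem scal_le_Rh : scal F A ≤ S.Rh hi := fun x hx => ⟨0, by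
  rw [proj_eq_one_iff.2 hx, (S.psys hi).t_zero]⟩

theorem mem_Nh_of_gens (h : HPair S.toQd) {g : Aˣ} (hz : g * S.r h.z * g⁻¹ ∈ S.Rh hi)
    (hx : g * S.r h.x * g⁻¹ ∈ S.Rh hi) (hw : ∀ w : h.W, g * S.r (w : V) * g⁻¹ ∈ S.Rh hi) : g ∈ S.Nh hi := by
  obtain ⟨U, hU⟩ : ∃ U : Submodule Z2 V, ∀ v, v ∈ U ↔ g * S.r v * g⁻¹ ∈ S.Rh hi :=
    ⟨{ carrier := {v | proj F g * (S.psys hi).t v * (proj F g)⁻¹ ∈ (S.psys hi).R}
       zero_mem' := by simp [(S.psys hi).t_zero]
       add_mem' := fun {a b} ha hb => by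
         show _ ∈ (S.psys hi).R
         rw [(S.psys hi).t_add, show proj F g * ((S.psys hi).t a * (S.psys hi).t b) * (proj F g)⁻¹ =
           proj F g * (S.psys hi).t a * (proj F g)⁻¹ * (proj F g * (S.psys hi).t b * (proj F g)⁻¹) by simp [mul_assoc]]
         exact mul_mem ha hb
       smul_mem' := fun c x hx => by
         rcases z2_smul c x with e | e <;> rw [e]
         · simp [(S.psys hi).t_zero]
         · exact hx }, fun v => by
      show _ ∈ (S.psys hi).R ↔ proj F _ ∈ (S.psys hi).R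
      rw [map_mul, map_mul, map_inv, S.psys_t]⟩
  intro v
  have e : v = (v + S.B h.x v • h.z + S.B h.z v • h.x) + (S.B h.x v • h.z + S.B h.z v • h.x) := by
    rw [add_assoc v, add_assoc v, vadd_self, add_zero]
  have hv : v ∈ U := by
    rw [e]
    exact add_mem ((hU _).2 (hw ⟨_, h.decomp v⟩))
      (add_mem (Submodule.smul_mem _ _ ((hU _).2 hz)) (Submodule.smul_mem _ _ ((hU _).2 hx)))
  obtain ⟨u, hu⟩ := (hU v).1 hv
  rw [map_mul, map_mul, map_inv] at hu
  exact ⟨u, hu⟩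

/-- The conjugate of a square root is again one, for the image vector. -/
theorem conj_sigU {l : Aˣ} {w w' : V} (h : proj F (l * S.r w * l⁻¹) = proj F (S.r w')) :
    (l * S.sigU hi w * l⁻¹ = S.sigU hi w' ∨ ((l * S.sigU hi w * l⁻¹ : Aˣ) : A) = i • (((S.sigU hi w')⁻¹ : Aˣ) : A)) := by
  obtain ⟨c, hc⟩ := proj_eq_iff.1 h
  rw [Units.val_mul, Units.val_mul] at hc
  have hT : (l : A) * S.inv2 i w * ((l⁻¹ : Aˣ) : A) = (S.ph i w * c * (S.ph i w')⁻¹) • S.inv2 i w' := by
    rw [inv2, inv2, Algebra.mul_smul_comm, Algebra.smul_mul_assoc, hc, smul_smul, smul_smul, inv_mul_cancel_right₀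
      (S.ph_ne hi w')]
  obtain ⟨d, hd⟩ : ∃ d, d = S.ph i w * c * (S.ph i w')⁻¹ := ⟨_, rfl⟩
  rw [← hd] at hT
  have hd2 : d * d = 1 := by
    haveI := S.nontrivial
    have h1 : ((l : A) * S.inv2 i w * ((l⁻¹ : Aˣ) : A)) * ((l : A) * S.inv2 i w * ((l⁻¹ : Aˣ) : A)) = 1 := by
      simp only [mul_assoc, Units.inv_mul_cancel_left]
      rw [← mul_assoc (S.inv2 i w), S.inv2_sq hi, one_mul, Units.mul_inv]
    rw [hT, smul_mul_smul_comm, S.inv2_sq hi] at h1
    exact smul_left_injective F one_ne_zero (h1.trans (one_smul F (1 : A)).symm)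
  rcases mul_self_eq_one_iff.1 hd2 with rfl | rfl
  · left
    refine Units.ext ?_
    rw [Units.val_mul, Units.val_mul, sigU_val, conj_pq, hT, one_smul, sigU_val]
  · right
    rw [Units.val_mul, Units.val_mul, sigU_val, conj_pq, hT, neg_one_smul, smul_neg, ← S.sig_bar hi]
    simp only [sub_eq_add_neg]

theorem τ_inv2 {v : V} (hv : S.q v = 1) : S.τ (S.inv2 i v) = -S.inv2 i v := by
  rw [inv2, map_smul, S.adj, hv, sg_one, neg_one_smul, smul_neg]

theorem sim_sigU {v : V} (hv : S.q v = 1) : S.Sim ((S.sigU hi v : Aˣ) : A) i := by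
  have h := S.sim_pq (S.inv2_sq hi v) (S.τ_inv2 hv) ((1 + i) / 2) ((1 - i) / 2)
  rwa [(S.half_coeffs hi).2.2.1] at h

/-- Units of the perpendicular algebra, in pairs. -/
def PsiU (h : HPair S.toQd) : (S.subAlg h)ˣ × (S.subAlg h)ˣ →* Aˣ where
  toFun g :=
    { val := S.pr h ((g.1 : S.subAlg h) : A) ((g.2 : S.subAlg h) : A)
      inv := S.pr h (((g.1⁻¹ : (S.subAlg h)ˣ) : S.subAlg h) : A) (((g.2⁻¹ : (S.subAlg h)ˣ) : S.subAlg h) : A)
      val_inv := by
        rw [S.pr_mul h (SetLike.coe_mem _) (SetLike.coe_mem _), ← MulMemClass.coe_mul, ← MulMemClass.coe_mul,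
          Units.mul_inv, Units.mul_inv, OneMemClass.coe_one, S.pr_one]
      inv_val := by
        rw [S.pr_mul h (SetLike.coe_mem _) (SetLike.coe_mem _), ← MulMemClass.coe_mul, ← MulMemClass.coe_mul,
          Units.inv_mul, Units.inv_mul, OneMemClass.coe_one, S.pr_one] }
  map_one' := Units.ext (S.pr_one h)
  map_mul' g g' := Units.ext (S.pr_mul h (SetLike.coe_mem _) (SetLike.coe_mem _)).symm

theorem PsiU_val (h : HPair S.toQd) (a b : (S.subAlg h)ˣ) :
    ((S.PsiU h (a, b) : Aˣ) : A) = S.pr h ((a : S.subAlg h) : A) ((b : S.subAlg h) : A) := rfl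

theorem PsiU_injective (h : HPair S.toQd) : Function.Injective (S.PsiU h) := fun ⟨a, b⟩ ⟨c, d⟩ e => by
  obtain ⟨h1, h2⟩ := S.pr_inj h (SetLike.coe_mem _) (SetLike.coe_mem _) (SetLike.coe_mem _) (SetLike.coe_mem _)
    (congrArg (fun g : Aˣ => (g : A)) e)
  exact Prod.ext (Units.ext (Subtype.ext h1)) (Units.ext (Subtype.ext h2))

theorem swap_PsiU (h : HPair S.toQd) (a b : (S.subAlg h)ˣ) :
    S.r h.x * S.PsiU h (a, b) * (S.r h.x)⁻¹ = S.PsiU h (b, a) := by
  rw [mul_inv_eq_iff_eq_mul]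
  exact Units.ext (S.rx_pr h (SetLike.coe_mem _) (SetLike.coe_mem _))

theorem PsiU_same (h : HPair S.toQd) (a : (S.subAlg h)ˣ) :
    ((S.PsiU h (a, a) : Aˣ) : A) = ((a : S.subAlg h) : A) := S.pr_same h _

theorem PsiU_r (h : HPair S.toQd) (w : h.W) : S.PsiU h ((S.sub h).r w, (S.sub h).r w) = S.r (w : V) :=
  Units.ext (by rw [S.PsiU_same]; rfl)

theorem sim_PsiU (h : HPair S.toQd) {a b : (S.subAlg h)ˣ} {μ : F} (ha : (S.sub h).Sim (a : S.subAlg h) μ)
    (hb : (S.sub h).Sim (b : S.subAlg h) μ) : S.Sim ((S.PsiU h (a, b) : Aˣ) : A) μ := by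
  have h1 := congrArg Subtype.val ha
  have h2 := congrArg Subtype.val hb
  simp only [MulMemClass.coe_mul, SetLike.val_smul, OneMemClass.coe_one, sub_τ_val] at h1 h2
  rw [Sim, PsiU_val, S.τ_pr h (SetLike.coe_mem _) (SetLike.coe_mem _),
    S.pr_mul h (S.τ_mem_subAlg h (SetLike.coe_mem _)) (S.τ_mem_subAlg h (SetLike.coe_mem _)), h1, h2, S.pr_same]

/-- The centraliser of the first vector among units. -/
theorem exists_PsiU (h : HPair S.toQd) {g : Aˣ} (hg : g * S.r h.z = S.r h.z * g) :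
    ∃ a b, g = S.PsiU h (a, b) := by
  classical
  haveI := Fintype.ofFinite V
  have hdec : ∀ M : A, M * (S.r h.z : A) = (S.r h.z : A) * M →
      ∃ a ∈ S.subAlg h, ∃ b ∈ S.subAlg h, M = S.pr h a b := fun M hc => by
    have hterm : ∀ v, ∃ a ∈ S.subAlg h, ∃ b ∈ S.subAlg h,
        S.basis.repr M v • (S.r v : A) = S.pr h a b := fun v => by
      by_cases hv : S.basis.repr M v = 0
      · exact ⟨0, zero_mem _, 0, zero_mem _, by simp [hv, pr]⟩
      have hzv : S.B h.z v = 0 := by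
        rw [S.toQd.symm]
        exact S.support_of_comm (s := 0) (by rw [sg_zero, one_smul, hc]) hv
      have hdw := h.decomp v
      rw [hzv, zero_smul, add_zero] at hdw
      obtain ⟨w, hw⟩ : ∃ w : h.W, (w : V) = v + S.B h.x v • h.z := ⟨⟨_, hdw⟩, rfl⟩
      have hwm : S.basis.repr M v • (S.r (w : V) : A) ∈ S.subAlg h :=
        Subalgebra.smul_mem _ (S.r_mem_subSpan h w) _
      rcases z2_smul (S.B h.x v) h.z with e | e
      · rw [e, add_zero] at hw
        exact ⟨_, hwm, _, hwm, by rw [S.pr_same, hw]⟩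
      · rw [e] at hw
        have hv' : v = h.z + (w : V) := by rw [hw, add_comm v, ← add_assoc, vadd_self, zero_add]
        obtain ⟨s, hs⟩ : ∃ s : F, (S.r v : A) = s • ((S.r h.z : A) * S.r (w : V)) := by
          rcases S.mul h.z (w : V) with e' | e' <;> rw [← hv'] at e'
          · exact ⟨1, by rw [one_smul, e']⟩
          · exact ⟨-1, by rw [e', neg_one_smul, neg_neg]⟩
        refine ⟨s • (S.basis.repr M v • (S.r (w : V) : A)), Subalgebra.smul_mem _ hwm _,
          -(s • (S.basis.repr M v • (S.r (w : V) : A))), neg_mem (Subalgebra.smul_mem _ hwm _), ?_⟩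
        rw [hs, pr, smul_comm s, mul_neg, Algebra.mul_smul_comm, Algebra.mul_smul_comm, Algebra.mul_smul_comm,
          Algebra.mul_smul_comm, ← smul_neg, ← smul_add, ← smul_neg, ← smul_add]
        congr 2
        rw [← neg_mul, ← add_mul, ← S.rz_Pm, ← S.rz_Pp, ← mul_add, S.Pp_add_Pm, mul_one]
    choose a ha b hb hab using hterm
    refine ⟨∑ v, a v, Subalgebra.sum_mem _ fun v _ => ha v, ∑ v, b v, Subalgebra.sum_mem _ fun v _ => hb v, ?_⟩
    conv_lhs => rw [← S.sum_repr M]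
    simp only [hab, pr, Finset.mul_sum, Finset.sum_add_distrib]
  obtain ⟨a, ha, b, hb, hM⟩ := hdec g (by rw [← Units.val_mul, hg, Units.val_mul])
  obtain ⟨a', ha', b', hb', hM'⟩ := hdec ((g⁻¹ : Aˣ) : A) (by
    rw [← Units.val_mul, ← Units.val_mul, inv_mul_eq_iff_eq_mul.2]
    rw [← mul_assoc, hg, mul_inv_cancel_right])
  have h1 := g.mul_inv
  have h2 := g.inv_mul
  rw [hM, hM', S.pr_mul h ha hb, ← S.pr_one h] at h1
  rw [hM, hM', S.pr_mul h ha' hb', ← S.pr_one h] at h2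
  obtain ⟨a1, b1⟩ := S.pr_inj h (mul_mem ha ha') (mul_mem hb hb') (one_mem _) (one_mem _) h1
  obtain ⟨a2, b2⟩ := S.pr_inj h (mul_mem ha' ha) (mul_mem hb' hb) (one_mem _) (one_mem _) h2
  exact ⟨⟨⟨a, ha⟩, ⟨a', ha'⟩, Subtype.ext a1, Subtype.ext a2⟩, ⟨⟨b, hb⟩, ⟨b', hb'⟩, Subtype.ext b1, Subtype.ext b2⟩,
    Units.ext hM⟩

end Sys

end Cfsg.Agent.Classical.CliffordTwo
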