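import Cfsg.Agent.Lib.Classical.CliffordTwo.SympRep
import Cfsg.Agent.Lib.Classical.CliffordTwo.SympEnd
import Cfsg.Agent.Lib.Classical.CliffordTwo.CentreFour.Tools
import Cfsg.Agent.Lib.Classical.FormSimilitudeGroups

/-!
The model quadratic space of minus type in dimension six, systems from labels, and the alternating form of a system
on eight-dimensional matrices.
-/

set_option autoImplicit false
set_option linter.unusedSectionVars false

namespace Cfsg.Agent.Classical.CliffordTwo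

open Module Matrix

local notation "Z2" => ZMod 2

/-- The space of labels. -/
abbrev V6 : Type := Fin 3 ⊕ Fin 3 → ZMod 2

/-- The quadratic form of minus type. -/
def q6 (v : V6) : ZMod 2 := v (.inl 0) + v (.inr 0) + ∑ k, v (.inl k) * v (.inr k)

theorem sympForm_three (v w : V6) :
    sympForm 3 Z2 v w = ∑ k, (v (.inl k) * w (.inr k) + v (.inr k) * w (.inl k)) := by
  simp [sympForm, Matrix.J, Matrix.mulVec, dotProduct, Fintype.sum_sum_type, Matrix.fromBlocks, Matrix.one_apply,
    Finset.sum_add_distrib, ZMod.neg_eq_self_mod_two]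

/-- The model space. -/
noncomputable def qd6 : Qd V6 where
  q := q6
  B := sympB 3 Z2
  polar v w := by
    rw [sympB_apply, sympForm_three]
    simp only [q6, Pi.add_apply, Finset.sum_add_distrib, Fin.sum_univ_three]
    ring
  sep v hv := eq_zero_of_sympForm_eq_zero fun w => by
    rw [← sympB_apply]; exact hv w

theorem qd6_finrank : finrank Z2 V6 = 6 := by
  rw [finrank_fintype_fun_eq_card, Fintype.card_sum, Fintype.card_fin]

/-- Totally singular subspaces grow by at most one per hyperbolic pair. -/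
theorem HPair.noHalf_succ {V : Type*} [AddCommGroup V] [Module (ZMod 2) V] [Finite V] {Q : Qd V} (h : HPair Q)
    {m : ℕ} (hm : h.qd.NoHalf m) : Q.NoHalf (m + 1) := by
  intro U hU
  have hB : ∀ u ∈ U, ∀ u' ∈ U, Q.B u u' = 0 := fun u hu u' hu' => by
    have e := Q.polar u u'
    rw [hU _ (add_mem hu hu'), hU u hu, hU u' hu', zero_add, zero_add] at e
    exact e.symm
  obtain ⟨K, hK⟩ : ∃ K, K = U ⊓ LinearMap.ker (Q.B h.z) := ⟨_, rfl⟩
  obtain ⟨f, hf⟩ : ∃ f : V →ₗ[Z2] V, ∀ v, f v = v + Q.B h.x v • h.z :=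
    ⟨LinearMap.id + (Q.B h.x).smulRight h.z, fun v => rfl⟩
  have hKW : ∀ v ∈ K, f v ∈ h.W := fun v hv => by
    have h1 := h.decomp v
    rw [show Q.B h.z v = 0 from (hK ▸ hv).2, zero_smul, add_zero, ← hf] at h1
    exact h1
  obtain ⟨U', hU'⟩ : ∃ U' : Submodule Z2 h.W, U' = (K.map f).comap h.W.subtype := ⟨_, rfl⟩
  have h1 := hm U' fun u hu => by
    rw [hU', Submodule.mem_comap] at hu
    obtain ⟨v, hv, e⟩ := hu
    show Q.q (u : V) = 0
    rw [Submodule.subtype_apply] at e
    rw [← e, hf, Q.polar, hU v (hK ▸ hv).1]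
    rcases z2_smul (Q.B h.x v) h.z with e' | e' <;> rw [e']
    · rw [Q.q_zero, map_zero]; rfl
    · rw [h.qz, Q.symm, show Q.B h.z v = 0 from (hK ▸ hv).2]; rfl
  have h2 : finrank Z2 U' = finrank Z2 (K.map f) := by
    rw [hU']
    exact LinearEquiv.finrank_eq (Submodule.comapSubtypeEquivOfLe (by rintro _ ⟨v, hv, rfl⟩; exact hKW v hv))
  have hdim : finrank Z2 U ≤ finrank Z2 (K.map f) + 1 := by
    by_cases hz : h.z ∈ U
    · have hKU : K = U := by
        rw [hK, inf_eq_left]
        exact fun u hu => hB _ hz u hu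
      have hker : LinearMap.ker (f.comp K.subtype) ≤ Submodule.comap K.subtype (Submodule.span Z2 {h.z}) :=
        fun k hk => by
          rw [LinearMap.mem_ker, LinearMap.comp_apply, Submodule.subtype_apply, hf] at hk
          rw [Submodule.mem_comap, Submodule.subtype_apply, vadd_eq_zero hk]
          exact Submodule.smul_mem _ _ (Submodule.mem_span_singleton_self _)
      have h3 := LinearMap.finrank_range_add_finrank_ker (f.comp K.subtype)
      rw [LinearMap.range_comp, Submodule.range_subtype] at h3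
      have h4 := Submodule.finrank_mono hker
      have h5 : finrank Z2 (Submodule.comap K.subtype (Submodule.span Z2 ({h.z} : Set V))) ≤ 1 := by
        rw [LinearEquiv.finrank_eq (Submodule.comapSubtypeEquivOfLe (p := Submodule.span Z2 ({h.z} : Set V))
          (Submodule.span_le.2 (by simpa [hKU] using hz)))]
        exact Qd.finrank_span_one_le h.z
      rw [hKU] at h3 h4 h5 ⊢
      omega
    · have hinj : LinearMap.ker (f.comp K.subtype) = ⊥ := eq_bot_iff.2 fun k hk => by
        rw [LinearMap.mem_ker, LinearMap.comp_apply, Submodule.subtype_apply, hf] at hk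
        have e := vadd_eq_zero hk
        rcases z2_smul (Q.B h.x (k : V)) h.z with e' | e' <;> rw [e'] at e
        · exact Subtype.ext e
        · exact absurd (e ▸ (hK ▸ k.2 : (k : V) ∈ U ⊓ LinearMap.ker (Q.B h.z)).1) hz
      have h3 := LinearMap.finrank_range_add_finrank_ker (f.comp K.subtype)
      rw [hinj, LinearMap.range_comp, Submodule.range_subtype, finrank_bot, add_zero] at h3
      have h4 := LinearMap.finrank_range_add_finrank_ker ((Q.B h.z).comp U.subtype)
      have h5 : finrank Z2 (LinearMap.range ((Q.B h.z).comp U.subtype)) ≤ 1 :=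
        (Submodule.finrank_le _).trans (finrank_self Z2).le
      have h6 : finrank Z2 (LinearMap.ker ((Q.B h.z).comp U.subtype)) = finrank Z2 K := by
        rw [LinearMap.ker_comp, hK, ← Submodule.finrank_map_subtype_eq, Submodule.map_comap_subtype]
      omega
  omega

theorem qd6_noHalf : qd6.NoHalf 3 := by
  classical
  have hB : ∀ v w : V6, qd6.B v w = ∑ k, (v (.inl k) * w (.inr k) + v (.inr k) * w (.inl k)) := fun v w =>
    (sympB_apply v w).trans (sympForm_three v w)
  have key : ∀ v : V6, v (.inl 1) = 0 → v (.inr 1) = 0 → v (.inl 2) = 0 → v (.inr 2) = 0 → q6 v = 0 → v = 0 := by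
    decide +revert
  obtain ⟨h₁, hz₁, hx₁⟩ : ∃ h : HPair qd6, h.z = Pi.single (.inl 1) 1 ∧ h.x = Pi.single (.inr 1) 1 :=
    ⟨⟨Pi.single (.inl 1) 1, Pi.single (.inr 1) 1, show q6 _ = 0 by decide, show q6 _ = 0 by decide,
      by rw [hB]; decide⟩, rfl, rfl⟩
  have hm : ∀ v : V6, v ∈ h₁.W ↔ v (.inr 1) = 0 ∧ v (.inl 1) = 0 := fun v => by
    rw [h₁.mem_W, hz₁, hx₁, hB, hB]
    simp [Pi.single_apply, Fin.sum_univ_three]
  obtain ⟨h₂, hz₂, hx₂⟩ : ∃ h : HPair h₁.qd, ((h.z : h₁.W) : V6) = Pi.single (.inl 2) 1 ∧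
      ((h.x : h₁.W) : V6) = Pi.single (.inr 2) 1 :=
    ⟨⟨⟨Pi.single (.inl 2) 1, (hm _).2 (by decide)⟩, ⟨Pi.single (.inr 2) 1, (hm _).2 (by decide)⟩,
      show q6 (Pi.single (.inl 2) 1) = 0 by decide, show q6 (Pi.single (.inr 2) 1) = 0 by decide,
      show qd6.B (Pi.single (.inl 2) 1) (Pi.single (.inr 2) 1) = 1 by rw [hB]; decide⟩, rfl, rfl⟩
  refine h₁.noHalf_succ (h₂.noHalf_succ fun U hU => ?_)
  have hbot : U = ⊥ := eq_bot_iff.2 fun u hu => by
    rw [Submodule.mem_bot]
    obtain ⟨a, b⟩ := (hm _).1 (u : h₁.W).2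
    obtain ⟨c, d⟩ := h₂.mem_W.1 u.2
    have c' : qd6.B (h₂.z : V6) ((u : h₁.W) : V6) = 0 := c
    have d' : qd6.B (h₂.x : V6) ((u : h₁.W) : V6) = 0 := d
    rw [hB, hz₂] at c'
    rw [hB, hx₂] at d'
    simp [Pi.single_apply, Fin.sum_univ_three] at c' d'
    exact Subtype.ext (Subtype.ext (key _ b a d' c' (hU u hu)))
  rw [hbot, finrank_bot]
  exact Nat.one_pos

theorem sg_sum_six {F : Type*} [Ring F] : ∑ v : V6, sg F (q6 v) = -8 := by
  classical
  have h0 : (Finset.univ.filter fun v : V6 => q6 v = 0).card = 28 := by decide +kernel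
  have h1 : (Finset.univ.filter fun v : V6 => ¬ q6 v = 0).card = 36 := by decide +kernel
  simp only [sg, Finset.sum_ite, Finset.sum_const, h0, h1, nsmul_eq_mul, mul_one, mul_neg]
  norm_num

/-- Labels with the right squares and commutators give a system. -/
theorem exists_sys {F : Type*} [Field F] (h2 : (2 : F) ≠ 0) {A : Type*} [Ring A] [Algebra F A] [Nontrivial A]
    [FiniteDimensional F A] {V : Type*} [AddCommGroup V] [Module (ZMod 2) V] [Finite V] (Q : Qd V) (r : V → Aˣ)
    (hmul : ∀ v w, (r v : A) * r w = r (v + w) ∨ (r v : A) * r w = -(r (v + w) : A))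
    (hcomm : ∀ v w, (r v : A) * r w = sg F (Q.B v w) • ((r w : A) * r v))
    (hsq : ∀ v, (r v : A) * r v = sg F (Q.q v) • (1 : A)) (hdim : finrank F A = Nat.card V) :
    ∃ S : Sys F A V, S.toQd = Q ∧ S.r = r := by
  classical
  haveI := Fintype.ofFinite V
  have hN : (Fintype.card V : F) ≠ 0 := by
    rw [← Nat.card_eq_fintype_card, Module.natCard_eq_pow_finrank (K := Z2), Nat.card_zmod]
    simp [h2]
  have hconj : ∀ p v, (r p : A) * r v * (((r p)⁻¹ : Aˣ) : A) = sg F (Q.B p v) • (r v : A) := fun p v => by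
    rw [hcomm, Algebra.smul_mul_assoc, Units.mul_inv_cancel_right]
  have hli : LinearIndependent F fun v => (r v : A) := Fintype.linearIndependent_iff.2 fun g hg u => by
    have h1 : ∑ p, sg F (Q.B p u) • ((r p : A) * (∑ v, g v • (r v : A)) * (((r p)⁻¹ : Aˣ) : A)) = 0 := by
      simp [hg]
    simp only [Finset.mul_sum, Finset.sum_mul, Algebra.mul_smul_comm, Algebra.smul_mul_assoc, hconj, Finset.smul_sum,
      smul_smul] at h1
    rw [Finset.sum_comm, Finset.sum_eq_single u (fun v _ hvu => ?_) (by simp)] at h1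
    · simp only [mul_comm (g u), ← mul_assoc, sg_sq, one_mul, Finset.sum_const, Finset.card_univ,
        ← Nat.cast_smul_eq_nsmul F, smul_smul] at h1
      rcases smul_eq_zero.1 h1 with e | e
      · exact (mul_eq_zero.1 e).resolve_left hN
      · exact absurd e (r u).ne_zero
    · rw [← Finset.sum_smul]
      have : ∑ p, sg F (Q.B p u) * (g v * sg F (Q.B p v)) = 0 := by
        rw [show ∑ p, sg F (Q.B p u) * (g v * sg F (Q.B p v)) = g v * ∑ p, sg F (Q.B (u + v) p) by
          rw [Finset.mul_sum]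
          refine Finset.sum_congr rfl fun p _ => ?_
          rw [map_add, LinearMap.add_apply, sg_add, Q.symm u p, Q.symm v p]
          ring]
        obtain ⟨w, -, hw⟩ := Q.exists_perp_one (S := ⊥) (v := u + v) fun e =>
          hvu (vadd_eq_zero ((Submodule.mem_bot _).1 e)).symm
        have h3 := Equiv.sum_comp (Equiv.addRight w) fun p => sg F (Q.B (u + v) p)
        have hw' : Q.B u w + Q.B v w = 1 := by rw [← LinearMap.add_apply, ← map_add]; exact hw
        simp only [Equiv.coe_addRight, map_add (Q.B (u + v)), hw, sg_add, sg_one, mul_neg_one,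
          Finset.sum_neg_distrib] at h3
        rw [(mul_eq_zero.1 (show (2 : F) * ∑ p, sg F (Q.B (u + v) p) = 0 by linear_combination -h3)).resolve_left h2,
          mul_zero]
      rw [this, zero_smul]
  have hspan : ⊤ ≤ Submodule.span F (Set.range fun v => (r v : A)) :=
    (hli.span_eq_top_of_card_eq_finrank (by rw [hdim, Nat.card_eq_fintype_card])).ge
  obtain ⟨b, hb⟩ : ∃ b : Basis V F A, ∀ v, b v = (r v : A) := ⟨Basis.mk hli hspan, fun v => Basis.mk_apply ..⟩
  obtain ⟨τ, hτ⟩ : ∃ τ : A →ₗ[F] A, ∀ v, τ (r v : A) = sg F (Q.q v) • (r v : A) :=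
    ⟨b.constr F fun v => sg F (Q.q v) • (r v : A), fun v => by rw [← hb, Basis.constr_basis, hb]⟩
  have hτmul : ∀ x y, τ (x * y) = τ y * τ x := by
    have h : (LinearMap.mul F A).compr₂ τ = ((LinearMap.mul F A).compl₁₂ τ τ).flip := by
      refine b.ext fun v => b.ext fun w => ?_
      simp only [LinearMap.compr₂_apply, LinearMap.mul_apply', LinearMap.flip_apply, LinearMap.compl₁₂_apply, hb, hτ,
        smul_mul_smul_comm]
      rw [hcomm w v, smul_smul, ← sg_add, ← sg_add, Q.symm w v]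
      rcases hmul v w with e | e <;> rw [e]
      · rw [hτ, Q.polar, add_comm (Q.q w)]
      · rw [map_neg, hτ, Q.polar, add_comm (Q.q w), smul_neg]
    exact fun x y => LinearMap.congr_fun₂ h x y
  exact ⟨⟨Q, h2, τ, hτmul, r, hmul, hcomm, hsq, hτ, hli, hspan⟩, rfl, rfl⟩

namespace Sys

variable {F : Type*} [Field F] {ι : Type} [Fintype ι] [DecidableEq ι] [Nonempty ι] {V : Type*} [AddCommGroup V]
  [Module (ZMod 2) V] [Finite V] (S : Sys F (Matrix ι ι F) V)

/-- A form with the given adjoint. -/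
structure IsForm (M : Matrix ι ι F) : Prop where
  det : M.det ≠ 0
  adj : ∀ X, M * S.τ X = Xᵀ * M

theorem ττ (X : Matrix ι ι F) : S.τ (S.τ X) = X := by
  haveI := Fintype.ofFinite V
  conv_lhs => rw [← S.sum_repr X]
  conv_rhs => rw [← S.sum_repr X]
  simp only [map_sum, map_smul, S.adj, smul_smul, mul_assoc, sg_sq, mul_one]

/-- An invariant form exists. -/
theorem exists_form : ∃ M, S.IsForm M := by
  classical
  haveI := Fintype.ofFinite V
  have hav : ∃ M₀ : Matrix ι ι F, ∑ v, (S.r v : Matrix ι ι F)ᵀ * M₀ * (S.r v : Matrix ι ι F) ≠ 0 := by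
    by_contra hc
    push Not at hc
    obtain ⟨a⟩ := ‹Nonempty ι›
    have h1 : ∀ b, ∑ v, (S.r v : Matrix ι ι F) a b • (S.r v : Matrix ι ι F) = 0 := fun b => by
      refine Matrix.ext fun c d => ?_
      have := congrFun (congrFun (hc (Matrix.single a c 1)) b) d
      simpa [Matrix.sum_apply, Matrix.mul_apply, Matrix.single, Finset.sum_ite_eq, Finset.mul_sum, ite_and] using this
    have h2 : ∀ b, (S.r 0 : Matrix ι ι F) a b = 0 := fun b => Fintype.linearIndependent_iff.1 S.li _ (h1 b) 0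
    rcases S.r_zero with e | e
    · simpa [e] using h2 a
    · simpa [e] using h2 a
  obtain ⟨M₀, hM₀⟩ := hav
  obtain ⟨M, hM⟩ : ∃ M, M = ∑ v, (S.r v : Matrix ι ι F)ᵀ * M₀ * (S.r v : Matrix ι ι F) := ⟨_, rfl⟩
  rw [← hM] at hM₀
  have hinv : ∀ w, (S.r w : Matrix ι ι F)ᵀ * M * (S.r w : Matrix ι ι F) = M := fun w => by
    rw [hM, Finset.mul_sum, Finset.sum_mul]
    refine Fintype.sum_equiv (Equiv.addRight w) _ _ fun v => ?_
    rw [Equiv.coe_addRight, show (S.r w : Matrix ι ι F)ᵀ * ((S.r v : Matrix ι ι F)ᵀ * M₀ * (S.r v : Matrix ι ι F)) * (S.r w : Matrix ι ι F) =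
      ((S.r v : Matrix ι ι F) * (S.r w : Matrix ι ι F))ᵀ * M₀ * ((S.r v : Matrix ι ι F) * (S.r w : Matrix ι ι F)) by
        rw [Matrix.transpose_mul]; simp only [mul_assoc]]
    rcases S.mul v w with e | e <;> rw [e]
    simp
  have hadj : ∀ X, M * S.τ X = Xᵀ * M := by
    intro X
    rw [← S.sum_repr X, map_sum, Finset.mul_sum, Matrix.transpose_sum, Finset.sum_mul]
    refine Finset.sum_congr rfl fun v _ => ?_
    rw [map_smul, S.adj, Matrix.transpose_smul, Algebra.smul_mul_assoc, Algebra.mul_smul_comm]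
    congr 1
    calc M * sg F (S.q v) • (S.r v : Matrix ι ι F)
        = (S.r v : Matrix ι ι F)ᵀ * M * ((S.r v : Matrix ι ι F) * (sg F (S.q v) • (S.r v : Matrix ι ι F))) := by
          rw [← mul_assoc, hinv]
      _ = _ := by rw [Algebra.mul_smul_comm, S.sq, smul_smul, sg_sq, one_smul, mul_one]
  refine ⟨M, fun hdet => hM₀ ?_, hadj⟩
  obtain ⟨y, hy, hMy⟩ := Matrix.exists_mulVec_eq_zero_iff.2 hdet
  obtain ⟨b, hb⟩ : ∃ b, y b ≠ 0 := Function.ne_iff.1 hy
  refine Matrix.ext_iff_mulVec.2 fun z => ?_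
  rw [zero_mulVec]
  have key : ∀ X : Matrix ι ι F, M *ᵥ (X *ᵥ y) = 0 := fun X => by
    rw [← S.ττ X, mulVec_mulVec, hadj, ← mulVec_mulVec, hMy, mulVec_zero]
  have h3 := key (Matrix.of fun c d => if d = b then z c * (y b)⁻¹ else 0)
  rwa [show (Matrix.of fun c d => if d = b then z c * (y b)⁻¹ else 0) *ᵥ y = z from funext fun c => by
    simp [Matrix.mulVec, dotProduct, mul_assoc, inv_mul_cancel₀ hb]] at h3

variable {S}

theorem IsForm.sim {M : Matrix ι ι F} (hM : S.IsForm M) {X : Matrix ι ι F} {ν : F} :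
    S.Sim X ν ↔ Xᵀ * M * X = ν • M := by
  constructor
  · intro h
    rw [← hM.adj, mul_assoc, show S.τ X * X = ν • 1 from h, Algebra.mul_smul_comm, mul_one]
  · intro h
    rw [← hM.adj, mul_assoc] at h
    exact ((Matrix.isUnit_iff_isUnit_det M).2 (IsUnit.mk0 _ hM.det)).mul_left_cancel
      (h.trans (by rw [Algebra.mul_smul_comm, mul_one]))

/-- The form is alternating when the fixed space of the adjoint is small. -/
theorem IsForm.skew {M : Matrix ι ι F} (hM : S.IsForm M) (hι : Fintype.card ι = 8)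
    (hsum : ∀ [Fintype V], ∑ v, sg F (S.q v) = -8) : Mᵀ = -M := by
  classical
  haveI := Fintype.ofFinite V
  have hu : IsUnit M.det := IsUnit.mk0 _ hM.det
  obtain ⟨c, hc⟩ : ∃ c : F, Mᵀ = c • M := by
    have hcomm : ∀ Y, Commute Y (M⁻¹ * Mᵀ) := fun Y => by
      have e : Mᵀ * Y = (S.τ Y)ᵀ * Mᵀ := by rw [← Matrix.transpose_mul, hM.adj, Matrix.transpose_mul,
        Matrix.transpose_transpose]
      show _ = _
      rw [mul_assoc, e, ← mul_assoc M⁻¹]
      have e2 := hM.adj (S.τ Y)
      rw [S.ττ] at e2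
      have e3 : Y * M⁻¹ = M⁻¹ * (S.τ Y)ᵀ := by
        have h4 := congrArg (fun Z => M⁻¹ * Z * M⁻¹) e2
        simp only [← mul_assoc, Matrix.nonsing_inv_mul _ hu, one_mul] at h4
        rw [h4, mul_assoc _ M, Matrix.mul_nonsing_inv _ hu, mul_one]
      rw [← mul_assoc, e3]
    obtain ⟨c, hc⟩ := Matrix.mem_range_scalar_of_commute_single (M := M⁻¹ * Mᵀ) fun _ _ _ => hcomm _
    refine ⟨c, ?_⟩
    have h5 := congrArg (M * ·) hc
    simp only [← mul_assoc, Matrix.mul_nonsing_inv _ hu, one_mul, Matrix.scalar_apply] at h5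
    rw [← h5, ← Matrix.smul_one_eq_diagonal, Algebra.mul_smul_comm, mul_one]
  have hc0 : c ≠ 0 := fun e => hM.det (by
    rw [e, zero_smul, Matrix.transpose_eq_zero] at hc
    rw [hc, Matrix.det_zero])
  obtain ⟨L, hL⟩ : ∃ L : Matrix ι ι F ≃ₗ[F] Matrix ι ι F, ∀ X, L X = M * X :=
    ⟨LinearEquiv.ofLinear (LinearMap.mulLeft F M) (LinearMap.mulLeft F M⁻¹)
      (LinearMap.ext fun X => by simp [← mul_assoc, Matrix.mul_nonsing_inv _ hu])
      (LinearMap.ext fun X => by simp [← mul_assoc, Matrix.nonsing_inv_mul _ hu]), fun X => rfl⟩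
  obtain ⟨T, hT⟩ : ∃ T : Matrix ι ι F →ₗ[F] Matrix ι ι F, ∀ X, T X = Xᵀ :=
    ⟨(Matrix.transposeLinearEquiv ι ι F F).toLinearMap, fun X => rfl⟩
  have h1 : L.conj S.τ = c⁻¹ • T := LinearMap.ext fun Y => by
    obtain ⟨X, rfl⟩ := L.surjective Y
    rw [LinearEquiv.conj_apply_apply, LinearEquiv.symm_apply_apply, hL, hM.adj, LinearMap.smul_apply, hT, hL,
      Matrix.transpose_mul, hc, Algebra.mul_smul_comm, smul_smul, inv_mul_cancel₀ hc0, one_smul]
  have h2 : LinearMap.trace F _ S.τ = -8 := by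
    rw [LinearMap.trace_eq_matrix_trace F S.basis, ← hsum, Matrix.trace]
    refine Finset.sum_congr rfl fun v _ => ?_
    rw [Matrix.diag_apply, LinearMap.toMatrix_apply, S.basis_apply, S.adj, S.repr_r_smul, if_pos rfl]
  have h3 : LinearMap.trace F _ T = 8 := by
    rw [LinearMap.trace_eq_matrix_trace F (Matrix.stdBasis F ι ι), Matrix.trace, Fintype.sum_prod_type]
    have : ∀ a b, LinearMap.toMatrix (Matrix.stdBasis F ι ι) (Matrix.stdBasis F ι ι) T (a, b) (a, b) =
        if a = b then 1 else 0 := fun a b => by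
      rw [LinearMap.toMatrix_apply, Matrix.stdBasis_eq_single, hT, Matrix.transpose_single,
        ← Matrix.stdBasis_eq_single, Basis.repr_self, Finsupp.single_apply]
      simp [Prod.mk.injEq, eq_comm]
    simp [Matrix.diag_apply, this, hι]
  have h4 := LinearMap.trace_conj' S.τ L
  rw [h1, map_smul, h2, h3, smul_eq_mul] at h4
  have h8 : (8 : F) ≠ 0 := by
    rw [show (8 : F) = 2 ^ 3 by norm_num]
    exact pow_ne_zero _ S.two
  have hc1 : c = -1 := by
    field_simp at h4
    exact mul_left_cancel₀ h8 (by linear_combination 8 * h4)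
  rw [hc, hc1, neg_one_smul]

theorem IsForm.similar {M : Matrix ι ι F} (hM : S.IsForm M) (hι : Fintype.card ι = 8) (hsk : Mᵀ = -M) :
    FormSim.Similar M (Matrix.J (Fin 4) F) :=
  FormSim.similar_J M (by rw [hι]) hM.det fun v => FormSim.bf_self_zero_of_skew S.two hsk v

/-- A similitude has determinant the fourth power of its multiplier. -/
theorem IsForm.det_sim {M : Matrix ι ι F} (hM : S.IsForm M) (hι : Fintype.card ι = 8) (hsk : Mᵀ = -M)
    {g : GL ι F} {ν : F} (h : S.Sim (g : Matrix ι ι F) ν) : (g : Matrix ι ι F).det = ν ^ 4 := by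
  have h1 := hM.sim.1 h
  have hν : ν ≠ 0 := fun e => hM.det (by
    rw [e, zero_smul] at h1
    have h2 := congrArg Matrix.det h1
    rw [Matrix.det_mul, Matrix.det_mul, Matrix.det_transpose, Matrix.det_zero, mul_eq_zero, mul_eq_zero] at h2
    rcases h2 with (h3 | h3) | h3
    · exact absurd h3 (Matrix.GeneralLinearGroup.det g).ne_zero
    · exact h3
    · exact absurd h3 (Matrix.GeneralLinearGroup.det g).ne_zero)
  exact (FormSim.alt_det (hM.similar hι hsk)).1 g (Units.mk0 ν hν) h1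

/-- The system is a symplectic adjoint algebra. -/
theorem IsForm.srep {M : Matrix ι ι F} (hM : S.IsForm M) (hι : Fintype.card ι = 8) (hsk : Mᵀ = -M) :
    Nonempty (S.SRep 4) := by
  obtain ⟨L, hL⟩ := exists_symp_coords (Matrix.toBilin' M) (fun v => by
      rw [Matrix.toBilin'_apply']; exact FormSim.bf_self_zero_of_skew S.two hsk v)
    (fun x hx => Matrix.eq_zero_of_vecMul_eq_zero hM.det (funext fun j => by
      have h := hx (Pi.single j 1)
      rw [Matrix.toBilin'_apply', Matrix.dotProduct_mulVec, dotProduct_single, mul_one] at h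
      exact h))
    (show finrank F (ι → F) = 2 * 4 by rw [Module.finrank_fintype_fun_eq_card, hι])
  obtain ⟨e, he⟩ : ∃ e : Matrix ι ι F ≃ₐ[F] Matrix (Fin 4 ⊕ Fin 4) (Fin 4 ⊕ Fin 4) F,
      ∀ X x, e X *ᵥ x = L.symm (X *ᵥ L x) :=
    ⟨(Matrix.toLinAlgEquiv'.trans (L.symm.conjAlgEquiv F)).trans Matrix.toLinAlgEquiv'.symm, fun X x => by
      rw [← Matrix.toLinAlgEquiv'_apply]
      simp⟩
  refine ⟨⟨e, fun a x y => ?_⟩⟩
  rw [← hL, ← hL, he, he, LinearEquiv.apply_symm_apply, LinearEquiv.apply_symm_apply, Matrix.toBilin'_apply',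
    Matrix.toBilin'_apply', Matrix.mulVec_mulVec, Matrix.dotProduct_mulVec, Matrix.vecMul_mulVec]
  have h1 := hM.adj (S.τ a)
  rw [S.ττ] at h1
  rw [← h1, ← Matrix.dotProduct_mulVec]

end Sys

end Cfsg.Agent.Classical.CliffordTwo
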