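import Cfsg.Agent.Lib.Classical.CliffordTwo.CentreFour.Group
import Cfsg.Agent.Lib.Classical.CliffordTwo.SympSix
import Cfsg.Agent.Lib.Classical.MaxSesq

/-!
The normaliser of a two-group of symplectic type with centre of order four is maximal in the special linear group of
degree eight.
-/

set_option autoImplicit false
set_option linter.unusedSectionVars false
open Cfsg

namespace Cfsg.Agent.Classical.CliffordTwo

open Matrix Module

theorem mem_specialLinear_iff {F : Type*} [Field F] {ι : Type} [Fintype ι] [DecidableEq ι] {g : GL ι F} :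
    g ∈ Geo.specialLinear ι F ↔ (g : Matrix ι ι F).det = 1 :=
  MonoidHom.mem_ker.trans Units.ext_iff

theorem isSymplecticForm_bf {F : Type*} [Field F] {ι : Type} [Fintype ι] [DecidableEq ι] (h2 : (2 : F) ≠ 0)
    {M : Matrix ι ι F} (hdet : M.det ≠ 0) (hsk : Mᵀ = -M) : Geo.IsSymplecticForm (FormSim.bf M) := by
  have hal := FormSim.bf_self_zero_of_skew h2 hsk
  have hadd : ∀ x y v, FormSim.bf M (x + y) v = FormSim.bf M x v + FormSim.bf M y v := fun x y v => by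
    simp [FormSim.bf, add_dotProduct]
  have hadd' : ∀ v x y, FormSim.bf M v (x + y) = FormSim.bf M v x + FormSim.bf M v y := fun x y v => by
    simp [FormSim.bf, Matrix.mulVec_add, dotProduct_add]
  have hskew : ∀ v w, FormSim.bf M v w = -FormSim.bf M w v := fun v w => by
    have h := hal (v + w)
    rw [hadd, hadd', hadd', hal, hal, zero_add, add_zero] at h
    exact eq_neg_of_add_eq_zero_left h
  refine ⟨⟨hadd, fun c x v => ?_, hadd', fun c v x => ?_⟩, hskew, hal, fun v hv => ?_⟩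
  · simp [FormSim.bf]
  · simp [FormSim.bf, Matrix.mulVec_smul]
  · obtain ⟨x, hx⟩ : ∃ x, FormSim.bf M x v ≠ 0 := by
      by_contra hc
      push Not at hc
      refine hv (Matrix.eq_zero_of_mulVec_eq_zero hdet (funext fun a => ?_))
      have := hc (Pi.single a 1)
      simpa [FormSim.bf, single_dotProduct] using this
    exact ⟨⟨x, hx⟩, ⟨x, fun e => hx (by rw [hskew, e, neg_zero])⟩⟩

set_option maxHeartbeats 1000000 in
/-- Maximality in the special linear group of degree eight. -/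
theorem specialLinear_eight_normalizer_maximal {F : Type*} [Field F] [Fintype F] :
    (∃ p : ℕ, p.Prime ∧ Fintype.card F = p ∧ (p % 4 = 1)) → ∀ R : Subgroup (Matrix.GeneralLinearGroup (Fin 8) F),
      Cfsg.Geo.IsLinearSymplecticTypeData 2 R → Cfsg.Geo.IsMaximalIn (Cfsg.Geo.specialLinear (Fin 8) F)
        (Cfsg.Geo.subgroupNormalizer R ⊓ Cfsg.Geo.specialLinear (Fin 8) F) := by
  classical
  rintro ⟨p, hp, hF, hp4⟩ R hdata
  have h2 : (2 : F) ≠ 0 := by
    intro h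
    haveI : Fact p.Prime := ⟨hp⟩
    haveI := charP_of_card_eq_prime hF
    have h' : ((2 : ℕ) : F) = 0 := by exact_mod_cast h
    have := (Nat.prime_dvd_prime_iff_eq hp Nat.prime_two).1 ((CharP.cast_eq_zero_iff F p 2).1 h')
    omega
  obtain ⟨hR, hirr, p', e', -, -, hcase⟩ := hdata
  obtain ⟨hZ, m, hm⟩ : Nat.card (Subgroup.center R) = 4 ∧ ∃ m : ℕ, Nat.card R = 2 ^ (2 + 2 * m) := by
    rcases hcase with ⟨h, -⟩ | ⟨-, -, hZ, -, hm⟩ | ⟨-, -, h, -⟩
    · exact absurd h (by decide)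
    · exact ⟨hZ, hm⟩
    · simp at h
  obtain ⟨S, i, hi, hQ, hRlab⟩ := exists_labelled h2 hR hirr hm hZ
  obtain ⟨M₀, hM₀⟩ := S.exists_form
  have hq : ∀ v, S.q v = q6 v := fun v => congrFun (congrArg Qd.q hQ) v
  have hι : Fintype.card (Fin 8) = 8 := Fintype.card_fin 8
  have hsk := hM₀.skew hι fun {_} => by simp only [hq]; convert sg_sum_six (F := F)
  obtain ⟨P⟩ := hM₀.srep hι hsk
  have hmin : S.toQd.NoHalf 3 := hQ ▸ qd6_noHalf
  have hnorm : ∀ g, g ∈ Geo.subgroupNormalizer R ↔ g ∈ S.Nh hi := fun g => hRlab.mem_normalizer hi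
  have hSim : ∀ {g : GL (Fin 8) F} {ν : F}, S.Sim (g : Matrix (Fin 8) (Fin 8) F) ν →
      (g : Matrix (Fin 8) (Fin 8) F).det = ν ^ 4 := fun h => hM₀.det_sim hι hsk h
  have hisoSL : ∀ x : S.Iso, (x : GL (Fin 8) F) ∈ Geo.specialLinear (Fin 8) F := fun x =>
    mem_specialLinear_iff.2 (by
      rw [hSim (ν := 1) (by rw [Sys.Sim, one_smul]; exact x.2), one_pow])
  refine MaxTv.isMaximalIn_intro inf_le_right (fun hle => ?_) fun M hHM hMK g hgM hgH => ?_
  · obtain ⟨x, hx⟩ := S.exists_not_mem_N_of_rep P (by norm_num) (by rw [qd6_finrank]; norm_num)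
    exact hx (S.gsysN_of_mem_Nh hi ((hnorm _).1 (hle (hisoSL x)).1))
  have hin : ∀ x, x ∈ S.Nh hi → (x : Matrix (Fin 8) (Fin 8) F).det = 1 → x ∈ M := fun x hx hd =>
    hHM ⟨(hnorm x).2 hx, mem_specialLinear_iff.2 hd⟩
  have G : S.Gen hi M := ⟨fun v => hin _ (S.Rh_le_Nh hi (S.r_mem_Rh hi v)) (hM₀.det_r hι hsk v),
    fun v => hin _ (S.sigU_mem_Nh hi v) (hM₀.det_sigU hi hι hsk v),
    hin _ (S.Rh_le_Nh hi (S.iU_mem_Rh hi)) (hM₀.det_iU hi hι hsk)⟩
  have hMN : ¬ M ≤ S.Nh hi := fun hle => hgH ⟨(hnorm g).2 (hle hgM), hMK hgM⟩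
  obtain ⟨x, hxM, hxN, hxi⟩ := S.exists_isometry hi qd6_finrank hmin G hMN
  -- all isometries
  obtain ⟨H, hH⟩ : ∃ H, H = M.comap S.Iso.subtype := ⟨_, rfl⟩
  have htop : H = ⊤ := S.symp_six P qd6_finrank hmin (hF ▸ hp)
    (fun y hy => by
      rw [hH]
      exact hHM ⟨(hnorm _).2 (S.mem_Nh_of_gsysN hi hy.1), hisoSL y⟩)
    fun hle => hxN (S.mem_Nh_of_gsysN hi (hle (show (⟨x, hxi⟩ : S.Iso) ∈ H by rw [hH]; exact hxM)))
  have hiso : ∀ y ∈ Geo.specialLinear (Fin 8) F, S.Sim (y : Matrix (Fin 8) (Fin 8) F) 1 → y ∈ M := fun y _ hy => by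
    have : (⟨y, by rw [Sys.mem_Iso]; rw [Sys.Sim, one_smul] at hy; exact hy⟩ : S.Iso) ∈ H := htop ▸ Subgroup.mem_top _
    rw [hH] at this
    exact this
  -- all similitudes
  obtain ⟨v₁, hv₁⟩ : ∃ v : V6, S.q v = 1 := ⟨Pi.single (.inl 0) 1, by rw [hq]; decide⟩
  have hsimM : Geo.similarityGroup (FormSim.bf M₀) ⊓ Geo.specialLinear (Fin 8) F ≤ M := by
    rintro y ⟨hy1, hy2⟩
    obtain ⟨c, hc⟩ := FormSim.mem_sim.1 hy1
    have hs : S.Sim (y : Matrix (Fin 8) (Fin 8) F) (c : F) := hM₀.sim.2 hc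
    refine S.sim_mem hi hiso hMK hv₁ (G.sig_mem v₁) G.i_mem hy2 ?_ hs
    rw [← hSim hs]
    exact mem_specialLinear_iff.1 hy2
  have hmax := MaxTv.symplectic_similitude_maximal (by simp) (isSymplecticForm_bf h2 hM₀.det hsk)
  rcases hmax.2 M hsimM hMK with e | e
  · exfalso
    obtain ⟨v₀, hv₀, hv₀0⟩ : ∃ v : V6, S.q v = 0 ∧ v ≠ 0 :=
      ⟨Pi.single (.inl 1) 1, by rw [hq]; decide, by decide⟩
    have hmem := G.sig_mem v₀
    rw [e] at hmem
    obtain ⟨c, hc⟩ := FormSim.mem_sim.1 hmem.1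
    exact S.not_sim_sigU hi hv₀0 hv₀ (c : F) (hM₀.sim.2 hc)
  · exact e ▸ le_refl _

end Cfsg.Agent.Classical.CliffordTwo
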