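import Cfsg.Agent.Lib.Classical.CliffordTwo.CentreFour.Label

/-!
Over a subfield in which minus one is a sum of two squares a system of minus type has a rational realisation.
-/

set_option autoImplicit false
set_option linter.unusedSectionVars false

namespace Cfsg.Agent.Classical.CliffordTwo

open Module Matrix

local notation "Z2" => ZMod 2

theorem qd6_B (v w : V6) : qd6.B v w = ∑ k, (v (.inl k) * w (.inr k) + v (.inr k) * w (.inl k)) :=
  (sympB_apply v w).trans (sympForm_three v w)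

/-- The labels of a spanning set of a cyclic vector. -/
def dlab (t : Fin 3 → ZMod 2) : V6 := Sum.elim ![t 0, 0, 0] ![0, t 1, t 2]

theorem dlab_add (t u : Fin 3 → ZMod 2) : dlab (t + u) = dlab t + dlab u := by
  funext x
  rcases x with k | k <;> fin_cases k <;> simp [dlab]

theorem exists_rational {F : Type*} [Field F] (F₀ : Subfield F) (a b : F₀) (hab : a ^ 2 + b ^ 2 = -1) (hb : b ≠ 0)
    (S : Sys F (Matrix (Fin 8) (Fin 8) F) V6) (hQ : S.toQd = qd6) :
    ∃ (P : GL (Fin 8) F) (S₀ : Sys F₀ (Matrix (Fin 8) (Fin 8) F₀) V6), S₀.toQd = qd6 ∧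
      ∀ v, (S.r v : Matrix (Fin 8) (Fin 8) F) * (P : Matrix (Fin 8) (Fin 8) F) =
        (P : Matrix (Fin 8) (Fin 8) F) * (S₀.r v : Matrix (Fin 8) (Fin 8) F₀).map F₀.subtype := by
  classical
  have hq : ∀ v, S.q v = q6 v := fun v => congrFun (congrArg Qd.q hQ) v
  have hBS : ∀ v w, S.B v w = qd6.B v w := fun v w => by rw [hQ]
  obtain ⟨ρ, hρ⟩ : ∃ ρ : V6 → Matrix (Fin 8) (Fin 8) F, ∀ v, ρ v = (S.r v : Matrix (Fin 8) (Fin 8) F) := ⟨_, fun _ => rfl⟩
  have hmul : ∀ v w, ρ v * ρ w = ρ (v + w) ∨ ρ v * ρ w = -ρ (v + w) := fun v w => by simp only [hρ]; exact S.mul v w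
  have hcomm : ∀ v w, ρ v * ρ w = sg F (qd6.B v w) • (ρ w * ρ v) := fun v w => by
    simp only [hρ, ← hBS]; exact S.comm v w
  have hsq : ∀ v, ρ v * ρ v = sg F (q6 v) • (1 : Matrix (Fin 8) (Fin 8) F) := fun v => by
    simp only [hρ, ← hq]; exact S.sq v
  have hanti : ∀ v w, qd6.B v w = 1 → ρ v * ρ w = -(ρ w * ρ v) := fun v w h => by
    rw [hcomm, h, sg_one, neg_one_smul]
  have hcom : ∀ v w, qd6.B v w = 0 → Commute (ρ v) (ρ w) := fun v w h => by
    show _ = _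
    rw [hcomm, h, sg_zero, one_smul]
  have hcancel : ∀ v (X : Matrix (Fin 8) (Fin 8) F), X * ρ v = 0 → X = 0 := fun v X h => by
    rw [hρ] at h
    rw [← Units.mul_inv_cancel_right X (S.r v), h, zero_mul]
  obtain ⟨e0, f0, z1, x1, z2, x2, rfl, rfl, rfl, rfl, rfl, rfl⟩ : ∃ e0 f0 z1 x1 z2 x2 : V6,
      e0 = Pi.single (.inl 0) 1 ∧ f0 = Pi.single (.inr 0) 1 ∧ z1 = Pi.single (.inl 1) 1 ∧
      x1 = Pi.single (.inr 1) 1 ∧ z2 = Pi.single (.inl 2) 1 ∧ x2 = Pi.single (.inr 2) 1 :=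
    ⟨_, _, _, _, _, _, rfl, rfl, rfl, rfl, rfl, rfl⟩
  obtain ⟨J1, hJ1⟩ : ∃ X, X = ρ (Pi.single (.inl 0) 1) := ⟨_, rfl⟩
  obtain ⟨J2, hJ2⟩ : ∃ X, X = ρ (Pi.single (.inr 0) 1) := ⟨_, rfl⟩
  obtain ⟨A1, hA1⟩ : ∃ X, X = ρ (Pi.single (.inl 1) 1) := ⟨_, rfl⟩
  obtain ⟨A2, hA2⟩ : ∃ X, X = ρ (Pi.single (.inl 2) 1) := ⟨_, rfl⟩
  obtain ⟨u, hu⟩ : ∃ X, X = (a : F) • J1 + (b : F) • J2 := ⟨_, rfl⟩
  have hA1sq : A1 * A1 = 1 := by rw [hA1, hsq, show q6 (Pi.single (.inl 1) 1) = 0 by decide, sg_zero, one_smul]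
  have hA2sq : A2 * A2 = 1 := by rw [hA2, hsq, show q6 (Pi.single (.inl 2) 1) = 0 by decide, sg_zero, one_smul]
  have hJ1sq : J1 * J1 = -1 := by rw [hJ1, hsq, show q6 (Pi.single (.inl 0) 1) = 1 by decide, sg_one, neg_one_smul]
  have hJ2sq : J2 * J2 = -1 := by rw [hJ2, hsq, show q6 (Pi.single (.inr 0) 1) = 1 by decide, sg_one, neg_one_smul]
  have hJJ : J2 * J1 = -(J1 * J2) := by rw [hJ1, hJ2]; exact hanti _ _ (by rw [qd6_B]; decide)
  have hab' : (a : F) * a + (b : F) * b = -1 := by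
    have h := congrArg F₀.subtype hab
    simpa [pow_two] using h
  have husq : u * u = 1 := by
    rw [hu]
    simp only [add_mul, mul_add, smul_mul_smul_comm, hJ1sq, hJ2sq, hJJ]
    rw [show ((a : F) * a) • (-1 : Matrix (Fin 8) (Fin 8) F) + ((b : F) * a) • -(J1 * J2) +
      (((a : F) * b) • (J1 * J2) + ((b : F) * b) • (-1 : Matrix (Fin 8) (Fin 8) F)) =
      (-((a : F) * a + (b : F) * b)) • (1 : Matrix (Fin 8) (Fin 8) F) by module, hab', neg_neg, one_smul]
  have hcu : ∀ v, qd6.B v (Pi.single (.inl 0) 1) = 0 → qd6.B v (Pi.single (.inr 0) 1) = 0 → Commute (ρ v) u :=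
    fun v h h' => by
      rw [hu, hJ1, hJ2]
      exact ((hcom _ _ h).smul_right _).add_right ((hcom _ _ h').smul_right _)
  have hA12 : Commute A1 A2 := by rw [hA1, hA2]; exact hcom _ _ (by rw [qd6_B]; decide)
  have hA1u : Commute A1 u := hA1 ▸ hcu _ (by rw [qd6_B]; decide) (by rw [qd6_B]; decide)
  have hA2u : Commute A2 u := hA2 ▸ hcu _ (by rw [qd6_B]; decide) (by rw [qd6_B]; decide)
  -- a common fixed vector
  obtain ⟨X, hX⟩ : ∃ X, X = (1 + A1) * ((1 + A2) * (1 + u)) := ⟨_, rfl⟩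
  have hX0 : X ≠ 0 := fun e => by
    rw [hX] at e
    have h2 := S.two
    -- remove the first factor
    obtain ⟨c1, hc1⟩ : ∃ c, c = ρ (Pi.single (.inr 1) 1) := ⟨_, rfl⟩
    have d1 : c1 * A1 = -(A1 * c1) := by rw [hc1, hA1]; exact hanti _ _ (by rw [qd6_B]; decide)
    have d2 : Commute c1 A2 := by rw [hc1, hA2]; exact hcom _ _ (by rw [qd6_B]; decide)
    have d3 : Commute c1 u := hc1 ▸ hcu _ (by rw [qd6_B]; decide) (by rw [qd6_B]; decide)
    have dY : Commute c1 ((1 + A2) * (1 + u)) :=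
      ((Commute.one_right c1).add_right d2).mul_right ((Commute.one_right c1).add_right d3)
    have e1 : (1 - A1) * ((1 + A2) * (1 + u)) = 0 := hcancel (Pi.single (.inr 1) 1) _ (by
      rw [← hc1, mul_assoc, ← dY.eq, ← mul_assoc, show (1 - A1) * c1 = c1 * (1 + A1) by
        rw [mul_add, sub_mul, d1, mul_one, one_mul, sub_eq_add_neg], mul_assoc, e, mul_zero])
    have e2 : (2 : F) • ((1 + A2) * (1 + u)) = 0 := by
      have := congrArg₂ (· + ·) e e1
      simp only [← add_mul, add_zero] at this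
      rw [show 1 + A1 + (1 - A1) = (2 : F) • (1 : Matrix (Fin 8) (Fin 8) F) by module, smul_one_mul] at this
      exact this
    have e3 := (smul_eq_zero.1 e2).resolve_left h2
    obtain ⟨c2, hc2⟩ : ∃ c, c = ρ (Pi.single (.inr 2) 1) := ⟨_, rfl⟩
    have f1 : c2 * A2 = -(A2 * c2) := by rw [hc2, hA2]; exact hanti _ _ (by rw [qd6_B]; decide)
    have f3 : Commute c2 (1 + u) := (Commute.one_right c2).add_right
      (hc2 ▸ hcu _ (by rw [qd6_B]; decide) (by rw [qd6_B]; decide))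
    have e4 : (1 - A2) * (1 + u) = 0 := hcancel (Pi.single (.inr 2) 1) _ (by
      rw [← hc2, mul_assoc, ← f3.eq, ← mul_assoc, show (1 - A2) * c2 = c2 * (1 + A2) by
        rw [mul_add, sub_mul, f1, mul_one, one_mul, sub_eq_add_neg], mul_assoc, e3, mul_zero])
    have e5 : (2 : F) • (1 + u) = 0 := by
      have := congrArg₂ (· + ·) e3 e4
      simp only [← add_mul, add_zero] at this
      rw [show 1 + A2 + (1 - A2) = (2 : F) • (1 : Matrix (Fin 8) (Fin 8) F) by module, smul_one_mul] at this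
      exact this
    have e6 := (smul_eq_zero.1 e5).resolve_left h2
    obtain ⟨k, hk⟩ : ∃ k, k = ρ ((Pi.single (.inl 0) 1 : V6) + (Pi.single (.inr 0) 1 : V6)) := ⟨_, rfl⟩
    have g1 : k * u = -(u * k) := by
      rw [hu, hJ1, hJ2, hk, mul_add, Algebra.mul_smul_comm, Algebra.mul_smul_comm,
        hanti ((Pi.single (.inl 0) 1 : V6) + (Pi.single (.inr 0) 1 : V6)) (Pi.single (.inl 0) 1) (by rw [qd6_B]; decide),
        hanti ((Pi.single (.inl 0) 1 : V6) + (Pi.single (.inr 0) 1 : V6)) (Pi.single (.inr 0) 1) (by rw [qd6_B]; decide),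
        smul_neg, smul_neg, add_mul,
        Algebra.smul_mul_assoc, Algebra.smul_mul_assoc, neg_add]
    have e7 : 1 - u = 0 := hcancel (Pi.single (.inl 0) 1 + Pi.single (.inr 0) 1) _ (by
      rw [← hk, show (1 - u) * k = k * (1 + u) by rw [mul_add, sub_mul, g1, mul_one, one_mul, sub_eq_add_neg], e6,
        mul_zero])
    have e8 : (2 : F) • (1 : Matrix (Fin 8) (Fin 8) F) = 0 := by
      have := congrArg₂ (· + ·) e6 e7
      simp only [add_zero] at this
      rw [← this]; module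
    exact one_ne_zero ((smul_eq_zero.1 e8).resolve_left h2)
  obtain ⟨w, hw0, hwA1, hwA2, hwu⟩ : ∃ w : Fin 8 → F, w ≠ 0 ∧ A1 *ᵥ w = w ∧ A2 *ᵥ w = w ∧ u *ᵥ w = w := by
    obtain ⟨z, hz⟩ : ∃ z, X *ᵥ z ≠ 0 := by
      by_contra hc
      push Not at hc
      exact hX0 (Matrix.ext_iff_mulVec.2 fun z => by rw [hc, zero_mulVec])
    refine ⟨_, hz, ?_, ?_, ?_⟩ <;> rw [mulVec_mulVec] <;> congr 1 <;> rw [hX]
    · rw [← mul_assoc, mul_add, mul_one, hA1sq, add_comm A1]
    · rw [← mul_assoc, show A2 * (1 + A1) = (1 + A1) * A2 from ((Commute.one_right A2).add_right hA12.symm).eq,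
        mul_assoc, ← mul_assoc A2, mul_add A2, mul_one, hA2sq, add_comm A2]
    · rw [← mul_assoc u, show u * (1 + A1) = (1 + A1) * u from ((Commute.one_right u).add_right hA1u.symm).eq,
        mul_assoc, ← mul_assoc u, show u * (1 + A2) = (1 + A2) * u from ((Commute.one_right u).add_right hA2u.symm).eq,
        mul_assoc, mul_add u, mul_one, husq, add_comm u]
  -- the rational span
  obtain ⟨wv, hwv⟩ : ∃ wv : (Fin 3 → Z2) → Fin 8 → F, ∀ t, wv t = ρ (dlab t) *ᵥ w := ⟨_, fun _ => rfl⟩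
  obtain ⟨U, hU⟩ : ∃ U : Submodule F₀ (Fin 8 → F), U = Submodule.span F₀ (Set.range wv) := ⟨_, rfl⟩
  have hwvU : ∀ t, ρ (dlab t) *ᵥ w ∈ U := fun t => hU ▸ hwv t ▸ Submodule.subset_span ⟨t, rfl⟩
  have hsplit : ∀ v v' (y : Fin 8 → F), ρ v *ᵥ (ρ v' *ᵥ y) ∈ U ↔ ρ (v + v') *ᵥ y ∈ U := fun v v' y => by
    rw [mulVec_mulVec]
    rcases hmul v v' with e | e <;> rw [e]
    rw [neg_mulVec, neg_mem_iff]
  have hJ1w : ∀ t, ρ (dlab t) *ᵥ (J1 *ᵥ w) ∈ U := fun t => by
    rw [hJ1, hsplit, show (Pi.single (.inl 0) 1 : V6) = dlab (Pi.single 0 1) by decide, ← dlab_add]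
    exact hwvU _
  have hJ2w : ∀ t, ρ (dlab t) *ᵥ (J2 *ᵥ w) ∈ U := fun t => by
    have hb0 : (b : F) ≠ 0 := fun e => hb (Subtype.ext e)
    have h1 : J2 *ᵥ w = (b : F)⁻¹ • w - ((b : F)⁻¹ * (a : F)) • (J1 *ᵥ w) := by
      have h := hwu
      rw [hu, add_mulVec, smul_mulVec, smul_mulVec] at h
      nth_rewrite 2 [← h]
      rw [smul_add, smul_smul, smul_smul, inv_mul_cancel₀ hb0, one_smul, add_sub_cancel_left]
    rw [h1, mulVec_sub, mulVec_smul, mulVec_smul]
    refine sub_mem ?_ ?_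
    · exact U.smul_mem (b⁻¹ : F₀) (hwvU t)
    · exact U.smul_mem (b⁻¹ * a : F₀) (hJ1w t)
  have hzfix : ∀ s s' : Z2, ρ (s • Pi.single (.inl 1) 1 + s' • Pi.single (.inl 2) 1) *ᵥ w = w ∨
      ρ (s • Pi.single (.inl 1) 1 + s' • Pi.single (.inl 2) 1) *ᵥ w = -w := fun s s' => by
    have h0 : ρ 0 *ᵥ w = w ∨ ρ 0 *ᵥ w = -w := by
      rw [hρ]
      rcases S.r_zero with e | e <;> rw [e]
      · left; rw [one_mulVec]
      · right; rw [neg_mulVec, one_mulVec]
    rcases z2_cases s with rfl | rfl <;> rcases z2_cases s' with rfl | rfl <;> simp only [zero_smul, one_smul, zero_add,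
      add_zero]
    · exact h0
    · exact Or.inl (hA2 ▸ hwA2)
    · exact Or.inl (hA1 ▸ hwA1)
    · have h : (A1 * A2) *ᵥ w = w := by rw [← mulVec_mulVec, hwA2, hwA1]
      rw [hA1, hA2] at h
      rcases hmul (Pi.single (.inl 1) 1) (Pi.single (.inl 2) 1) with e | e <;> rw [e] at h
      · exact Or.inl h
      · right
        rw [neg_mulVec] at h
        exact (neg_eq_iff_eq_neg.1 h)
  have hall : ∀ v, ρ v *ᵥ w ∈ U := fun v => by
    obtain ⟨y, hy⟩ : ∃ y : V6, y = v (.inl 1) • (Pi.single (.inl 1) 1 : V6) + v (.inl 2) • (Pi.single (.inl 2) 1 : V6) := ⟨_, rfl⟩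
    obtain ⟨t, ht⟩ : ∃ t : Fin 3 → Z2, t = ![v (.inl 0), v (.inr 1), v (.inr 2)] := ⟨_, rfl⟩
    have hv : v = dlab t + v (.inr 0) • Pi.single (.inr 0) 1 + y := by
      rw [hy, ht]
      funext x
      rcases x with k | k <;> fin_cases k <;> simp [dlab]
    rw [hv, ← hsplit]
    suffices h : ρ (dlab t + v (.inr 0) • Pi.single (.inr 0) 1) *ᵥ w ∈ U by
      rcases hzfix (v (.inl 1)) (v (.inl 2)) with e | e <;> rw [← hy] at e <;> rw [e]
      · exact h
      · rw [mulVec_neg]; exact neg_mem h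
    rcases z2_smul (v (.inr 0)) (Pi.single (.inr 0) 1 : V6) with e | e <;> rw [e]
    · rw [add_zero]; exact hwvU t
    · rw [← hsplit, ← hJ2]; exact hJ2w t
  have hcol : ∀ v t, ρ v *ᵥ wv t ∈ U := fun v t => by rw [hwv, hsplit]; exact hall _
  -- the change of basis
  obtain ⟨eq8, -⟩ : ∃ eq8 : Fin 8 ≃ (Fin 3 → Z2), True :=
    ⟨(Fintype.equivFinOfCardEq (by simp)).symm, trivial⟩
  obtain ⟨P, hP⟩ : ∃ P : Matrix (Fin 8) (Fin 8) F, ∀ k j, P k j = wv (eq8 j) k := ⟨fun k j => wv (eq8 j) k, fun _ _ => rfl⟩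
  have hPv : ∀ c : Fin 8 → F, P *ᵥ c = ∑ j, c j • wv (eq8 j) := fun c => by
    funext k
    simp [Matrix.mulVec, dotProduct, Finset.sum_apply, hP, mul_comm]
  have hsurj : Function.Surjective P.mulVec := fun y => by
    haveI := Fintype.ofFinite V6
    obtain ⟨k, hk⟩ : ∃ k, w k ≠ 0 := Function.ne_iff.1 hw0
    obtain ⟨Y, hY⟩ : ∃ Y : Matrix (Fin 8) (Fin 8) F, Y *ᵥ w = y :=
      ⟨Matrix.of fun c d => if d = k then y c * (w k)⁻¹ else 0, funext fun c => by
        simp [Matrix.mulVec, dotProduct, mul_assoc, inv_mul_cancel₀ hk]⟩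
    have hmem : y ∈ Submodule.span F (Set.range wv) := by
      rw [← hY, ← S.sum_repr Y, sum_mulVec]
      refine Submodule.sum_mem _ fun v _ => ?_
      rw [smul_mulVec, ← hρ]
      refine Submodule.smul_mem _ _ ?_
      have h1 : U ≤ (Submodule.span F (Set.range wv)).restrictScalars F₀ := hU ▸ Submodule.span_le_restrictScalars F₀ F _
      exact h1 (hall v)
    obtain ⟨c, hc⟩ := (Submodule.mem_span_range_iff_exists_fun F).1 hmem
    exact ⟨fun j => c (eq8 j), (hPv _).trans ((Equiv.sum_comp eq8 fun t => c t • wv t).trans hc)⟩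
  obtain ⟨PU, hPU⟩ := Matrix.mulVec_surjective_iff_isUnit.1 hsurj
  have hC : ∀ v, ∃ C : Matrix (Fin 8) (Fin 8) F₀, ρ v * P = P * C.map F₀.subtype := fun v => by
    have h : ∀ j, ∃ c : Fin 8 → F₀, ρ v *ᵥ wv (eq8 j) = P *ᵥ fun l => (c l : F) := fun j => by
      obtain ⟨c, hc⟩ := (Submodule.mem_span_range_iff_exists_fun F₀).1 (hU ▸ hcol v (eq8 j))
      exact ⟨fun l => c (eq8 l), hc.symm.trans ((hPv _).trans (Equiv.sum_comp eq8 fun t => (c t : F) • wv t)).symm⟩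
    choose c hc using h
    refine ⟨Matrix.of fun l j => c j l, Matrix.ext fun k j => ?_⟩
    have := congrFun (hc j) k
    simp only [Matrix.mulVec, dotProduct, hP] at this
    simpa [Matrix.mul_apply, Matrix.map_apply, hP] using this
  choose C hC using hC
  have hinjP : ∀ {X Y : Matrix (Fin 8) (Fin 8) F₀}, P * X.map F₀.subtype = P * Y.map F₀.subtype → X = Y :=
    fun {X Y} h => by
      rw [← hPU] at h
      exact Matrix.map_injective F₀.subtype.injective ((Units.mul_right_inj PU).1 h)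
  have hmapmul : ∀ v w, P * (C v * C w).map F₀.subtype = ρ v * ρ w * P := fun v w => by
    rw [Matrix.map_mul, ← mul_assoc, ← hC, mul_assoc, ← hC, mul_assoc]
  have hmapsmul : ∀ (s : Z2) (X : Matrix (Fin 8) (Fin 8) F₀),
      P * ((sg F₀ s) • X).map F₀.subtype = sg F s • (P * X.map F₀.subtype) := fun s X => by
    rcases z2_cases s with rfl | rfl
    · simp [sg_zero]
    · simp [sg_one, Matrix.map_neg]
  have hCsq : ∀ v, C v * C v = sg F₀ (q6 v) • (1 : Matrix (Fin 8) (Fin 8) F₀) := fun v => hinjP (by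
    rw [hmapmul, hsq, hmapsmul, Algebra.smul_mul_assoc, one_mul, Matrix.map_one _ (map_zero _) (map_one _), mul_one])
  have hCu : ∀ v, IsUnit (C v) := fun v => IsUnit.of_mul_eq_one (sg F₀ (q6 v) • C v) (by
    rw [Algebra.mul_smul_comm, hCsq, smul_smul, sg_sq, one_smul])
  have h2 : (2 : F₀) ≠ 0 := fun e => S.two (by
    have := congrArg F₀.subtype e
    simpa [map_ofNat] using this)
  obtain ⟨S₀, hS₀Q, hS₀r⟩ := exists_sys h2 qd6 (fun v => (hCu v).unit)
    (fun v w => by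
      simp only [IsUnit.unit_spec]
      rcases hmul v w with e | e
      · exact Or.inl (hinjP (by rw [hmapmul, e, hC]))
      · exact Or.inr (hinjP (by rw [hmapmul, e, Matrix.map_neg _ (map_neg _), mul_neg, ← hC, neg_mul])))
    (fun v w => by
      simp only [IsUnit.unit_spec]
      exact hinjP (by rw [hmapmul, hmapsmul, hmapmul, hcomm, Algebra.smul_mul_assoc]))
    (fun v => by simp only [IsUnit.unit_spec]; exact hCsq v)
    (by rw [finrank_matrix, Module.finrank_self, Fintype.card_fin, Module.natCard_eq_pow_finrank (K := Z2) (V := V6),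
      qd6_finrank, Nat.card_zmod]; norm_num)
  refine ⟨PU, S₀, hS₀Q, fun v => ?_⟩
  rw [hS₀r, hPU, IsUnit.unit_spec, ← hρ]
  exact hC v

end Cfsg.Agent.Classical.CliffordTwo
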