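import Cfsg.Agent.Lib.Classical.CliffordTwo.CentreFour.Linear
import Cfsg.Agent.Lib.Classical.CliffordTwo.CentreFour.Rational
import Cfsg.Agent.Lib.Classical.MaxUnitSymp

/-!
The normaliser of a two-group of symplectic type with centre of order four is maximal in the special unitary group of
degree eight.
-/

set_option autoImplicit false
set_option linter.unusedSectionVars false
open Cfsg

namespace Cfsg.Agent.Classical.CliffordTwo

open Matrix Module

/-- What the rational realisation gives in the unitary setting. -/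
structure RatData {F : Type*} [Field F] (F₀ : Subfield F) (φ : F →+* F) (S : Sys F (Matrix (Fin 8) (Fin 8) F) V6)
    (S₀ : Sys F₀ (Matrix (Fin 8) (Fin 8) F₀) V6) (P : GL (Fin 8) F) (J : Matrix (Fin 8) (Fin 8) F) (c : F) : Prop where
  intertwine : ∀ v, (S.r v : Matrix (Fin 8) (Fin 8) F) * (P : Matrix (Fin 8) (Fin 8) F) =
    (P : Matrix (Fin 8) (Fin 8) F) * (S₀.r v : Matrix (Fin 8) (Fin 8) F₀).map F₀.subtype
  det : J.det ≠ 0
  skew : Jᵀ = -J
  herm : (P : Matrix (Fin 8) (Fin 8) F)ᵀ * (P : Matrix (Fin 8) (Fin 8) F).map φ = c • J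
  sim₀ : ∀ (x : Matrix (Fin 8) (Fin 8) F₀) (ν : F₀), S₀.Sim x ν ↔
    (x.map F₀.subtype)ᵀ * J * x.map F₀.subtype = (ν : F) • J
  sim : ∀ (g' : Matrix (Fin 8) (Fin 8) F) (ν : F),
    S.Sim ((P : Matrix (Fin 8) (Fin 8) F) * g' * ((P⁻¹ : GL (Fin 8) F) : Matrix (Fin 8) (Fin 8) F)) ν ↔
      g'ᵀ * J * g' = ν • J

theorem exists_ratData {F : Type*} [Field F] {F₀ : Subfield F} {φ : F →+* F} (hφ : ∀ x ∈ F₀, φ x = x)
    {R : Subgroup (GL (Fin 8) F)} (hirr : Geo.ActsAbsolutelyIrreducibly (Geo.matrixSet R))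
    (hU : ∀ g ∈ R, (g : Matrix (Fin 8) (Fin 8) F)ᵀ * (g : Matrix (Fin 8) (Fin 8) F).map φ = 1)
    (S : Sys F (Matrix (Fin 8) (Fin 8) F) V6) (hR : S.IsLabelled R)
    {S₀ : Sys F₀ (Matrix (Fin 8) (Fin 8) F₀) V6} (hQ : S.toQd = qd6) (hQ₀ : S₀.toQd = qd6) {P : GL (Fin 8) F}
    (hint : ∀ v, (S.r v : Matrix (Fin 8) (Fin 8) F) * (P : Matrix (Fin 8) (Fin 8) F) =
      (P : Matrix (Fin 8) (Fin 8) F) * (S₀.r v : Matrix (Fin 8) (Fin 8) F₀).map F₀.subtype) :
    ∃ (J : Matrix (Fin 8) (Fin 8) F) (c : F), RatData F₀ φ S S₀ P J c ∧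
      (∀ x : Fin 8 → F, (∀ i, x i ∈ F₀) → ∀ i, (J *ᵥ x) i ∈ F₀) := by
  classical
  obtain ⟨M, hM⟩ := S₀.exists_form
  have hq₀ : ∀ v, S₀.q v = q6 v := fun v => congrFun (congrArg Qd.q hQ₀) v
  have hsk := hM.skew (Fintype.card_fin 8) fun {_} => by simp only [hq₀]; convert sg_sum_six (F := F₀)
  obtain ⟨J, hJ⟩ : ∃ J, J = M.map F₀.subtype := ⟨_, rfl⟩
  obtain ⟨Pm, hPm⟩ : ∃ Pm, Pm = (P : Matrix (Fin 8) (Fin 8) F) := ⟨_, rfl⟩
  obtain ⟨Pn, hPi⟩ : ∃ Pn, Pn = ((P⁻¹ : GL (Fin 8) F) : Matrix (Fin 8) (Fin 8) F) := ⟨_, rfl⟩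
  have hPP : Pn * Pm = 1 := by rw [hPi, hPm, Units.inv_mul]
  have hPP' : Pm * Pn = 1 := by rw [hPi, hPm, Units.mul_inv]
  have hdet : J.det ≠ 0 := fun e => hM.det (F₀.subtype.injective (by
    rw [RingHom.map_det, map_zero, RingHom.mapMatrix_apply, ← hJ]; exact e))
  obtain ⟨C, hC⟩ : ∃ C : V6 → Matrix (Fin 8) (Fin 8) F,
      ∀ v, C v = (S₀.r v : Matrix (Fin 8) (Fin 8) F₀).map F₀.subtype := ⟨_, fun _ => rfl⟩
  have hq : ∀ v, S.q v = q6 v := fun v => congrFun (congrArg Qd.q hQ) v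
  have hr : ∀ v, (S.r v : Matrix (Fin 8) (Fin 8) F) = Pm * C v * Pn := fun v => by
    rw [hC, hPm, ← hint, hPi, Units.mul_inv_cancel_right]
  have hsgmap : ∀ (s : ZMod 2) (X : Matrix (Fin 8) (Fin 8) F₀),
      (sg F₀ s • X).map F₀.subtype = sg F s • X.map F₀.subtype := fun s X => by
    rcases z2_cases s with rfl | rfl
    · simp [sg_zero]
    · simp [sg_one, Matrix.map_neg]
  have hCJ : ∀ v, (C v)ᵀ * J = sg F (q6 v) • (J * C v) := fun v => by
    have h := congrArg (fun X => X.map F₀.subtype) (hM.adj (S₀.r v : Matrix (Fin 8) (Fin 8) F₀))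
    simp only [S₀.adj, hq₀, Matrix.map_mul, Matrix.transpose_map, hsgmap] at h
    rw [hC, hJ, ← h, Algebra.mul_smul_comm]
  have hCC : ∀ v, C v * C v = sg F (q6 v) • (1 : Matrix (Fin 8) (Fin 8) F) := fun v => by
    have h := congrArg (fun X => X.map F₀.subtype) (S₀.sq v)
    simp only [hq₀, Matrix.map_mul, hsgmap, Matrix.map_one _ (map_zero _) (map_one _)] at h
    rw [hC]; exact h
  have hCφ : ∀ v, (C v).map φ = C v := fun v => by
    ext a b
    simp [hC, hφ _ (SetLike.coe_mem _)]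
  -- the hermitian form
  obtain ⟨K, hK⟩ : ∃ K, K = Pmᵀ * Pm.map φ := ⟨_, rfl⟩
  have hJu : IsUnit J.det := IsUnit.mk0 _ hdet
  have hKC : ∀ v, (C v)ᵀ * K = sg F (q6 v) • (K * C v) := fun v => by
    have hg : (S.r v : Matrix (Fin 8) (Fin 8) F) * Pm = Pm * C v := by rw [hC, hPm]; exact hint v
    have h1 : (C v)ᵀ * K * C v = K := by
      calc (C v)ᵀ * K * C v = (Pm * C v)ᵀ * (Pm * C v).map φ := by
            rw [hK, Matrix.map_mul, hCφ, Matrix.transpose_mul]; simp only [mul_assoc]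
        _ = K := by
            rw [← hg, Matrix.map_mul, Matrix.transpose_mul, mul_assoc, ← mul_assoc (S.r v : Matrix (Fin 8) (Fin 8) F)ᵀ,
              hU _ (hR.r_mem v), one_mul, hK]
    calc (C v)ᵀ * K = (C v)ᵀ * K * (C v * (sg F (q6 v) • C v)) := by
          rw [Algebra.mul_smul_comm, hCC, smul_smul, sg_sq, one_smul, mul_one]
      _ = _ := by rw [← mul_assoc, h1, Algebra.mul_smul_comm]
  obtain ⟨c, hc⟩ : ∃ c : F, K = c • J := by
    have hcomm : ∀ v, J⁻¹ * K * C v = C v * (J⁻¹ * K) := fun v => by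
      have e1 : J⁻¹ * (C v)ᵀ = sg F (q6 v) • (C v * J⁻¹) := by
        have h := congrArg (fun X => J⁻¹ * X * J⁻¹) (hCJ v)
        simp only [Algebra.mul_smul_comm, Algebra.smul_mul_assoc, ← mul_assoc, Matrix.nonsing_inv_mul _ hJu, one_mul]
          at h
        rw [← h, mul_assoc _ J, Matrix.mul_nonsing_inv _ hJu, mul_one]
      have e2 : K * C v = sg F (q6 v) • ((C v)ᵀ * K) := by rw [hKC, smul_smul, sg_sq, one_smul]
      rw [mul_assoc, e2, Algebra.mul_smul_comm, ← mul_assoc, e1, Algebra.smul_mul_assoc, smul_smul, sg_sq, one_smul,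
        mul_assoc]
    obtain ⟨c, hc⟩ := hirr.2 (Pm * (J⁻¹ * K) * Pn) (by
      rintro _ ⟨g, hg, rfl⟩
      obtain ⟨v, d, -, hd⟩ := (hR g).1 hg
      beta_reduce
      rw [hd, hr, Algebra.mul_smul_comm, Algebra.smul_mul_assoc]
      congr 1
      calc Pm * (J⁻¹ * K) * Pn * (Pm * C v * Pn) = Pm * (J⁻¹ * K * (Pn * Pm) * C v) * Pn := by simp only [mul_assoc]
        _ = Pm * (C v * (Pn * Pm) * (J⁻¹ * K)) * Pn := by rw [hPP, mul_one, mul_one, hcomm]
        _ = _ := by simp only [mul_assoc])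
    refine ⟨c, ?_⟩
    have h : J⁻¹ * K = c • 1 := by
      have h' := congrArg (fun X => Pn * X * Pm) hc
      simp only [Algebra.mul_smul_comm, Algebra.smul_mul_assoc, mul_one, hPP] at h'
      rw [← h']
      simp only [mul_assoc, hPP, mul_one]
      rw [← mul_assoc Pn Pm, hPP, one_mul]
    calc K = J * (J⁻¹ * K) := by rw [← mul_assoc, Matrix.mul_nonsing_inv _ hJu, one_mul]
      _ = c • J := by rw [h, Algebra.mul_smul_comm, mul_one]
  -- the form of the big system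
  have hform : S.IsForm (Pnᵀ * J * Pn) := by
    refine ⟨?_, fun X => ?_⟩
    · rw [Matrix.det_mul, Matrix.det_mul, Matrix.det_transpose]
      have : Pn.det ≠ 0 := fun e => by
        have h := congrArg Matrix.det hPP
        rw [Matrix.det_mul, e, zero_mul, Matrix.det_one] at h
        exact zero_ne_one h
      exact mul_ne_zero (mul_ne_zero this hdet) this
    · rw [← S.sum_repr X, map_sum, Finset.mul_sum, Matrix.transpose_sum, Finset.sum_mul]
      refine Finset.sum_congr rfl fun v _ => ?_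
      rw [map_smul, S.adj, hq, Matrix.transpose_smul, Algebra.smul_mul_assoc, Algebra.mul_smul_comm]
      congr 1
      calc Pnᵀ * J * Pn * sg F (q6 v) • (S.r v : Matrix (Fin 8) (Fin 8) F)
          = Pnᵀ * (sg F (q6 v) • (J * C v)) * Pn := by
            rw [hr]
            simp only [Algebra.mul_smul_comm, Algebra.smul_mul_assoc, mul_assoc]
            rw [← mul_assoc Pn Pm, hPP, one_mul]
        _ = (S.r v : Matrix (Fin 8) (Fin 8) F)ᵀ * (Pnᵀ * J * Pn) := by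
            rw [← hCJ, hr, Matrix.transpose_mul, Matrix.transpose_mul]
            simp only [mul_assoc]
            rw [← mul_assoc Pmᵀ Pnᵀ, ← Matrix.transpose_mul, hPP, Matrix.transpose_one, one_mul]
  refine ⟨J, c, ⟨hint, hdet, ?_, by rw [← hc, hK, hPm], fun x ν => ?_, fun g' ν => ?_⟩, fun x hx i => ?_⟩
  · rw [hJ, ← Matrix.transpose_map, hsk, Matrix.map_neg _ (map_neg _)]
  · rw [hM.sim]
    have e : (ν • M).map F₀.subtype = (ν : F) • J := by
      ext a b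
      simp [hJ]
    constructor
    · intro h
      have h' := congrArg (fun X => X.map F₀.subtype) h
      simp only [Matrix.map_mul, Matrix.transpose_map, e] at h'
      rwa [hJ] at *
    · intro h
      refine Matrix.map_injective F₀.subtype.injective ?_
      simp only [Matrix.map_mul, ← Matrix.transpose_map, e]
      rwa [hJ] at *
  · rw [hform.sim, ← hPm, ← hPi]
    have e : (Pm * g' * Pn)ᵀ * (Pnᵀ * J * Pn) * (Pm * g' * Pn) = Pnᵀ * (g'ᵀ * J * g') * Pn := by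
      simp only [Matrix.transpose_mul, mul_assoc]
      rw [← mul_assoc Pmᵀ Pnᵀ, ← Matrix.transpose_mul, hPP, Matrix.transpose_one, one_mul, ← mul_assoc Pn Pm, hPP,
        one_mul]
    rw [e, show ν • (Pnᵀ * J * Pn) = Pnᵀ * (ν • J) * Pn by rw [Algebra.mul_smul_comm, Algebra.smul_mul_assoc]]
    refine ⟨fun h => ?_, fun h => by rw [h]⟩
    have h' := congrArg (fun X => Pmᵀ * X * Pm) h
    simp only [mul_assoc, hPP, mul_one] at h'
    rw [← mul_assoc Pmᵀ Pnᵀ, ← mul_assoc Pmᵀ Pnᵀ, ← Matrix.transpose_mul, hPP, Matrix.transpose_one, one_mul,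
      one_mul] at h'
    rwa [mul_assoc]
  · simp only [Matrix.mulVec, dotProduct, hJ, Matrix.map_apply]
    exact sum_mem fun j _ => mul_mem (SetLike.coe_mem _) (hx j)

set_option maxHeartbeats 1000000 in
/-- Maximality in the special unitary group of degree eight. -/
theorem specialUnitary_eight_normalizer_maximal {F : Type*} [Field F] [Fintype F] (q : ℕ)
    (hF : Fintype.card F = q ^ 2) : ∀ (p : ℕ) (R : Subgroup (Matrix.GeneralLinearGroup (Fin 8) F)), p.Prime → q = p →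
      p % 4 = 3 → Cfsg.Geo.IsSymplecticTypeGroup 2 R → Cfsg.Geo.ActsAbsolutelyIrreducibly (Cfsg.Geo.matrixSet R) →
      R ≤ Cfsg.GU 8 F q → Nat.card R = 256 → Nat.card (Subgroup.center R) = 4 →
      Cfsg.Geo.IsMaximalIn (Cfsg.GU 8 F q ⊓ Cfsg.Geo.specialLinear (Fin 8) F)
        (Cfsg.Geo.subgroupNormalizer R ⊓ (Cfsg.GU 8 F q ⊓ Cfsg.Geo.specialLinear (Fin 8) F)) := by
  classical
  intro p R hp hqp hp4 hR hirr hRU hcard hZ
  subst hqp
  haveI : Fact q.Prime := ⟨hp⟩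
  haveI : CharP F q := charP_of_card_eq_prime_pow hF
  have h2 : (2 : F) ≠ 0 := by
    intro h
    have h' : ((2 : ℕ) : F) = 0 := by exact_mod_cast h
    have := (Nat.prime_dvd_prime_iff_eq hp Nat.prime_two).1 ((CharP.cast_eq_zero_iff F q 2).1 h')
    omega
  obtain ⟨φ, hφdef⟩ : ∃ φ, φ = qFrob hF := ⟨_, rfl⟩
  have hφa : ∀ x, φ x = x ^ q := fun x => hφdef ▸ qFrob_apply hF x
  have hφφ : ∀ x, φ (φ x) = x := fun x => hφdef ▸ qFrob_qFrob hF x
  obtain ⟨F₀, hF₀⟩ : ∃ F₀, F₀ = (⊥ : Subfield F) := ⟨_, rfl⟩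
  have hF₀card : Nat.card F₀ = q := hF₀ ▸ Subfield.card_bot F q
  have hmem : ∀ x : F, φ x = x ↔ x ∈ F₀ := fun x => by rw [hF₀, Subfield.mem_bot_iff_pow_eq_self F q, hφa]
  have hφ0 : ∀ x ∈ F₀, φ x = x := fun x hx => (hmem x).2 hx
  have hφmap : ∀ X : Matrix (Fin 8) (Fin 8) F₀, (X.map F₀.subtype).map φ = X.map F₀.subtype := fun X => by
    ext a b
    simp [hφ0 _ (SetLike.coe_mem _)]
  have hGU : ∀ g : GL (Fin 8) F, g ∈ GU 8 F q ↔
      (g : Matrix (Fin 8) (Fin 8) F)ᵀ * (g : Matrix (Fin 8) (Fin 8) F).map φ = 1 := fun g => by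
    subst hφdef
    exact ⟨transpose_mul_of_preserves hF, preserves_of_transpose_mul hF⟩
  obtain ⟨S, i, hi, hQ, hlab⟩ := exists_labelled (k := 3) h2 hR hirr (by rw [hcard]; norm_num) hZ
  have hφi : φ i = -i := by
    have h := congrFun (congrFun ((hGU _).1 (hRU (hlab.i_mem hi))) 0) 0
    have h' : i * φ i = 1 := by
      simpa [Sys.iU_val, Matrix.mul_apply, Matrix.one_apply, apply_ite φ] using h
    linear_combination (-i) * h' + φ i * hi
  obtain ⟨a₀, b₀, hab₀⟩ := ZMod.sq_add_sq q (-1 : ZMod q)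
  have hψ : ∀ x : ZMod q, ZMod.castHom (dvd_refl q) F x ∈ F₀ := fun x => (hmem _).1 (by
    rw [hφa, ← map_pow, ZMod.pow_card])
  obtain ⟨a, b, hab⟩ : ∃ a b : F₀, a ^ 2 + b ^ 2 = -1 :=
    ⟨⟨_, hψ a₀⟩, ⟨_, hψ b₀⟩, Subtype.ext (by
      have := congrArg (ZMod.castHom (dvd_refl q) F) hab₀
      simpa using this)⟩
  have hb : b ≠ 0 := fun e => by
    subst e
    have h := congrArg F₀.subtype hab
    have h1 : (a : F) * a = i * i := by rw [hi]; simpa [pow_two] using h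
    have h2' : i ∈ F₀ := by
      rcases mul_self_eq_mul_self_iff.1 h1 with e | e
      · exact e ▸ a.2
      · exact neg_mem_iff.1 (e ▸ a.2)
    have h3 := hφ0 i h2'
    rw [hφi] at h3
    exact mul_ne_zero h2 (S.i_ne hi) (by linear_combination -h3)
  obtain ⟨P, S₀, hQ₀, hint⟩ := exists_rational F₀ a b hab hb S hQ
  obtain ⟨J, c, D, hJrat⟩ := exists_ratData hφ0 hirr (fun g hg => (hGU g).1 (hRU hg)) S hlab hQ hQ₀ hint
  obtain ⟨M₀, hM₀⟩ := S₀.exists_form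
  obtain ⟨MS, hMS⟩ := S.exists_form
  have hι : Fintype.card (Fin 8) = 8 := Fintype.card_fin 8
  have hq : ∀ v, S.q v = q6 v := fun v => congrFun (congrArg Qd.q hQ) v
  have hq₀ : ∀ v, S₀.q v = q6 v := fun v => congrFun (congrArg Qd.q hQ₀) v
  have hsk := hMS.skew hι fun {_} => by simp only [hq]; convert sg_sum_six (F := F)
  have hsk₀ := hM₀.skew hι fun {_} => by simp only [hq₀]; convert sg_sum_six (F := F₀)
  obtain ⟨P₀⟩ := hM₀.srep hι hsk₀
  letI : Fintype F₀ := Fintype.ofFinite _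
  have hp₀ : (Fintype.card F₀).Prime := by rw [← Nat.card_eq_fintype_card, hF₀card]; exact hp
  have hnorm : ∀ g, g ∈ Geo.subgroupNormalizer R ↔ g ∈ S.Nh hi := fun g => hlab.mem_normalizer hi
  obtain ⟨Pm, hPm⟩ : ∃ Pm, Pm = (P : Matrix (Fin 8) (Fin 8) F) := ⟨_, rfl⟩
  obtain ⟨Pn, hPi⟩ : ∃ Pn, Pn = ((P⁻¹ : GL (Fin 8) F) : Matrix (Fin 8) (Fin 8) F) := ⟨_, rfl⟩
  have hJu : IsUnit J.det := IsUnit.mk0 _ D.det
  have hc0 : c ≠ 0 := fun e => by
    have h := congrArg Matrix.det D.herm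
    rw [e, zero_smul, Matrix.det_zero, Matrix.det_mul, Matrix.det_transpose, mul_eq_zero] at h
    have hPd : IsUnit (P : Matrix (Fin 8) (Fin 8) F).det := (Matrix.isUnit_iff_isUnit_det _).1 P.isUnit
    rcases h with h | h
    · exact hPd.ne_zero h
    · rw [← RingHom.mapMatrix_apply, ← RingHom.map_det, map_eq_zero] at h
      exact hPd.ne_zero h
  -- unitarity in rational coordinates
  have hGU' : ∀ g : GL (Fin 8) F, g ∈ GU 8 F q ↔ ∀ g', (g : Matrix (Fin 8) (Fin 8) F) * Pm = Pm * g' →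
      g'ᵀ * J * g'.map φ = J := fun g => by
    rw [hGU]
    have key : ∀ g', (g : Matrix (Fin 8) (Fin 8) F) * Pm = Pm * g' →
        c • (g'ᵀ * J * g'.map φ) = Pmᵀ * ((g : Matrix (Fin 8) (Fin 8) F)ᵀ * (g : Matrix (Fin 8) (Fin 8) F).map φ) *
          Pm.map φ := fun g' e => by
      calc c • (g'ᵀ * J * g'.map φ) = (Pm * g')ᵀ * (Pm * g').map φ := by
            rw [Matrix.map_mul, Matrix.transpose_mul, mul_assoc g'ᵀ Pmᵀ, ← mul_assoc Pmᵀ, hPm, D.herm,
              Algebra.smul_mul_assoc, Algebra.mul_smul_comm, mul_assoc]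
        _ = _ := by rw [← e, Matrix.map_mul, Matrix.transpose_mul]; simp only [mul_assoc]
    constructor
    · intro h g' e
      have h' := key g' e
      rw [h, mul_one, hPm, D.herm] at h'
      exact smul_right_injective _ hc0 h'
    · intro h
      obtain ⟨g', hg'⟩ : ∃ g', g' = Pn * (g : Matrix (Fin 8) (Fin 8) F) * Pm := ⟨_, rfl⟩
      have e : (g : Matrix (Fin 8) (Fin 8) F) * Pm = Pm * g' := by
        rw [hg', hPm, hPi, ← mul_assoc, ← mul_assoc, Units.mul_inv, one_mul]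
      have h' := key g' e
      rw [h g' e, ← D.herm, ← hPm] at h'
      have hu : IsUnit Pmᵀ := (Matrix.isUnit_transpose _).2 (hPm ▸ P.isUnit)
      have hu' : IsUnit (Pm.map φ) := (hPm ▸ P.isUnit : IsUnit Pm).map φ.mapMatrix
      have h'' : Pmᵀ * (1 * Pm.map φ) = Pmᵀ * ((g : Matrix (Fin 8) (Fin 8) F)ᵀ *
          (g : Matrix (Fin 8) (Fin 8) F).map φ * Pm.map φ) := by rw [one_mul, ← mul_assoc]; exact h'
      exact (hu'.mul_right_cancel (hu.mul_left_cancel h'')).symm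
  -- the embedding
  obtain ⟨ι₀, hι₀⟩ : ∃ ι₀ : S₀.Iso →* GL (Fin 8) F, ∀ x, (ι₀ x : Matrix (Fin 8) (Fin 8) F) =
      Pm * (((x : GL (Fin 8) F₀)) : Matrix (Fin 8) (Fin 8) F₀).map F₀.subtype * Pn :=
    ⟨((MulAut.conj P).toMonoidHom.comp (Matrix.GeneralLinearGroup.map (F₀.subtype : F₀ →+* F))).comp S₀.Iso.subtype,
      fun x => by rw [hPm, hPi]; rfl⟩
  have hι₀P : ∀ x, (ι₀ x : Matrix (Fin 8) (Fin 8) F) * Pm =
      Pm * (((x : GL (Fin 8) F₀)) : Matrix (Fin 8) (Fin 8) F₀).map F₀.subtype := fun x => by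
    rw [hι₀, hPm, hPi, Units.inv_mul_cancel_right]
  have hι₀sim : ∀ x, S.Sim (ι₀ x : Matrix (Fin 8) (Fin 8) F) 1 := fun x => by
    rw [hι₀, hPm, hPi, D.sim, one_smul]
    have h := (D.sim₀ _ 1).1 (show S₀.Sim ((x : GL (Fin 8) F₀) : Matrix (Fin 8) (Fin 8) F₀) 1 by
      rw [Sys.Sim, one_smul]; exact x.2)
    rwa [OneMemClass.coe_one, one_smul] at h
  have hι₀G : ∀ x, ι₀ x ∈ GU 8 F q ⊓ Geo.specialLinear (Fin 8) F := fun x => ⟨(hGU' _).2 fun g' e => by
      have : g' = (((x : GL (Fin 8) F₀)) : Matrix (Fin 8) (Fin 8) F₀).map F₀.subtype := by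
        have h := e.symm.trans (hι₀P x)
        rw [hPm] at h
        exact P.mul_right_inj.1 h
      subst this
      rw [hφmap]
      have h := (D.sim₀ _ 1).1 (show S₀.Sim ((x : GL (Fin 8) F₀) : Matrix (Fin 8) (Fin 8) F₀) 1 by
        rw [Sys.Sim, one_smul]; exact x.2)
      rwa [OneMemClass.coe_one, one_smul] at h,
    mem_specialLinear_iff.2 (by rw [hMS.det_sim hι hsk (hι₀sim x), one_pow])⟩
  have hι₀r : ∀ v, ι₀ (S₀.rI v) = S.r v := fun v => Units.ext (by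
    rw [hι₀, hPm, hPi]
    exact ((Units.eq_mul_inv_iff_mul_eq P).2 (D.intertwine v)).symm)
  have hι₀eps : ∀ x, ι₀ (S₀.epsI * x) = -ι₀ x := fun x => Units.ext (by
    rw [map_mul, Units.val_mul, Units.val_neg, hι₀ S₀.epsI]
    simp [Sys.epsI_val, Matrix.map_neg, hPm, hPi])
  have hι₀inj : Function.Injective ι₀ := fun x y e => S₀.ext_val (by
    have h := congrArg (fun g : GL (Fin 8) F => (g : Matrix (Fin 8) (Fin 8) F) * Pm) e
    simp only [hι₀P] at h
    rw [hPm] at h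
    exact Matrix.map_injective F₀.subtype.injective (P.mul_right_inj.1 h))
  have hι₀N : ∀ x ∈ S₀.gsys.N, ι₀ x ∈ S.Nh hi := fun x hx v => by
    obtain ⟨w, hw⟩ := hx v
    refine ⟨w, ?_⟩
    rw [Sys.psys_t, Sys.psys_t, ← map_inv, ← map_mul, ← map_mul, proj_eq_iff, ← hι₀r, ← map_inv, ← map_mul, ← map_mul]
    rcases hw with e | e
    · exact ⟨1, by rw [one_smul, ← hι₀r w]; exact congrArg (fun y => ((ι₀ y : GL (Fin 8) F) : Matrix (Fin 8) (Fin 8) F)) e⟩
    · refine ⟨-1, ?_⟩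
      rw [neg_one_smul, ← hι₀r w, show x * S₀.rI v * x⁻¹ = S₀.epsI * S₀.rI w from e, hι₀eps, Units.val_neg]
  have hrat : ∀ g ∈ GU 8 F q ⊓ Geo.specialLinear (Fin 8) F, S.Sim (g : Matrix (Fin 8) (Fin 8) F) 1 →
      ∃ x, ι₀ x = g := fun g hg hs => by
    obtain ⟨g', hg'⟩ : ∃ g', g' = Pn * (g : Matrix (Fin 8) (Fin 8) F) * Pm := ⟨_, rfl⟩
    have e : (g : Matrix (Fin 8) (Fin 8) F) * Pm = Pm * g' := by
      rw [hg', hPm, hPi, ← mul_assoc, ← mul_assoc, Units.mul_inv, one_mul]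
    have e' : (g : Matrix (Fin 8) (Fin 8) F) = Pm * g' * Pn := by
      rw [← e, hPm, hPi, Units.mul_inv_cancel_right]
    have h1 := (hGU' g).1 hg.1 g' e
    have hs' : g'ᵀ * J * g' = J := by
      rw [e', hPm, hPi, D.sim, one_smul] at hs
      exact hs
    have hu : IsUnit (g'ᵀ * J) := by
      refine ((Matrix.isUnit_transpose _).2 ?_).mul ((Matrix.isUnit_iff_isUnit_det _).2 hJu)
      rw [hg', hPi, hPm]
      exact ((P⁻¹).isUnit.mul g.isUnit).mul P.isUnit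
    have h3 := hu.mul_left_cancel (h1.trans hs'.symm)
    obtain ⟨x', hx'⟩ : ∃ x' : Matrix (Fin 8) (Fin 8) F₀, x'.map F₀.subtype = g' :=
      ⟨fun a b => ⟨g' a b, (hmem _).1 (congrFun (congrFun h3 a) b)⟩, rfl⟩
    have hx : S₀.τ x' * x' = 1 := by
      have := (D.sim₀ x' 1).2 (by rw [hx', OneMemClass.coe_one, one_smul]; exact hs')
      rwa [Sys.Sim, one_smul] at this
    refine ⟨S₀.mkIso x' hx (mul_eq_one_comm.1 hx), Units.ext ?_⟩
    rw [hι₀, S₀.mkIso_val, hx']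
    exact e'.symm
  -- a rational similitude
  have hKsim : ∀ y ∈ Geo.subfieldSubgroup F₀ P ⊓ (GU 8 F q ⊓ Geo.specialLinear (Fin 8) F),
      ∃ ν : F, S.Sim (y : Matrix (Fin 8) (Fin 8) F) ν := fun y hy => by
    obtain ⟨C, hC, hCy⟩ := hy.1
    obtain ⟨_, ⟨u, rfl⟩, s, hs, rfl⟩ := Subgroup.mem_sup_of_normal_right.1 hC
    obtain ⟨l, hl⟩ := (Geo.mem_scalars_iff s).1 hs
    obtain ⟨k, hk⟩ : ∃ k, k = (u : Matrix (Fin 8) (Fin 8) F₀).map F₀.subtype := ⟨_, rfl⟩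
    have hy' : (y : Matrix (Fin 8) (Fin 8) F) = Pm * ((l : F) • k) * Pn := by
      rw [← hCy]
      show ((P * (Matrix.GeneralLinearGroup.map (F₀.subtype : F₀ →+* F) u * s) * P⁻¹ : GL (Fin 8) F) :
        Matrix (Fin 8) (Fin 8) F) = _
      rw [Units.val_mul, Units.val_mul, Units.val_mul, hl, hPm, hPi, hk, Algebra.mul_smul_comm _ _ (1 : Matrix _ _ F),
        mul_one]
      rfl
    have h1 := (hGU' y).1 hy.2.1 ((l : F) • k) (by rw [hy', hPm, hPi, Units.inv_mul_cancel_right])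
    have hφk : k.map φ = k := hk ▸ hφmap _
    have h2' : ((l : F) * φ l) • (kᵀ * J * k) = J := by
      rw [Matrix.transpose_smul, show ((l : F) • k).map φ = φ l • k by
        ext a b
        have := congrFun (congrFun hφk a) b
        simp only [Matrix.map_apply, Matrix.smul_apply, smul_eq_mul, map_mul] at this ⊢
        rw [this]] at h1
      simp only [Algebra.smul_mul_assoc, Algebra.mul_smul_comm, smul_smul] at h1
      rw [mul_comm]; exact h1
    have hl0 : (l : F) * φ l ≠ 0 := mul_ne_zero l.ne_zero (by rw [ne_eq, map_eq_zero]; exact l.ne_zero)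
    refine ⟨(l : F) * (l : F) * ((l : F) * φ l)⁻¹, ?_⟩
    rw [hy', hPm, hPi, D.sim, Matrix.transpose_smul, Algebra.smul_mul_assoc, Algebra.smul_mul_assoc,
      Algebra.mul_smul_comm, smul_smul]
    conv_rhs => rw [← h2', smul_smul, mul_assoc ((l : F) * l), inv_mul_cancel₀ hl0, mul_one]
  refine MaxTv.isMaximalIn_intro inf_le_right (fun hle => ?_) fun M hHM hMK g hgM hgH => ?_
  · obtain ⟨x, hx⟩ := S₀.exists_not_mem_N_of_rep P₀ (by norm_num) (by rw [qd6_finrank]; norm_num)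
    refine hx fun v => ?_
    have h1 : ι₀ x ∈ S.Nh hi := (hnorm _).1 (hle (hι₀G x)).1
    obtain ⟨w, hw⟩ := S.gsysN_of_mem_Nh hi (x := ⟨ι₀ x, by
      have := hι₀sim x; rwa [Sys.Sim, one_smul] at this⟩) h1 v
    refine ⟨w, ?_⟩
    rcases S.peq_iff.1 hw with e | e
    · left
      refine hι₀inj (Units.ext ?_)
      rw [map_mul, map_mul, map_inv, Sys.gsys_r, Sys.gsys_r, hι₀r, hι₀r]
      simpa [Sys.gsys_r, Sys.rI_val] using e
    · right
      refine hι₀inj (Units.ext ?_)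
      show _ = ((ι₀ (S₀.epsI * S₀.rI w) : GL (Fin 8) F) : Matrix (Fin 8) (Fin 8) F)
      rw [hι₀eps, map_mul, map_mul, map_inv, Sys.gsys_r, hι₀r, hι₀r]
      simpa [Sys.gsys_r, Sys.rI_val] using e
  have hin : ∀ x, x ∈ S.Nh hi → x ∈ GU 8 F q → (x : Matrix (Fin 8) (Fin 8) F).det = 1 → x ∈ M := fun x hx hu hd =>
    hHM ⟨(hnorm x).2 hx, hu, mem_specialLinear_iff.2 hd⟩
  have hσU : ∀ v, S.sigU hi v ∈ GU 8 F q := fun v => (hGU _).2 (by
    obtain ⟨X, hX⟩ : ∃ X, X = (S.r v : Matrix (Fin 8) (Fin 8) F) := ⟨_, rfl⟩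
    have hXX : Xᵀ * X.map φ = 1 := hX ▸ (hGU _).1 (hRU (hlab.r_mem v))
    have hX2 : X * X = sg F (S.q v) • (1 : Matrix (Fin 8) (Fin 8) F) := hX ▸ S.sq v
    have hmapX : X.map φ = sg F (S.q v) • Xᵀ := by
      have h := congrArg (fun Y => Y * X.map φ) (congrArg Matrix.transpose hX2)
      simp only [Matrix.transpose_mul, mul_assoc, hXX, mul_one, Matrix.transpose_smul, Matrix.transpose_one,
        Algebra.smul_mul_assoc, one_mul] at h
      rw [h, smul_smul, sg_sq, one_smul]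
    have hph : φ (S.ph i v) * sg F (S.q v) = S.ph i v := by
      rcases z2_cases (S.q v) with e | e
      · rw [Sys.ph, if_pos e, map_one, e, sg_zero, one_mul]
      · rw [Sys.ph, if_neg (by rw [e]; exact one_ne_zero), hφi, e, sg_one, neg_mul_neg, mul_one]
    have hinv : (S.inv2 i v).map φ = (S.inv2 i v)ᵀ := by
      rw [Sys.inv2, ← hX, Matrix.transpose_smul, Matrix.map_smul' φ _ _ (map_mul φ), hmapX, smul_smul, hph]
    have hσ : ((S.sigU hi v : GL (Fin 8) F) : Matrix (Fin 8) (Fin 8) F).map φ =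
        (((S.sigU hi v)⁻¹ : GL (Fin 8) F) : Matrix (Fin 8) (Fin 8) F)ᵀ := by
      rw [Sys.sigU_val, Sys.sigU_inv, Matrix.transpose_add, Matrix.transpose_smul, Matrix.transpose_smul,
        Matrix.transpose_one, Matrix.map_add φ (map_add φ), Matrix.map_smul' φ _ _ (map_mul φ),
        Matrix.map_smul' φ _ _ (map_mul φ), hinv, Matrix.map_one φ (map_zero φ) (map_one φ)]
      simp only [map_div₀, map_add, map_sub, map_neg, map_one, hφi, map_ofNat, sub_eq_add_neg, neg_neg]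
    rw [hσ, ← Matrix.transpose_mul, Units.inv_mul, Matrix.transpose_one])
  have G : S.Gen hi M := ⟨fun v => hin _ (S.Rh_le_Nh hi (S.r_mem_Rh hi v)) (hRU (hlab.r_mem v)) (hMS.det_r hι hsk v),
    fun v => hin _ (S.sigU_mem_Nh hi v) (hσU v) (hMS.det_sigU hi hι hsk v),
    hin _ (S.Rh_le_Nh hi (S.iU_mem_Rh hi)) (hRU (hlab.i_mem hi)) (hMS.det_iU hi hι hsk)⟩
  have hMN : ¬ M ≤ S.Nh hi := fun hle => hgH ⟨(hnorm g).2 (hle hgM), hMK hgM⟩
  obtain ⟨y, hyM, hyN, hyi⟩ := S.exists_isometry hi qd6_finrank (hQ ▸ qd6_noHalf) G hMN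
  obtain ⟨x₁, hx₁⟩ := hrat y (hMK hyM) (by rw [Sys.Sim, one_smul]; exact hyi)
  obtain ⟨H, hH⟩ : ∃ H, H = M.comap ι₀ := ⟨_, rfl⟩
  have htop : H = ⊤ := S₀.symp_six P₀ qd6_finrank (hQ₀ ▸ qd6_noHalf) hp₀
    (fun x hx => by
      rw [hH]
      exact hHM ⟨(hnorm _).2 (hι₀N x hx.1), hι₀G x⟩)
    fun hle => hyN (hx₁ ▸ hι₀N x₁ (hle (show x₁ ∈ H by rw [hH, Subgroup.mem_comap, hx₁]; exact hyM)))
  have hiso : ∀ z ∈ GU 8 F q ⊓ Geo.specialLinear (Fin 8) F, S.Sim (z : Matrix (Fin 8) (Fin 8) F) 1 → z ∈ M :=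
    fun z hz hs => by
      obtain ⟨x, rfl⟩ := hrat z hz hs
      have : x ∈ H := htop ▸ Subgroup.mem_top _
      rwa [hH, Subgroup.mem_comap] at this
  obtain ⟨v₁, hv₁⟩ : ∃ v : V6, S.q v = 1 := ⟨Pi.single (.inl 0) 1, by rw [hq]; decide⟩
  have hKM : Geo.subfieldSubgroup F₀ P ⊓ (GU 8 F q ⊓ Geo.specialLinear (Fin 8) F) ≤ M := fun z hz => by
    obtain ⟨ν, hν⟩ := hKsim z hz
    refine S.sim_mem hi hiso hMK hv₁ (G.sig_mem v₁) G.i_mem hz.2 ?_ hν
    rw [← hMS.det_sim hι hsk hν]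
    exact mem_specialLinear_iff.1 hz.2.2
  have hherm : ∀ u w : Fin 8 → F, (∀ i, w i ∈ F₀) →
      hermForm 8 F q (Pm *ᵥ u) (Pm *ᵥ w) = c * (u ⬝ᵥ (J *ᵥ w)) := fun u w hw => by
    have e0 : hermForm 8 F q (Pm *ᵥ u) (Pm *ᵥ w) = (Pm *ᵥ u) ⬝ᵥ (fun i => φ ((Pm *ᵥ w) i)) := by
      simp only [hermForm, dotProduct, hφa]
    rw [e0, show (fun i => φ ((Pm *ᵥ w) i)) = Pm.map φ *ᵥ w from funext fun i => by
      rw [RingHom.map_mulVec, show (φ ∘ w) = w from funext fun i => hφ0 _ (hw i)],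
      dotProduct_mulVec, ← vecMul_transpose, vecMul_vecMul, hPm, D.herm, ← dotProduct_mulVec, smul_mulVec,
      dotProduct_smul, smul_eq_mul]
  have hrat' : Geo.IsFormRationalStructure (hermForm 8 F q) F₀ c⁻¹ P := fun u w hu hw => by
    rw [← hPm, hherm u w hw, inv_mul_cancel_left₀ hc0]
    exact sum_mem fun j _ => mul_mem (hu j) (hJrat w hw j)
  have halt : ∀ u : Fin 8 → F, (∀ i, u i ∈ F₀) → hermForm 8 F q ((P : Matrix (Fin 8) (Fin 8) F) *ᵥ u)
      ((P : Matrix (Fin 8) (Fin 8) F) *ᵥ u) = 0 := fun u hu => by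
    rw [← hPm, hherm u u hu, show u ⬝ᵥ (J *ᵥ u) = 0 from FormSim.bf_self_zero_of_skew h2 D.skew u, mul_zero]
  have hmax := MaxTv.unitary_symplectic_maximal_six hF (by norm_num) F₀ (by rw [hF₀card]; exact hF) c⁻¹
    (inv_ne_zero hc0) P hrat' halt
  rcases hmax.2 M hKM hMK with e | e
  · exfalso
    obtain ⟨v₀, hv₀, hv₀0⟩ : ∃ v : V6, S.q v = 0 ∧ v ≠ 0 :=
      ⟨Pi.single (.inl 1) 1, by rw [hq]; decide, by decide⟩
    have hmem' := G.sig_mem v₀
    rw [e] at hmem'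
    obtain ⟨ν, hν⟩ := hKsim _ hmem'
    exact S.not_sim_sigU hi hv₀0 hv₀ ν hν
  · exact e ▸ le_refl _

end Cfsg.Agent.Classical.CliffordTwo
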